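import Cfsg.Agent.Lib.A8Recog.Fusion

/-!
# Two elements of order three in the normaliser

helper1.  The lifts of the two maps of order three may be chosen commuting and normalised by a fixed
complement of the elementary abelian subgroup in the Sylow subgroup.
-/

set_option autoImplicit false
set_option maxRecDepth 100000
set_option Elab.async false

namespace Cfsg.Agent.Lib.A8Recog

universe u

/-- The first element of the complement. -/
def kA : Nat := 112

/-- The second element of the complement. -/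
def kB : Nat := 116

/-- The action of the first element. -/
def actA : Nat := 18481

/-- The action of the second element. -/
def actB : Nat := 27441

theorem chk_k : ((List.range 16).all fun i => Nat.beq (cjC kA (wC i)) (wC (lin actA i)) &&
    Nat.beq (cjC kB (wC i)) (wC (lin actB i))) = true ∧
    mulC kA kA = 0 ∧ mulC kB kB = 0 ∧ mulC kA kB = mulC kB kA := by decide +kernel

theorem chk_cube : ([sigA, sigB].all fun σ => (List.range 16).all fun i =>
    Nat.beq (lin σ (lin σ (lin σ i))) i && Nat.beq (Nat.xor (Nat.xor i (lin σ i)) (lin σ (lin σ i))) 0) = true := by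
  decide +kernel

theorem chk_fix : ((List.range 16).all fun c => (List.range 16).any fun a =>
    Nat.beq (Nat.xor (lin sigA a) c) a) = true ∧
    ((List.range 16).all fun d => !Nat.beq (lin sigA d) d || Nat.beq d 0) = true := by decide +kernel

theorem chk_adjust : ((List.range 16).all fun c => (List.range 16).all fun d =>
    !(Nat.beq (Nat.xor (lin actA c) c) 0 && Nat.beq (Nat.xor (lin actB d) (lin sigA d)) 0 &&
      Nat.beq (Nat.xor (lin actA d) (lin sigA (lin sigA c))) (Nat.xor (lin actB c) d)) ||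
    (List.range 16).any fun a => Nat.beq (Nat.xor (lin actA a) c) a &&
      Nat.beq (Nat.xor (lin actB a) d) (lin sigA (lin sigA a))) = true := by decide +kernel

theorem chk_conj : ((List.range 16).all fun i =>
    Nat.beq (lin actA (lin sigA (lin actA i))) (lin sigA i) &&
    Nat.beq (lin actB (lin sigA (lin actB i))) (lin sigA (lin sigA i)) &&
    Nat.beq (lin actA (lin sigB (lin actA i))) (lin sigB (lin sigB i)) &&
    Nat.beq (lin actB (lin sigB (lin actB i))) (lin sigB i) &&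
    Nat.beq (lin sigA (lin sigB i)) (lin sigB (lin sigA i))) = true := by decide +kernel

namespace Emb

variable {G : Type u} [Group G] [Finite G] (E : Emb G)

/-- The two elements of order three. -/
structure Amal (n m : G) : Prop where
  actN : E.Acts n sigA
  actM : E.Acts m sigB
  cubeN : n ^ 3 = 1
  cubeM : m ^ 3 = 1
  comm : n * m = m * n
  kAn : E.ι kA * n * E.ι kA = n
  kBn : E.ι kB * n * E.ι kB = n⁻¹
  kAm : E.ι kA * m * E.ι kA = m⁻¹
  kBm : E.ι kB * m * E.ι kB = m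

theorem k_sq : E.ι kA * E.ι kA = 1 ∧ E.ι kB * E.ι kB = 1 ∧ E.ι kA * E.ι kB = E.ι kB * E.ι kA := by
  obtain ⟨-, h1, h2, h3⟩ := chk_k
  exact ⟨by rw [← E.map_mul _ (by decide) _ (by decide), h1, E.map_zero],
    by rw [← E.map_mul _ (by decide) _ (by decide), h2, E.map_zero],
    by rw [← E.map_mul _ (by decide) _ (by decide), h3, E.map_mul _ (by decide) _ (by decide)]⟩

theorem k_acts : E.Acts (E.ι kA) actA ∧ E.Acts (E.ι kB) actB := by
  have h : ∀ i < 16, cjC kA (wC i) = wC (lin actA i) ∧ cjC kB (wC i) = wC (lin actB i) := fun i hi => by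
    have := all_range chk_k.1 hi
    simp only [Bool.and_eq_true] at this
    exact ⟨Nat.eq_of_beq_eq_true this.1, Nat.eq_of_beq_eq_true this.2⟩
  exact ⟨fun i hi => by rw [w, w, ← E.map_cj (by decide) (wC_lt hi), (h i hi).1],
    fun i hi => by rw [w, w, ← E.map_cj (by decide) (wC_lt hi), (h i hi).2]⟩

theorem acts_mul {p q : G} {g h k : ℕ} (hp : E.Acts p g) (hq : E.Acts q h)
    (e : ∀ i < 16, lin g (lin h i) = lin k i) : E.Acts (p * q) k :=
  fun i hi => (Acts.mul E hp hq i hi).trans (congrArg E.w (e i hi))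

/-- An element in the coset of another with the same action differs by an element of the subgroup. -/
theorem exists_w_mul {p q : G} {g : ℕ} (hp : E.Acts p g) (hq : E.Acts q g) : ∃ c < 16, p = E.w c * q := by
  have h : p * q⁻¹ ∈ E.wSub := E.mem_wSub_of_comm fun i hi => by
    obtain ⟨j, hj, e⟩ := (inv_mem (E.mem_nW_of_acts hq) : q⁻¹ ∈ E.nW) i hi
    rw [inv_inv] at e
    have e2 : E.w i = E.w (lin g j) := by rw [← hq j hj, ← e]; group
    refine mul_inv_eq_iff_eq_mul.1 ?_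
    calc p * q⁻¹ * E.w i * (p * q⁻¹)⁻¹ = p * (q⁻¹ * E.w i * q) * p⁻¹ := by group
      _ = E.w i := by rw [e, hp j hj, e2]
  obtain ⟨c, hc, e⟩ := h
  exact ⟨c, hc, by rw [e]; group⟩

/-- Some lift of a map of order three has order three. -/
theorem exists_cube {σ : ℕ} (hσ : σ ∈ [sigA, sigB]) {p : G} (hp : E.Acts p σ) :
    ∃ n, E.Acts n σ ∧ n ^ 3 = 1 := by
  have h3 : ∀ i < 16, lin σ (lin σ (lin σ i)) = i := fun i hi => by
    have := all_range (all_mem chk_cube hσ) hi
    simp only [Bool.and_eq_true] at this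
    exact Nat.eq_of_beq_eq_true this.1
  have h1 : p ^ 3 ∈ E.wSub := E.mem_wSub_of_comm fun i hi => by
    refine mul_inv_eq_iff_eq_mul.1 ?_
    calc p ^ 3 * E.w i * (p ^ 3)⁻¹ = p * ((p * p) * E.w i * (p * p)⁻¹) * p⁻¹ := by
          rw [pow_succ', pow_two]; group
      _ = E.w i := by rw [Acts.mul E hp hp i hi, hp _ (lin_lt _ _), h3 i hi]
  obtain ⟨c, hc, e⟩ := h1
  refine ⟨p ^ 4, fun i hi => ?_, ?_⟩
  · rw [show p ^ 4 = p ^ 3 * p by group, ← e]
    calc E.w c * p * E.w i * (E.w c * p)⁻¹ = E.w c * (p * E.w i * p⁻¹) * (E.w c)⁻¹ := by group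
      _ = E.w (lin σ i) := by rw [hp i hi, E.w_comm hc (lin_lt _ _), mul_inv_cancel_right]
  · rw [← pow_mul, show 4 * 3 = 3 * 4 by rfl, pow_mul, ← e, pow_succ, pow_succ, pow_two, E.w_sq hc, one_mul,
      E.w_sq hc]

/-- Multiplying a lift of order three by an element of the subgroup keeps the order. -/
theorem cube_w_mul {σ : ℕ} (hσ : σ ∈ [sigA, sigB]) {n : G} (hn : E.Acts n σ) (h3 : n ^ 3 = 1) {a : ℕ}
    (ha : a < 16) : E.Acts (E.w a * n) σ ∧ (E.w a * n) ^ 3 = 1 := by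
  refine ⟨fun i hi => ?_, ?_⟩
  · calc E.w a * n * E.w i * (E.w a * n)⁻¹ = E.w a * (n * E.w i * n⁻¹) * (E.w a)⁻¹ := by group
      _ = E.w (lin σ i) := by rw [hn i hi, E.w_comm ha (lin_lt _ _), mul_inv_cancel_right]
  · have h := all_range (all_mem chk_cube hσ) ha
    simp only [Bool.and_eq_true] at h
    have e : Nat.xor (Nat.xor a (lin σ a)) (lin σ (lin σ a)) = 0 := Nat.eq_of_beq_eq_true h.2
    calc (E.w a * n) ^ 3
        = E.w a * (n * E.w a * n⁻¹) * (n * (n * E.w a * n⁻¹) * n⁻¹) * n ^ 3 := by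
          rw [pow_succ, pow_two, pow_succ, pow_two]; group
      _ = E.w (Nat.xor (Nat.xor a (lin σ a)) (lin σ (lin σ a))) := by
          rw [hn a ha, hn _ (lin_lt _ _), h3, mul_one, E.w_mul ha (lin_lt _ _),
            E.w_mul (Nat.xor_lt_two_pow (n := 4) ha (lin_lt _ _)) (lin_lt _ _)]
          rfl
      _ = 1 := by rw [e, E.w_zero]

variable {E}

theorem Fused.exists_amal (h : E.Fused) : ∃ n m, E.Amal n m := by
  obtain ⟨⟨p, hp⟩, q, hq⟩ := h.exists_sigma
  obtain ⟨g, hg, g3⟩ := E.exists_cube (by simp) hp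
  obtain ⟨f, hf, f3⟩ := E.exists_cube (by simp) hq
  obtain ⟨kA2, kB2, kc⟩ := E.k_sq
  obtain ⟨hA, hB⟩ := E.k_acts
  have hX : ∀ {a b : ℕ}, a < 16 → b < 16 → a ^^^ b < 16 := fun ha hb => Nat.xor_lt_two_pow (n := 4) ha hb
  have hcj : ∀ i < 16, lin actA (lin sigA (lin actA i)) = lin sigA i ∧
      lin actB (lin sigA (lin actB i)) = lin sigA (lin sigA i) ∧
      lin actA (lin sigB (lin actA i)) = lin sigB (lin sigB i) ∧
      lin actB (lin sigB (lin actB i)) = lin sigB i ∧
      lin sigA (lin sigB i) = lin sigB (lin sigA i) := fun i hi => by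
    have := all_range chk_conj hi
    simp only [Bool.and_eq_true] at this
    obtain ⟨⟨⟨⟨a, b⟩, c⟩, d⟩, e⟩ := this
    exact ⟨Nat.eq_of_beq_eq_true a, Nat.eq_of_beq_eq_true b, Nat.eq_of_beq_eq_true c, Nat.eq_of_beq_eq_true d,
      Nat.eq_of_beq_eq_true e⟩
  have inv3 : ∀ {x : G}, x ^ 3 = 1 → x⁻¹ = x * x := fun {x} hx =>
    inv_eq_of_mul_eq_one_right (by rwa [← mul_assoc, ← sq, ← pow_succ])
  have conjW : ∀ (k : G) (a : ℕ) (t : G), a < 16 → k * k = 1 → ∀ {s : ℕ}, E.Acts k s →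
      k * (E.w a * t) * k = E.w (lin s a) * (k * t * k) := by
    intro k a t ha hk s hs
    calc k * (E.w a * t) * k = (k * E.w a * k⁻¹) * (k * t * k) := by group
      _ = _ := by rw [hs a ha]
  have act3 : ∀ (k : G) {s σ : ℕ} {t : G}, k * k = 1 → E.Acts k s → E.Acts t σ → ∀ i < 16,
      k * t * k * E.w i * (k * t * k)⁻¹ = E.w (lin s (lin σ (lin s i))) := by
    intro k s σ t hk hs ht i hi
    have hk' : k⁻¹ = k := inv_eq_of_mul_eq_one_right hk
    rw [← hs _ (lin_lt _ _), ← ht _ (lin_lt _ _), ← hs i hi]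
    simp only [mul_inv_rev, hk', mul_assoc]
  have hg2 : ∀ i < 16, (g * g) * E.w i * (g * g)⁻¹ = E.w (lin sigA (lin sigA i)) := Acts.mul E hg hg
  -- the conjugates of `g` by the complement
  obtain ⟨c, hc, ec⟩ : ∃ c < 16, E.ι kA * g * E.ι kA = E.w c * g := by
    refine E.exists_w_mul (g := sigA) (fun i hi => ?_) hg
    rw [act3 _ kA2 hA hg i hi, (hcj i hi).1]
  obtain ⟨d, hd, ed⟩ : ∃ d < 16, E.ι kB * g * E.ι kB = E.w d * g⁻¹ := by
    have h1 : E.ι kB * g * E.ι kB * g ∈ E.wSub := E.mem_wSub_of_comm fun i hi => by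
      refine mul_inv_eq_iff_eq_mul.1 ?_
      calc E.ι kB * g * E.ι kB * g * E.w i * (E.ι kB * g * E.ι kB * g)⁻¹
          = E.ι kB * g * E.ι kB * (g * E.w i * g⁻¹) * (E.ι kB * g * E.ι kB)⁻¹ := by group
        _ = E.w (lin sigA (lin sigA (lin sigA i))) := by
          rw [hg i hi, act3 _ kB2 hB hg _ (lin_lt _ _), (hcj _ (lin_lt _ _)).2.1]
        _ = E.w i := by
          have := all_range (all_mem chk_cube (show sigA ∈ [sigA, sigB] by simp)) hi
          simp only [Bool.and_eq_true] at this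
          rw [Nat.eq_of_beq_eq_true this.1]
    obtain ⟨d, hd, e⟩ := h1
    exact ⟨d, hd, by rw [e]; group⟩
  -- the consistency of `c` and `d`
  have g1 : ∀ {a : ℕ}, a < 16 → (E.w a * g)⁻¹ = E.w (lin sigA (lin sigA a)) * g⁻¹ := fun {a} ha => by
    rw [← hg2 a ha, mul_inv_rev, E.w_inv ha, inv3 g3]; group
  have g1' : ∀ {a : ℕ}, a < 16 → (E.w a * g⁻¹)⁻¹ = E.w (lin sigA a) * g := fun {a} ha => by
    rw [← hg a ha, mul_inv_rev, E.w_inv ha]; group
  have cons1 : lin actA c ^^^ c = 0 := by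
    refine E.w_inj (hX (lin_lt _ _) hc) (by norm_num) ?_
    rw [← E.w_mul (lin_lt _ _) hc, E.w_zero]
    have := conjW (E.ι kA) c g hc kA2 hA
    rw [ec, ← ec, show E.ι kA * (E.ι kA * g * E.ι kA) * E.ι kA = (E.ι kA * E.ι kA) * g * (E.ι kA * E.ι kA) by group,
      kA2, one_mul, mul_one] at this
    rw [ec] at this
    exact mul_eq_right.1 (by rw [mul_assoc]; exact this.symm)
  have cons2 : lin actB d ^^^ lin sigA d = 0 := by
    refine E.w_inj (hX (lin_lt _ _) (lin_lt _ _)) (by norm_num) ?_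
    rw [← E.w_mul (lin_lt _ _) (lin_lt _ _), E.w_zero]
    have := conjW (E.ι kB) d g⁻¹ hd kB2 hB
    have e : E.ι kB * g⁻¹ * E.ι kB = (E.ι kB * g * E.ι kB)⁻¹ := by
      rw [mul_inv_rev, mul_inv_rev, inv_eq_of_mul_eq_one_right kB2]; group
    rw [e, ed, g1' hd, ← ed, show E.ι kB * (E.ι kB * g * E.ι kB) * E.ι kB = (E.ι kB * E.ι kB) * g * (E.ι kB * E.ι kB) by
      group, kB2, one_mul, mul_one] at this
    exact mul_eq_right.1 (by rw [mul_assoc]; exact this.symm)
  have cons3 : lin actA d ^^^ lin sigA (lin sigA c) = lin actB c ^^^ d := by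
    refine E.w_inj (hX (lin_lt _ _) (lin_lt _ _)) (hX (lin_lt _ _) hd) ?_
    rw [← E.w_mul (lin_lt _ _) (lin_lt _ _), ← E.w_mul (lin_lt _ _) hd]
    have e1 := conjW (E.ι kA) d g⁻¹ hd kA2 hA
    have e2 := conjW (E.ι kB) c g hc kB2 hB
    have e : E.ι kA * g⁻¹ * E.ι kA = (E.ι kA * g * E.ι kA)⁻¹ := by
      rw [mul_inv_rev, mul_inv_rev, inv_eq_of_mul_eq_one_right kA2]; group
    rw [e, ec, g1 hc, ← ed] at e1
    rw [ed, ← ec] at e2
    have e3 : E.ι kA * (E.ι kB * g * E.ι kB) * E.ι kA = E.ι kB * (E.ι kA * g * E.ι kA) * E.ι kB := by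
      calc E.ι kA * (E.ι kB * g * E.ι kB) * E.ι kA = (E.ι kA * E.ι kB) * g * (E.ι kB * E.ι kA) := by group
        _ = (E.ι kB * E.ι kA) * g * (E.ι kA * E.ι kB) := congrArg₂ (fun x y => x * g * y) kc kc.symm
        _ = _ := by group
    rw [e3, e2, ← mul_assoc, ← mul_assoc] at e1
    exact (mul_right_cancel e1).symm
  have hadj := all_range (all_range chk_adjust hc) hd
  have hcond : (Nat.beq (Nat.xor (lin actA c) c) 0 && Nat.beq (Nat.xor (lin actB d) (lin sigA d)) 0 &&
      Nat.beq (Nat.xor (lin actA d) (lin sigA (lin sigA c))) (Nat.xor (lin actB c) d)) = true := by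
    change (Nat.beq (lin actA c ^^^ c) 0 && Nat.beq (lin actB d ^^^ lin sigA d) 0 &&
      Nat.beq (lin actA d ^^^ lin sigA (lin sigA c)) (lin actB c ^^^ d)) = true
    rw [cons1, cons2, cons3]
    simp
  rw [hcond, Bool.not_true, Bool.false_or] at hadj
  obtain ⟨a, ha', haa⟩ := List.any_eq_true.1 hadj
  have ha := List.mem_range.1 ha'
  simp only [Bool.and_eq_true] at haa
  obtain ⟨hn, n3⟩ := E.cube_w_mul (by simp) hg g3 ha
  set n := E.w a * g with hndef
  have kAn : E.ι kA * n * E.ι kA = n := by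
    rw [hndef, conjW _ a g ha kA2 hA, ec, ← mul_assoc, E.w_mul (lin_lt _ _) hc]
    exact congrArg (fun j => E.w j * g) (Nat.eq_of_beq_eq_true haa.1)
  have kBn : E.ι kB * n * E.ι kB = n⁻¹ := by
    rw [hndef, conjW _ a g ha kB2 hB, ed, g1 ha, ← mul_assoc, E.w_mul (lin_lt _ _) hd]
    exact congrArg (fun j => E.w j * g⁻¹) (Nat.eq_of_beq_eq_true haa.2)
  -- the second element
  obtain ⟨r, hr, er⟩ : ∃ r < 16, n * f * n⁻¹ = E.w r * f := by
    refine E.exists_w_mul (g := sigB) (fun i hi => ?_) hf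
    obtain ⟨j, hj, e⟩ := (inv_mem (E.mem_nW_of_acts hn) : n⁻¹ ∈ E.nW) i hi
    rw [inv_inv] at e
    have e2 : E.w i = E.w (lin sigA j) := by rw [← hn j hj, ← e]; group
    calc n * f * n⁻¹ * E.w i * (n * f * n⁻¹)⁻¹ = n * (f * (n⁻¹ * E.w i * n) * f⁻¹) * n⁻¹ := by group
      _ = E.w (lin sigB i) := by
        rw [e, hf j hj, hn _ (lin_lt _ _), (hcj j hj).2.2.2.2, ← E.w_inj hi (lin_lt _ _) e2]
  obtain ⟨b, hb', hbb⟩ := List.any_eq_true.1 (all_range chk_fix.1 hr)
  have hb := List.mem_range.1 hb'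
  obtain ⟨hm, m3⟩ := E.cube_w_mul (by simp) hf f3 hb
  set m := E.w b * f with hmdef
  have hnm : n * m = m * n := by
    refine mul_inv_eq_iff_eq_mul.1 ?_
    calc n * m * n⁻¹ = (n * E.w b * n⁻¹) * (n * f * n⁻¹) := by rw [hmdef]; group
      _ = m := by
        rw [hn b hb, er, ← mul_assoc, E.w_mul (lin_lt _ _) hr]
        exact congrArg (fun j => E.w j * f) (Nat.eq_of_beq_eq_true hbb)
  have huniq : ∀ {σ : ℕ} {x y : G}, E.Acts x σ → E.Acts y σ → n * x = x * n → n * y = y * n → x = y := by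
    intro σ x y hx hy hnx hny
    obtain ⟨e, he, rfl⟩ := E.exists_w_mul hx hy
    have : n * E.w e * n⁻¹ = E.w e := by
      refine mul_right_cancel (b := n * y) ?_
      calc n * E.w e * n⁻¹ * (n * y) = n * (E.w e * y) := by group
        _ = E.w e * y * n := hnx
        _ = E.w e * (n * y) := by rw [mul_assoc, hny]
    rw [hn e he] at this
    have := all_range chk_fix.2 he
    rw [E.w_inj (lin_lt _ _) he ‹E.w (lin sigA e) = E.w e›] at this
    simp at this
    rw [this, E.w_zero, one_mul]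
  have kAm : E.ι kA * m * E.ι kA = m⁻¹ := by
    have h2 : ∀ i < 16, m⁻¹ * E.w i * m⁻¹⁻¹ = E.w (lin sigB (lin sigB i)) := fun i hi => by
      rw [inv3 m3]; exact Acts.mul E hm hm i hi
    obtain ⟨σ, hσ, -, hσ'⟩ := E.exists_acts (m := m⁻¹) (inv_mem (E.mem_nW_of_acts hm))
    refine huniq (σ := σ) (fun i hi => ?_) hσ' ?_ ?_
    · rw [act3 _ kA2 hA hm i hi, (hcj i hi).2.2.1, ← h2 i hi, hσ' i hi]
    · calc n * (E.ι kA * m * E.ι kA) = (E.ι kA * n * E.ι kA) * (E.ι kA * m * E.ι kA) := by rw [kAn]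
        _ = E.ι kA * (n * ((E.ι kA * E.ι kA) * m)) * E.ι kA := by group
        _ = E.ι kA * (m * ((E.ι kA * E.ι kA) * n)) * E.ι kA := by rw [kA2, one_mul, one_mul, hnm]
        _ = (E.ι kA * m * E.ι kA) * (E.ι kA * n * E.ι kA) := by group
        _ = _ := by rw [kAn]
    · exact (Commute.inv_right hnm).eq
  have kBm : E.ι kB * m * E.ι kB = m := by
    refine huniq (σ := sigB) (fun i hi => ?_) hm ?_ hnm
    · rw [act3 _ kB2 hB hm i hi, (hcj i hi).2.2.2.1]
    · have e : E.ι kB * n⁻¹ * E.ι kB = n := by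
        rw [← kBn, show E.ι kB * (E.ι kB * n * E.ι kB) * E.ι kB = (E.ι kB * E.ι kB) * n * (E.ι kB * E.ι kB) by group,
          kB2, one_mul, mul_one]
      calc n * (E.ι kB * m * E.ι kB) = (E.ι kB * n⁻¹ * E.ι kB) * (E.ι kB * m * E.ι kB) := by rw [e]
        _ = E.ι kB * (n⁻¹ * ((E.ι kB * E.ι kB) * m)) * E.ι kB := by group
        _ = E.ι kB * (m * ((E.ι kB * E.ι kB) * n⁻¹)) * E.ι kB := by
          rw [kB2, one_mul, one_mul, (Commute.inv_left hnm).eq]
        _ = (E.ι kB * m * E.ι kB) * (E.ι kB * n⁻¹ * E.ι kB) := by group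
        _ = _ := by rw [e]
  exact ⟨n, m, hn, hm, n3, m3, hnm, kAn, kBn, kAm, kBm⟩

end Emb

end Cfsg.Agent.Lib.A8Recog
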