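import Cfsg.Agent.Lib.A8Recog.Code

/-!
# The computed facts about the model

helper1.
-/

set_option autoImplicit false
set_option maxRecDepth 100000
set_option Elab.async false

namespace Cfsg.Agent.Lib.A8Recog

/-- An involution of the model. -/
def isInv (x : Nat) : Bool := !Nat.beq x 0 && Nat.beq (mulC x x) 0

/-- Two elements commute. -/
def comC (x y : Nat) : Bool := Nat.beq (mulC x y) (mulC y x)

/-- Membership in the elementary abelian subgroup. -/
def inW (x : Nat) : Bool := (List.range 16).any fun i => Nat.beq (wC i) x

/-- The involutions of the Sylow subgroup. -/
def sylInv : List Nat := sylList.filter isInv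

theorem chk_mul : ((List.range 192).all fun x => (List.range 192).all fun y => Nat.blt (mulC x y) 192)
    = true := by decide +kernel

theorem chk_inv : ((List.range 192).all fun x =>
    Nat.blt (invC x) 192 && Nat.beq (mulC x (invC x)) 0) = true := by decide +kernel

theorem chk_cen : ((List.range 192).all fun x => comC sC x) = true := by decide +kernel

theorem chk_syl : (sylList.all fun x => Nat.blt x 192 && sylList.all fun y => sylList.contains (mulC x y))
    = true := by decide +kernel

theorem chk_syl_inv : (sylList.all fun x => sylList.contains (invC x)) = true := by decide +kernel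

theorem chk_syl_nodup : sylList.Nodup ∧ sylList.length = 64 ∧ sC ∈ sylList := by decide +kernel

theorem chk_syl_cen : ((List.range 192).all fun x =>
    Nat.beq x 0 || Nat.beq x sC || sylList.any fun s => !comC x s) = true := by decide +kernel

theorem chk_w : ((List.range 16).all fun i => Nat.blt (wC i) 192 && sylList.contains (wC i) &&
    (List.range 16).all fun j => Nat.beq (mulC (wC i) (wC j)) (wC (Nat.xor i j)) &&
      (Nat.beq i j || !Nat.beq (wC i) (wC j))) = true := by decide +kernel

theorem chk_w_val : wC 0 = 0 ∧ wC 1 = sC := by decide +kernel

theorem chk_cw : ((List.range 192).all fun x =>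
    !((List.range 16).all fun i => comC x (wC i)) || inW x) = true := by decide +kernel

theorem chk_exponent : (sylList.all fun x => Nat.beq (mulC (mulC x x) (mulC x x)) 0) = true := by
  decide +kernel

theorem chk_unique : (sylInv.all fun x => inW x ||
    Nat.blt ((sylInv.filter fun y => comC x y).length + 1) 16) = true := by decide +kernel

end Cfsg.Agent.Lib.A8Recog
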