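import Mathlib
import Cfsg.Agent.Lib.A8Recog.Checks

/-!
# The embedded model

helper1.  A copy of the model in a group `G` as the centraliser of an involution, the elementary
abelian subgroup of order 16, and its normaliser.
-/

set_option autoImplicit false
set_option linter.style.haveILetI false

open Subgroup

namespace Cfsg.Agent.Lib.A8Recog

universe u

theorem all_range {n : Nat} {f : Nat → Bool} (h : (List.range n).all f = true) {x : Nat} (hx : x < n) :
    f x = true := List.all_eq_true.1 h x (List.mem_range.2 hx)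

theorem all_mem {α : Type} {l : List α} {f : α → Bool} (h : l.all f = true) {x : α} (hx : x ∈ l) :
    f x = true := List.all_eq_true.1 h x hx

theorem mulC_lt {x y : Nat} (hx : x < 192) (hy : y < 192) : mulC x y < 192 :=
  Nat.le_of_ble_eq_true (all_range (all_range chk_mul hx) hy)

theorem invC_lt {x : Nat} (hx : x < 192) : invC x < 192 := by
  have h := all_range chk_inv hx
  simp only [Bool.and_eq_true] at h
  exact Nat.le_of_ble_eq_true h.1

theorem mulC_invC {x : Nat} (hx : x < 192) : mulC x (invC x) = 0 := by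
  have h := all_range chk_inv hx
  simp only [Bool.and_eq_true] at h
  exact Nat.eq_of_beq_eq_true h.2

theorem wC_lt {i : Nat} (hi : i < 16) : wC i < 192 := by
  have h := all_range chk_w hi
  simp only [Bool.and_eq_true] at h
  exact Nat.le_of_ble_eq_true h.1.1

theorem mem_inW {x : Nat} (h : inW x = true) : ∃ i < 16, wC i = x := by
  obtain ⟨i, hi, hix⟩ := List.any_eq_true.1 h
  exact ⟨i, List.mem_range.1 hi, Nat.eq_of_beq_eq_true hix⟩

/-- The model embedded as the centraliser of an involution. -/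
structure Emb (G : Type u) [Group G] where
  /-- The map on codes. -/
  ι : ℕ → G
  map_mul : ∀ x < 192, ∀ y < 192, ι (mulC x y) = ι x * ι y
  inj : ∀ x < 192, ∀ y < 192, ι x = ι y → x = y
  range : ∀ g : G, g * ι sC = ι sC * g → ∃ x < 192, ι x = g

variable {G : Type u} [Group G]

namespace Emb

variable (E : Emb G)

/-- The central involution. -/
def t : G := E.ι sC

/-- The elements of the elementary abelian subgroup. -/
def w (i : ℕ) : G := E.ι (wC i)

theorem map_zero : E.ι 0 = 1 := by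
  have h := E.map_mul 0 (by norm_num) 0 (by norm_num)
  rw [show mulC 0 0 = 0 from by decide +kernel] at h
  exact mul_eq_left.1 h.symm

theorem map_inv {x : ℕ} (hx : x < 192) : E.ι (invC x) = (E.ι x)⁻¹ := by
  refine (inv_eq_of_mul_eq_one_right ?_).symm
  rw [← E.map_mul x hx _ (invC_lt hx), mulC_invC hx, E.map_zero]

theorem map_cj {g x : ℕ} (hg : g < 192) (hx : x < 192) :
    E.ι (cjC g x) = E.ι g * E.ι x * (E.ι g)⁻¹ := by
  rw [cjC, E.map_mul _ (mulC_lt hg hx) _ (invC_lt hg), E.map_mul g hg x hx, E.map_inv hg]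

theorem commute_iff {x y : ℕ} (hx : x < 192) (hy : y < 192) :
    comC x y = true ↔ E.ι x * E.ι y = E.ι y * E.ι x := by
  rw [← E.map_mul x hx y hy, ← E.map_mul y hy x hx, comC]
  constructor
  · intro h; rw [Nat.eq_of_beq_eq_true h]
  · intro h; rw [E.inj _ (mulC_lt hx hy) _ (mulC_lt hy hx) h]; simp

theorem comm_t {x : ℕ} (hx : x < 192) : E.ι x * E.t = E.t * E.ι x :=
  ((E.commute_iff (by decide) hx).1 (all_range chk_cen hx)).symm

theorem t_eq_w : E.t = E.w 1 := by rw [t, w, chk_w_val.2]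

theorem w_zero : E.w 0 = 1 := by rw [w, chk_w_val.1, E.map_zero]

theorem w_mul {i j : ℕ} (hi : i < 16) (hj : j < 16) : E.w i * E.w j = E.w (i ^^^ j) := by
  have h := all_range chk_w hi
  simp only [Bool.and_eq_true] at h
  have h' := all_range h.2 hj
  simp only [Bool.and_eq_true] at h'
  rw [w, w, ← E.map_mul _ (wC_lt hi) _ (wC_lt hj), Nat.eq_of_beq_eq_true h'.1]
  rfl

theorem w_inj {i j : ℕ} (hi : i < 16) (hj : j < 16) (h : E.w i = E.w j) : i = j := by
  have he := E.inj _ (wC_lt hi) _ (wC_lt hj) h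
  have h := all_range chk_w hi
  simp only [Bool.and_eq_true] at h
  have h' := all_range h.2 hj
  simp only [Bool.and_eq_true, Bool.or_eq_true, Bool.not_eq_true'] at h'
  rcases h'.2 with h2 | h2
  · exact Nat.eq_of_beq_eq_true h2
  · rw [he] at h2; simp at h2

theorem w_sq {i : ℕ} (hi : i < 16) : E.w i * E.w i = 1 := by
  rw [E.w_mul hi hi, Nat.xor_self, E.w_zero]

theorem w_inv {i : ℕ} (hi : i < 16) : (E.w i)⁻¹ = E.w i := inv_eq_of_mul_eq_one_right (E.w_sq hi)

theorem w_comm {i j : ℕ} (hi : i < 16) (hj : j < 16) : E.w i * E.w j = E.w j * E.w i := by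
  rw [E.w_mul hi hj, E.w_mul hj hi, Nat.xor_comm]

theorem t_sq : E.t * E.t = 1 := by rw [E.t_eq_w]; exact E.w_sq (by norm_num)

theorem t_ne_one : E.t ≠ 1 := by
  rw [E.t_eq_w, ← E.w_zero]
  exact fun h => absurd (E.w_inj (by norm_num) (by norm_num) h) (by norm_num)

theorem isInv_iff {x : ℕ} (hx : x < 192) : isInv x = true ↔ orderOf (E.ι x) = 2 := by
  rw [orderOf_eq_prime_iff, sq, ← E.map_mul x hx x hx, ← E.map_zero, isInv]
  simp only [Bool.and_eq_true, Bool.not_eq_true']
  constructor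
  · rintro ⟨h0, h2⟩
    refine ⟨by rw [Nat.eq_of_beq_eq_true h2], fun h => ?_⟩
    rw [E.inj x hx 0 (by norm_num) h] at h0
    simp at h0
  · rintro ⟨h2, h0⟩
    rw [E.inj _ (mulC_lt hx hx) 0 (by norm_num) h2]
    refine ⟨?_, rfl⟩
    rw [Bool.eq_false_iff]
    intro h
    exact h0 (by rw [Nat.eq_of_beq_eq_true h])

/-- The normaliser of the elementary abelian subgroup. -/
def nW [Finite G] : Subgroup G where
  carrier := {g | ∀ i < 16, ∃ j < 16, g * E.w i * g⁻¹ = E.w j}
  one_mem' := fun i hi => ⟨i, hi, by simp⟩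
  mul_mem' := by
    intro g h hg hh i hi
    obtain ⟨j, hj, hj'⟩ := hh i hi
    obtain ⟨k, hk, hk'⟩ := hg j hj
    exact ⟨k, hk, by rw [← hk', ← hj']; group⟩
  inv_mem' := by
    intro g hg i hi
    let f : Fin 16 → Fin 16 := fun a => ⟨(hg a a.2).choose, (hg a a.2).choose_spec.1⟩
    have hf : Function.Injective f := by
      intro a b h
      have ha := (hg a a.2).choose_spec.2
      have hb := (hg b b.2).choose_spec.2
      have h' : (hg a a.2).choose = (hg b b.2).choose := congrArg Fin.val h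
      rw [h', ← hb] at ha
      exact Fin.ext (E.w_inj a.2 b.2 (mul_left_cancel (mul_right_cancel ha)))
    obtain ⟨a, ha⟩ := (Finite.injective_iff_surjective.1 hf) ⟨i, hi⟩
    refine ⟨a, a.2, ?_⟩
    have h := (hg a a.2).choose_spec.2
    rw [show (hg a a.2).choose = i from congrArg Fin.val ha] at h
    rw [← h]; group

theorem mem_nW [Finite G] {g : G} : g ∈ E.nW ↔ ∀ i < 16, ∃ j < 16, g * E.w i * g⁻¹ = E.w j := Iff.rfl

/-- The elementary abelian subgroup. -/
def wSub : Subgroup G where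
  carrier := {g | ∃ i < 16, E.w i = g}
  one_mem' := ⟨0, by norm_num, E.w_zero⟩
  mul_mem' := by
    rintro _ _ ⟨i, hi, rfl⟩ ⟨j, hj, rfl⟩
    exact ⟨i ^^^ j, Nat.xor_lt_two_pow (n := 4) hi hj, (E.w_mul hi hj).symm⟩
  inv_mem' := by
    rintro _ ⟨i, hi, rfl⟩
    exact ⟨i, hi, (E.w_inv hi).symm⟩

theorem mem_wSub {g : G} : g ∈ E.wSub ↔ ∃ i < 16, E.w i = g := Iff.rfl

theorem w_mem {i : ℕ} (hi : i < 16) : E.w i ∈ E.wSub := ⟨i, hi, rfl⟩

/-- Elements centralising the elementary abelian subgroup lie in it. -/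
theorem mem_wSub_of_comm {g : G} (h : ∀ i < 16, g * E.w i = E.w i * g) : g ∈ E.wSub := by
  obtain ⟨x, hx, rfl⟩ := E.range g (by
    have := h 1 (by norm_num); rwa [← E.t_eq_w] at this)
  have h' := all_range chk_cw hx
  simp only [Bool.or_eq_true, Bool.not_eq_true'] at h'
  rcases h' with h1 | h1
  · exfalso
    have : ((List.range 16).all fun i => comC x (wC i)) = true :=
      List.all_eq_true.2 fun i hi => (E.commute_iff hx (wC_lt (List.mem_range.1 hi))).2 (h i (List.mem_range.1 hi))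
    rw [this] at h1; simp at h1
  · obtain ⟨i, hi, rfl⟩ := mem_inW h1
    exact E.w_mem hi

/-- The centraliser of the involution. -/
def cT : Subgroup G := Subgroup.centralizer {E.t}

theorem mem_cT {g : G} : g ∈ E.cT ↔ ∃ x < 192, E.ι x = g := by
  rw [cT, mem_centralizer_singleton_iff]
  exact ⟨fun h => E.range g h, fun ⟨x, hx, e⟩ => e ▸ E.comm_t hx⟩

theorem card_cT : Nat.card E.cT = 192 := by
  let f : Fin 192 → E.cT := fun x => ⟨E.ι x, E.mem_cT.2 ⟨x, x.2, rfl⟩⟩
  have hf : Function.Bijective f := by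
    refine ⟨fun a b h => Fin.ext (E.inj a a.2 b b.2 (congrArg Subtype.val h)), ?_⟩
    rintro ⟨g, hg⟩
    obtain ⟨x, hx, rfl⟩ := E.mem_cT.1 hg
    exact ⟨⟨x, hx⟩, rfl⟩
  rw [← Nat.card_eq_of_bijective f hf, Nat.card_fin]

/-- The Sylow subgroup of the model. -/
def sylSub : Subgroup G where
  carrier := {g | ∃ x ∈ sylList, E.ι x = g}
  one_mem' := ⟨0, by decide, E.map_zero⟩
  mul_mem' := by
    rintro _ _ ⟨x, hx, rfl⟩ ⟨y, hy, rfl⟩
    have h := all_mem chk_syl hx
    simp only [Bool.and_eq_true] at h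
    have h' := all_mem chk_syl hy
    simp only [Bool.and_eq_true] at h'
    exact ⟨mulC x y, List.contains_iff_mem.1 (all_mem h.2 hy),
      E.map_mul x (Nat.le_of_ble_eq_true h.1) y (Nat.le_of_ble_eq_true h'.1)⟩
  inv_mem' := by
    rintro _ ⟨x, hx, rfl⟩
    have h := all_mem chk_syl hx
    simp only [Bool.and_eq_true] at h
    have hx' : x < 192 := Nat.le_of_ble_eq_true h.1
    refine ⟨invC x, ?_, E.map_inv hx'⟩
    exact List.contains_iff_mem.1 (all_mem chk_syl_inv hx)

theorem mem_sylSub {g : G} : g ∈ E.sylSub ↔ ∃ x ∈ sylList, E.ι x = g := Iff.rfl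

theorem syl_lt {x : ℕ} (hx : x ∈ sylList) : x < 192 := by
  have h := all_mem chk_syl hx
  simp only [Bool.and_eq_true] at h
  exact Nat.le_of_ble_eq_true h.1

theorem card_sylSub : Nat.card E.sylSub = 64 := by
  let f : Fin sylList.length → E.sylSub := fun k => ⟨E.ι sylList[k], _, List.getElem_mem _, rfl⟩
  have hf : Function.Bijective f := by
    refine ⟨fun a b h => ?_, ?_⟩
    · have := E.inj _ (syl_lt (List.getElem_mem _)) _ (syl_lt (List.getElem_mem _)) (congrArg Subtype.val h)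
      exact Fin.ext ((chk_syl_nodup.1.getElem_inj_iff).1 this)
    · rintro ⟨g, x, hx, rfl⟩
      obtain ⟨k, hk, rfl⟩ := List.mem_iff_getElem.1 hx
      exact ⟨⟨k, hk⟩, rfl⟩
  rw [← Nat.card_eq_of_bijective f hf, Nat.card_fin, chk_syl_nodup.2.1]

theorem wSub_le_syl : E.wSub ≤ E.sylSub := by
  rintro _ ⟨i, hi, rfl⟩
  have h := all_range chk_w hi
  simp only [Bool.and_eq_true] at h
  exact ⟨wC i, List.contains_iff_mem.1 h.1.2, rfl⟩

/-- The Sylow subgroup of the model is a Sylow subgroup of the whole group. -/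
theorem exists_sylow [Finite G] : ∃ S : Sylow 2 G, (S : Subgroup G) = E.sylSub := by
  haveI : Fact (Nat.Prime 2) := ⟨Nat.prime_two⟩
  have h2 : IsPGroup 2 E.sylSub := IsPGroup.of_card (n := 6) (by rw [E.card_sylSub]; norm_num)
  obtain ⟨T, hT⟩ := h2.exists_le_sylow
  have ht : E.t ∈ E.sylSub := ⟨sC, chk_syl_nodup.2.2, rfl⟩
  haveI : Nontrivial (T : Subgroup G) :=
    ⟨⟨1, ⟨E.t, hT ht⟩, fun h => E.t_ne_one (congrArg Subtype.val h).symm⟩⟩
  haveI : Nontrivial (Subgroup.center (T : Subgroup G)) := T.isPGroup'.center_nontrivial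
  obtain ⟨⟨⟨z, hzT⟩, hzc⟩, hz1⟩ := exists_ne (1 : Subgroup.center (T : Subgroup G))
  have hzne : z ≠ 1 := fun h => hz1 (Subtype.ext (Subtype.ext h))
  have hcomm : ∀ g ∈ (T : Subgroup G), g * z = z * g := fun g hg =>
    congrArg Subtype.val (Subgroup.mem_center_iff.1 hzc ⟨g, hg⟩)
  obtain ⟨x, hx, hxz⟩ := E.range z (hcomm _ (hT ht)).symm
  have hxt : z = E.t := by
    have h := all_range chk_syl_cen hx
    simp only [Bool.or_eq_true] at h
    rcases h with (h | h) | h
    · exact absurd (by rw [← hxz, Nat.eq_of_beq_eq_true h, E.map_zero]) hzne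
    · rw [← hxz, Nat.eq_of_beq_eq_true h]; rfl
    · exfalso
      obtain ⟨s, hs, hsx⟩ := List.any_eq_true.1 h
      have := (E.commute_iff hx (syl_lt hs)).2 (by
        rw [hxz]; exact (hcomm _ (hT ⟨s, hs, rfl⟩)).symm)
      rw [this] at hsx; simp at hsx
  have hle : (T : Subgroup G) ≤ E.cT := fun g hg => by
    rw [cT, mem_centralizer_singleton_iff, ← hxt]; exact hcomm g hg
  obtain ⟨k, hk⟩ := IsPGroup.iff_card.1 T.isPGroup'
  have hd : (2 : ℕ) ^ k ∣ 2 ^ 6 * 3 := by
    rw [← hk, show (2 : ℕ) ^ 6 * 3 = 192 by norm_num, ← E.card_cT]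
    exact Subgroup.card_dvd_of_le hle
  have hd' : (2 : ℕ) ^ k ∣ 2 ^ 6 :=
    (Nat.Coprime.pow_left k (by norm_num : Nat.Coprime 2 3)).dvd_of_dvd_mul_right hd
  refine ⟨T, (Subgroup.eq_of_le_of_card_ge hT ?_).symm⟩
  rw [E.card_sylSub, hk]
  exact Nat.le_of_dvd (by norm_num) hd'

/-- The subgroup is fused as in `A₈`: two of the three orbits inside the radical and an outer one meet
the class of the central involution. -/
structure Fused : Prop where
  radA : IsConj E.t (E.w 12)
  radB : IsConj E.t (E.w 14)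
  outer : IsConj E.t (E.w 5)

end Emb

end Cfsg.Agent.Lib.A8Recog
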