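import Cfsg.Agent.Lib.A8Recog.CentUData
import Cfsg.Agent.Lib.Fusion.Thompson

/-!
# A subgroup of index two in the centraliser of the second involution

helper1.  The transfer into the Sylow subgroup modulo the elementary abelian subgroup is onto.
-/

set_option autoImplicit false
set_option maxRecDepth 100000
set_option linter.style.haveILetI false
set_option linter.unusedSectionVars false
set_option Elab.async false

namespace Cfsg.Agent.Lib.A8Recog

universe u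

namespace Emb

variable {G : Type u} [Group G] [Finite G] {E : Emb G}

/-- The Sylow subgroup of the centraliser. -/
def dSub (E : Emb G) : Subgroup G := E.cT ⊓ E.cU

theorem mem_dSub {g : G} : g ∈ E.dSub ↔ ∃ x ∈ dList, E.ι x = g := by
  rw [dSub, Subgroup.mem_inf, mem_cT, mem_cU]
  constructor
  · rintro ⟨⟨x, hx, rfl⟩, hc⟩
    refine ⟨x, ?_, rfl⟩
    have h := all_range chk_dList.1 hx
    rw [(E.commute_iff hx (wC_lt (by norm_num))).2 hc] at h
    exact List.contains_iff_mem.1 (by simpa using h)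
  · rintro ⟨x, hx, rfl⟩
    have hx' : x < 192 := by
      simp only [dList, List.mem_cons, List.not_mem_nil, or_false] at hx; omega
    refine ⟨⟨x, hx', rfl⟩, (E.commute_iff hx' (wC_lt (by norm_num))).1 ?_⟩
    have h := all_range chk_dList.1 hx'
    rw [List.contains_iff_mem.2 hx] at h
    simpa using h

theorem d_lt {x : ℕ} (hx : x ∈ dList) : x < 192 := by
  simp only [dList, List.mem_cons, List.not_mem_nil, or_false] at hx; omega

theorem w_mem_dSub {i : ℕ} (hi : i < 16) : E.w i ∈ E.dSub := by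
  have h := all_range chk_d_cosets.2.1 hi
  simp only [Bool.and_eq_true] at h
  exact mem_dSub.2 ⟨wC i, List.contains_iff_mem.1 h.1, rfl⟩

theorem wSub_le_dSub : E.wSub ≤ E.dSub := by
  rintro _ ⟨i, hi, rfl⟩
  exact w_mem_dSub hi

theorem wSub_le_cU : E.wSub ≤ E.cU := fun _ h => (wSub_le_dSub h).2

theorem ι_mem_wSub_iff {x : ℕ} (hx : x < 192) : E.ι x ∈ E.wSub ↔ inW x = true := by
  constructor
  · rintro ⟨i, hi, e⟩
    have := E.inj _ (wC_lt hi) _ hx e
    exact List.any_eq_true.2 ⟨i, List.mem_range.2 hi, by rw [this]; simp⟩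
  · intro h
    obtain ⟨i, hi, rfl⟩ := mem_inW h
    exact E.w_mem hi

theorem card_list {K : Subgroup G} {l : List ℕ} (hnd : l.Nodup) (hlt : ∀ x ∈ l, x < 192)
    (hmem : ∀ g, g ∈ K ↔ ∃ x ∈ l, E.ι x = g) : Nat.card K = l.length := by
  let f : Fin l.length → K := fun k => ⟨E.ι l[k], (hmem _).2 ⟨_, List.getElem_mem _, rfl⟩⟩
  have hf : Function.Bijective f := by
    refine ⟨fun a b h => ?_, ?_⟩
    · exact Fin.ext ((hnd.getElem_inj_iff).1 (E.inj _ (hlt _ (List.getElem_mem _)) _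
        (hlt _ (List.getElem_mem _)) (congrArg Subtype.val h)))
    · rintro ⟨g, hg⟩
      obtain ⟨x, hx, rfl⟩ := (hmem g).1 hg
      obtain ⟨k, hk, rfl⟩ := List.mem_iff_getElem.1 hx
      exact ⟨⟨k, hk⟩, rfl⟩
  rw [← Nat.card_eq_of_bijective f hf, Nat.card_fin]

theorem card_dSub : Nat.card E.dSub = 32 := by
  rw [card_list chk_dList.2.1 (fun _ => d_lt) fun g => mem_dSub, chk_dList.2.2]

theorem card_wSub : Nat.card E.wSub = 16 := by
  let f : Fin 16 → E.wSub := fun i => ⟨E.w i, E.w_mem i.2⟩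
  have hf : Function.Bijective f := by
    refine ⟨fun a b h => Fin.ext (E.w_inj a.2 b.2 (congrArg Subtype.val h)), ?_⟩
    rintro ⟨g, i, hi, rfl⟩
    exact ⟨⟨i, hi⟩, rfl⟩
  rw [← Nat.card_eq_of_bijective f hf, Nat.card_fin]

/-- The centraliser of the second involution has Sylow subgroups of order `32`. -/
theorem Fused.card_cU (h : E.Fused) : ∃ r, Odd r ∧ Nat.card E.cU = 32 * r := by
  haveI : Fact (Nat.Prime 2) := ⟨Nat.prime_two⟩
  obtain ⟨r, hr⟩ : 32 ∣ Nat.card E.cU := card_dSub (E := E) ▸ Subgroup.card_dvd_of_le inf_le_right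
  refine ⟨r, Nat.odd_iff.2 ?_, hr⟩
  by_contra h2
  have h64 : 2 ^ 6 ∣ Nat.card E.cU := by
    obtain ⟨q, hq⟩ : 2 ∣ r := by omega
    exact ⟨q, by rw [hr, hq]; ring⟩
  obtain ⟨P, hP⟩ := Sylow.exists_subgroup_card_pow_prime 2 h64
  have hPG : Nat.card (P.map E.cU.subtype) = 2 ^ 6 := by
    rw [Subgroup.card_map_of_injective (Subgroup.subtype_injective _), hP]
  obtain ⟨T, hT⟩ := (IsPGroup.of_card hPG).exists_le_sylow
  obtain ⟨S, hS⟩ := E.exists_sylow
  obtain ⟨c, hc⟩ := MulAction.exists_smul_eq G S T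
  have hcard : Nat.card (T : Subgroup G) = 2 ^ 6 := by
    rw [Sylow.card_eq_multiplicity T, ← Sylow.card_eq_multiplicity S, hS, card_sylSub]; norm_num
  have hle : ∀ g ∈ E.sylSub, c * g * c⁻¹ ∈ E.cU := by
    intro g hg
    have h1 : c * g * c⁻¹ ∈ (T : Subgroup G) := by
      rw [← hc, Sylow.coe_subgroup_smul]
      exact ⟨g, hS ▸ hg, rfl⟩
    rw [← Subgroup.eq_of_le_of_card_ge hT (by rw [hcard, hPG])] at h1
    exact Subgroup.map_subtype_le _ h1
  have hcomm : ∀ g ∈ E.sylSub, g * (c⁻¹ * E.w 2 * c) = c⁻¹ * E.w 2 * c * g := fun g hg => by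
    have h1 := mem_cU.1 (hle g hg)
    calc g * (c⁻¹ * E.w 2 * c) = c⁻¹ * (c * g * c⁻¹ * E.w 2) * c := by group
      _ = _ := by rw [h1]; group
  have ht : E.t ∈ E.sylSub := ⟨sC, chk_syl_nodup.2.2, rfl⟩
  obtain ⟨x, hx, hxe⟩ := E.range _ (hcomm _ ht).symm
  have hs := all_range chk_syl_cen hx
  simp only [Bool.or_eq_true] at hs
  rcases hs with (e | e) | e
  · refine E.ne_one_w (i := 2) (by norm_num) (by norm_num) ?_
    rw [Nat.eq_of_beq_eq_true e, E.map_zero] at hxe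
    calc E.w 2 = c * (c⁻¹ * E.w 2 * c) * c⁻¹ := by group
      _ = 1 := by rw [← hxe]; group
  · refine h.not_conj_u (isConj_iff.2 ⟨c, ?_⟩)
    rw [Nat.eq_of_beq_eq_true e] at hxe
    rw [t, hxe]; group
  · obtain ⟨s, hs, hsx⟩ := List.any_eq_true.1 e
    have := (E.commute_iff hx (syl_lt hs)).2 (by rw [hxe]; exact (hcomm _ ⟨s, hs, rfl⟩).symm)
    rw [this] at hsx; simp at hsx

/-- In the centraliser no element of the elementary abelian subgroup is conjugate to an involution of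
the Sylow subgroup outside it. -/
theorem Fused.not_conj_outer (h : E.Fused) {x : ℕ} (hx : x ∈ [4, 5, 24, 25]) {a y : G} (ha : a ∈ E.wSub)
    (hy : y ∈ E.cU) : y * a * y⁻¹ ≠ E.ι x := by
  intro e
  haveI : Fact (Nat.Prime 2) := ⟨Nat.prime_two⟩
  have hx' : x < 192 := by simp only [List.mem_cons, List.not_mem_nil, or_false] at hx; omega
  set C := E.cU ⊓ Subgroup.centralizer {E.ι x} with hC
  have hwC : E.wSub.map (MulAut.conj y).toMonoidHom ≤ C := by
    rintro _ ⟨b, hb, rfl⟩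
    refine Subgroup.mem_inf.2 ⟨E.cU.mul_mem (E.cU.mul_mem hy (wSub_le_cU hb)) (E.cU.inv_mem hy), ?_⟩
    show y * b * y⁻¹ ∈ Subgroup.centralizer {E.ι x}
    rw [Subgroup.mem_centralizer_singleton_iff, ← e]
    obtain ⟨i, hi, rfl⟩ := hb
    obtain ⟨j, hj, rfl⟩ := ha
    calc y * E.w i * y⁻¹ * (y * E.w j * y⁻¹) = y * (E.w i * E.w j) * y⁻¹ := by group
      _ = _ := by rw [E.w_comm hi hj]; group
  have h16 : 2 ^ 4 ∣ Nat.card C := by
    have := Subgroup.card_dvd_of_le hwC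
    rwa [Subgroup.card_map_of_injective (MulAut.conj y).injective, card_wSub] at this
  set Q := E.cT ⊓ C with hQ
  have hmemQ : ∀ g, g ∈ Q ↔ ∃ q ∈ qList, E.ι q = g := by
    intro g
    rw [hQ, hC, Subgroup.mem_inf, Subgroup.mem_inf, mem_cT, mem_cU, Subgroup.mem_centralizer_singleton_iff]
    constructor
    · rintro ⟨⟨q, hq, rfl⟩, h2, h3⟩
      refine ⟨q, ?_, rfl⟩
      have hc := all_range (all_mem chk_q.1 hx) hq
      rw [(E.commute_iff hq (wC_lt (by norm_num))).2 h2, (E.commute_iff hq hx').2 h3] at hc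
      exact List.contains_iff_mem.1 (by simpa using hc)
    · rintro ⟨q, hq, rfl⟩
      have hq' : q < 192 := by simp only [qList, List.mem_cons, List.not_mem_nil, or_false] at hq; omega
      have hc := all_range (all_mem chk_q.1 hx) hq'
      rw [List.contains_iff_mem.2 hq] at hc
      simp only [beq_iff_eq, Bool.and_eq_true] at hc
      exact ⟨⟨q, hq', rfl⟩, (E.commute_iff hq' (wC_lt (by norm_num))).1 hc.2,
        (E.commute_iff hq' hx').1 hc.1⟩
  have hlt : ∀ q ∈ qList, q < 192 := fun q hq => by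
    simp only [qList, List.mem_cons, List.not_mem_nil, or_false] at hq; omega
  have hQ8 : Nat.card Q = 2 ^ 3 := by rw [card_list chk_q.2.1 hlt hmemQ, chk_q.2.2.1]; norm_num
  have hQC : Nat.card (Q.subgroupOf C) = 2 ^ 3 := by
    rw [Nat.card_congr (Subgroup.subgroupOfEquivOfLe (inf_le_right : Q ≤ C)).toEquiv, hQ8]
  obtain ⟨K, hK16, hQK⟩ := Sylow.exists_subgroup_card_pow_succ h16 hQC
  have hKn : ((Q.subgroupOf C).subgroupOf K).Normal := by
    refine Subgroup.normal_of_index_eq_two ?_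
    have h1 := ((Q.subgroupOf C).subgroupOf K).card_mul_index
    rw [Nat.card_congr (Subgroup.subgroupOfEquivOfLe hQK).toEquiv, hQC, hK16] at h1
    omega
  have hKQ : ∀ k ∈ K, (k : G) ∈ Q := by
    intro k hk
    have htQ : E.t ∈ Q := (hmemQ _).2 ⟨sC, by decide, rfl⟩
    have hn := hKn.conj_mem ⟨⟨E.t, htQ.2⟩, hQK htQ⟩ htQ ⟨k, hk⟩
    obtain ⟨q, hq, hqe⟩ := (hmemQ _).1 (show (k : G) * E.t * (k : G)⁻¹ ∈ Q from hn)
    have hc := all_mem chk_q.2.2.2 hq
    simp only [Bool.or_eq_true] at hc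
    refine Subgroup.mem_inf.2 ⟨?_, k.2⟩
    rcases hc with (e0 | e0) | e0
    · exfalso
      rw [Nat.eq_of_beq_eq_true e0, E.map_zero, eq_comm, conj_eq_one_iff] at hqe
      exact E.t_ne_one hqe
    · rw [Nat.eq_of_beq_eq_true e0] at hqe
      rw [cT, Subgroup.mem_centralizer_singleton_iff]
      exact (mul_inv_eq_iff_eq_mul.1 hqe.symm)
    · exact absurd ((isConj_iff.2 ⟨(k : G), hqe.symm⟩).trans (h.isConj_uCode (hlt q hq) e0).symm) h.not_conj_u
  have hle : K ≤ Q.subgroupOf C := fun k hk => hKQ k hk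
  have hcd := Subgroup.card_le_of_le hle
  rw [hK16, hQC] at hcd
  norm_num at hcd

theorem mul_mem_wSub {a b : G} (ha : a ∈ E.dSub) (hb : b ∈ E.dSub) :
    a * b ∈ E.wSub ↔ (a ∈ E.wSub ↔ b ∈ E.wSub) := by
  obtain ⟨x, hx, rfl⟩ := mem_dSub.1 ha
  obtain ⟨y, hy, rfl⟩ := mem_dSub.1 hb
  rw [← E.map_mul x (d_lt hx) y (d_lt hy), ι_mem_wSub_iff (mulC_lt (d_lt hx) (d_lt hy)),
    ι_mem_wSub_iff (d_lt hx), ι_mem_wSub_iff (d_lt hy)]
  have := all_mem (all_mem chk_d_cosets.1 hx) hy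
  rw [beq_iff_eq] at this
  rw [this]
  cases inW x <;> cases inW y <;> simp

theorem mem_wSub_sq {a : G} (ha : a ∈ E.wSub) : a * a = 1 := by
  obtain ⟨i, hi, rfl⟩ := ha
  exact E.w_sq hi

/-- Conjugation inside the centraliser respects the elementary abelian subgroup on the involutions of the
Sylow subgroup. -/
theorem Fused.mem_wSub_conj (h : E.Fused) {g c : G} (hg : g ∈ E.dSub) (hg2 : g * g = 1) (hc : c ∈ E.cU)
    (hd : c * g * c⁻¹ ∈ E.dSub) (hw : g ∈ E.wSub) : c * g * c⁻¹ ∈ E.wSub := by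
  by_cases h1 : g = 1
  · rw [h1, mul_one, mul_inv_cancel]; exact one_mem _
  obtain ⟨v, hv, hve⟩ := mem_dSub.1 hd
  have hi : isInv v = true := (E.isInv_iff (d_lt hv)).2 (by
    rw [hve, orderOf_eq_prime_iff, sq]
    exact ⟨by rw [show c * g * c⁻¹ * (c * g * c⁻¹) = c * (g * g) * c⁻¹ by group, hg2]; group,
      fun e' => h1 (conj_eq_one_iff.1 e')⟩)
  have hchk := all_mem chk_d_inv hv
  rw [hi] at hchk
  simp only [Bool.not_true, Bool.or_false, Bool.or_eq_true] at hchk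
  rcases hchk with hchk | hchk
  · rw [← hve, ι_mem_wSub_iff (d_lt hv)]; exact hchk
  · exact absurd hve.symm (h.not_conj_outer (List.contains_iff_mem.1 hchk) hw hc)

/-- The transfer of a controlled element of order at most two to the units of the integers. -/
theorem transfer_eq {Y : Type u} [Group Y] [Finite Y] {D : Subgroup Y} (hodd : Odd D.index) (χ : D →* ℤˣ)
    (g : D) (hg : (g : Y) * g = 1)
    (hctrl : ∀ c : Y, ∀ hc : c * (g : Y) * c⁻¹ ∈ D, χ ⟨c * (g : Y) * c⁻¹, hc⟩ = χ g) :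
    MonoidHom.transfer χ (g : Y) = χ g := by
  rw [Cfsg.Agent.Lib.Fusion.Thompson.transfer_controlled χ (g : Y) g.2 fun m c hc => ?_]
  · obtain ⟨k, hk⟩ := hodd
    rw [hk, pow_succ, pow_mul, Int.units_sq, one_pow, one_mul]
  · rcases Nat.even_or_odd m with ⟨k, rfl⟩ | ⟨k, rfl⟩
    · have h1 : (g : Y) ^ (k + k) = 1 := by rw [← two_mul, pow_mul, pow_two, hg, one_pow]
      refine Eq.trans ?_ (show (1 : ℤˣ) = χ g ^ (k + k) by rw [← two_mul, pow_mul, Int.units_sq, one_pow])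
      rw [← map_one χ]
      exact congrArg χ (Subtype.ext (by
        show c * (g : Y) ^ (k + k) * c⁻¹ = 1
        rw [h1, mul_one, mul_inv_cancel]))
    · have h1 : (g : Y) ^ (2 * k + 1) = g := by rw [pow_succ, pow_mul, pow_two, hg, one_pow, one_mul]
      refine Eq.trans ?_ ((hctrl c (h1 ▸ hc)).trans (show χ g = χ g ^ (2 * k + 1) by
        rw [pow_succ, pow_mul, Int.units_sq, one_pow, one_mul]))
      exact congrArg χ (Subtype.ext (by
        show c * (g : Y) ^ (2 * k + 1) * c⁻¹ = c * (g : Y) * c⁻¹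
        rw [h1]))

/-- A subgroup of index two with the elementary abelian subgroup as a Sylow subgroup. -/
theorem Fused.exists_index_two (h : E.Fused) : ∃ Y0 : Subgroup G, Y0 ≤ E.cU ∧
    2 * Nat.card Y0 = Nat.card E.cU ∧ (∀ y ∈ E.cU, ∀ k ∈ Y0, y * k * y⁻¹ ∈ Y0) ∧
    (∀ g ∈ E.dSub, g ∈ Y0 ↔ g ∈ E.wSub) ∧ ∀ g ∈ E.cU, g ^ 3 = 1 → g ∈ Y0 := by
  classical
  let D := E.dSub.subgroupOf E.cU
  let χ : D →* ℤˣ := MonoidHom.mk' (fun g => if (g : E.cU).1 ∈ E.wSub then 1 else -1) fun a b => by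
    have := mul_mem_wSub (E := E) a.2 b.2
    simp only [Subgroup.coe_mul]
    split_ifs <;> simp_all
  have hχ : ∀ g : D, χ g = if (g : E.cU).1 ∈ E.wSub then 1 else -1 := fun g => rfl
  have hodd : Odd D.index := by
    obtain ⟨r, hr, hY⟩ := h.card_cU
    have h1 := D.card_mul_index
    have h2 : Nat.card D = 32 :=
      (Nat.card_congr (Subgroup.subgroupOfEquivOfLe (inf_le_right : E.dSub ≤ E.cU)).toEquiv).trans card_dSub
    rw [h2, hY] at h1
    rwa [Nat.eq_of_mul_eq_mul_left (by norm_num) h1]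
  have hval : ∀ g (hg : g ∈ E.dSub), g * g = 1 → MonoidHom.transfer χ ⟨g, hg.2⟩ = if g ∈ E.wSub then 1 else -1 := by
    intro g hg hg2
    rw [show (⟨g, hg.2⟩ : E.cU) = ((⟨⟨g, hg.2⟩, hg⟩ : D) : E.cU) from rfl,
      transfer_eq hodd χ ⟨⟨g, hg.2⟩, hg⟩ (Subtype.ext hg2) fun c hc => ?_, hχ]
    rw [hχ, hχ]
    have hd : (c : G) * g * (c : G)⁻¹ ∈ E.dSub := hc
    show (if (c : G) * g * (c : G)⁻¹ ∈ E.wSub then (1 : ℤˣ) else -1) = if g ∈ E.wSub then 1 else -1
    have hiff : (c : G) * g * (c : G)⁻¹ ∈ E.wSub ↔ g ∈ E.wSub := by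
      refine ⟨fun ha => ?_, fun ha => h.mem_wSub_conj hg hg2 c.2 hd ha⟩
      have e : (c : G)⁻¹ * ((c : G) * g * (c : G)⁻¹) * (c : G)⁻¹⁻¹ = g := by group
      rw [← e]
      exact h.mem_wSub_conj hd (by
        rw [show (c : G) * g * (c : G)⁻¹ * ((c : G) * g * (c : G)⁻¹) = (c : G) * (g * g) * (c : G)⁻¹ by group,
          hg2]; group) (inv_mem c.2) (by rw [e]; exact hg) ha
    simp only [hiff]
  generalize hθ : MonoidHom.transfer χ = θ at hval
  obtain ⟨-, -, hxd, hxw, hxx⟩ := chk_d_cosets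
  have hxD : E.ι xC ∈ E.dSub := mem_dSub.2 ⟨_, List.contains_iff_mem.1 hxd, rfl⟩
  have hxn : E.ι xC ∉ E.wSub := fun hc => by
    rw [ι_mem_wSub_iff (by decide), hxw] at hc
    exact Bool.false_ne_true hc
  have hθx : θ ⟨E.ι xC, hxD.2⟩ = -1 := by
    rw [hval _ hxD (by rw [← E.map_mul _ (by decide) _ (by decide), hxx, E.map_zero]), if_neg hxn]
  have hidx : θ.ker.index = 2 := by
    rw [Subgroup.index_ker, MonoidHom.range_eq_top.2 fun z => ?_, Subgroup.card_top, Nat.card_eq_fintype_card,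
      Fintype.card_units_int]
    rcases Int.units_eq_one_or z with rfl | rfl
    · exact ⟨1, map_one θ⟩
    · exact ⟨_, hθx⟩
  refine ⟨θ.ker.map E.cU.subtype, Subgroup.map_subtype_le _, ?_, ?_, ?_, ?_⟩
  · rw [Subgroup.card_map_of_injective (Subgroup.subtype_injective _), ← θ.ker.card_mul_index, hidx, mul_comm]
  · rintro y hy _ ⟨k, hk, rfl⟩
    exact ⟨⟨y, hy⟩ * k * ⟨y, hy⟩⁻¹, θ.normal_ker.conj_mem k hk _, rfl⟩
  · intro g hg
    have hA : ∀ a (ha : a ∈ E.wSub), θ ⟨a, wSub_le_cU ha⟩ = 1 := fun a ha => by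
      rw [hval _ (wSub_le_dSub ha) (mem_wSub_sq ha), if_pos ha]
    constructor
    · rintro ⟨k, hk, e⟩
      by_contra hne
      have hm : g * E.ι xC ∈ E.wSub := (mul_mem_wSub hg hxD).2 (iff_of_false hne hxn)
      have h1 : θ ⟨g, hg.2⟩ = 1 := by rw [show (⟨g, hg.2⟩ : E.cU) = k from Subtype.ext e.symm]; exact hk
      have := hA _ hm
      rw [show (⟨g * E.ι xC, wSub_le_cU hm⟩ : E.cU) = ⟨g, hg.2⟩ * ⟨E.ι xC, hxD.2⟩ from rfl, _root_.map_mul, h1, hθx] at this
      exact absurd this (by decide)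
    · exact fun ha => ⟨⟨g, wSub_le_cU ha⟩, hA g ha, rfl⟩
  · intro g hg h3
    refine ⟨⟨g, hg⟩, ?_, rfl⟩
    show θ ⟨g, hg⟩ = 1
    have e : θ ⟨g, hg⟩ ^ 3 = 1 := by
      rw [← map_pow, show (⟨g, hg⟩ : E.cU) ^ 3 = 1 from Subtype.ext h3, map_one]
    rwa [pow_succ, Int.units_sq, one_mul] at e

end Emb

end Cfsg.Agent.Lib.A8Recog
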