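import Cfsg.Agent.Lib.A8Recog.Classes

/-!
# Facts about the model used for the centraliser of the second involution

helper1.
-/

set_option autoImplicit false
set_option maxRecDepth 100000
set_option Elab.async false

namespace Cfsg.Agent.Lib.A8Recog

/-- The centraliser of the second involution in the model. -/
def dList : List Nat :=
  [0, 1, 2, 3, 4, 5, 6, 7, 24, 25, 26, 27, 28, 29, 30, 31, 48, 49, 50, 51, 52, 53, 54, 55, 72, 73, 74, 75, 76, 77, 78, 79]

/-- The centraliser in it of an involution outside the elementary abelian subgroup. -/
def qList : List Nat := [0, 1, 4, 5, 24, 25, 28, 29]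

/-- The involution outside the elementary abelian subgroup. -/
def xC : Nat := 4

/-- The fixed four-group of the element of order three. -/
def vFixList : List Nat := [0, 2, 4, 6]

/-- The four-group moved by the element of order three. -/
def kMovList : List Nat := [0, 3, 8, 11]

/-- The projection to the fixed four-group. -/
def projV : Nat := 1058

/-- A power product of the two maps of order three. -/
def sigPow (a b i : Nat) : Nat := (lin sigA)^[a] ((lin sigB)^[b] i)

theorem chk_dList : ((List.range 192).all fun x => comC x (wC 2) == dList.contains x) = true ∧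
    dList.Nodup ∧ dList.length = 32 := by decide +kernel

theorem chk_d_inv : (dList.all fun x => inW x || !isInv x || [4, 5, 24, 25].contains x) = true := by
  decide +kernel

theorem chk_d_cosets : (dList.all fun x => dList.all fun y => inW (mulC x y) == (inW x == inW y)) = true ∧
    ((List.range 16).all fun i => dList.contains (wC i) && inW (wC i)) = true ∧
    dList.contains xC = true ∧ inW xC = false ∧ mulC xC xC = 0 := by decide +kernel

theorem chk_q : ([4, 5, 24, 25].all fun x => (List.range 192).all fun y =>
    (comC y x && comC y (wC 2)) == qList.contains y) = true ∧ qList.Nodup ∧ qList.length = 8 ∧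
    (qList.all fun q => Nat.beq q 0 || Nat.beq q sC || uCode q) = true := by decide +kernel

theorem chk_xC : cjC xC (wC 4) = wC 6 ∧ cjC xC (wC 2) = wC 2 ∧ cjC xC (wC 3) = wC 3 ∧
    cjC xC (wC 8) = wC 11 := by decide +kernel

theorem chk_d_cent : (dList.all fun d => inW d || !(comC d (wC 3) && comC d (wC 8))) = true := by
  decide +kernel

theorem chk_subgroups : (vFixList.all fun i => vFixList.all fun j => vFixList.contains (i ^^^ j)) = true ∧
    (kMovList.all fun i => kMovList.all fun j => kMovList.contains (i ^^^ j)) = true ∧
    (vFixList.all fun i => !kMovList.contains i || Nat.beq i 0) = true ∧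
    ((List.range 16).all fun i => vFixList.contains (lin projV i) && kMovList.contains (i ^^^ lin projV i)) = true ∧
    (vFixList.all fun i => Nat.beq (lin projV i) i) = true := by decide +kernel

theorem chk_transitive : ((List.range 16).all fun j => Nat.beq j 0 || uIdx.contains j ||
    (List.range 3).any fun a => (List.range 3).any fun b => Nat.beq (sigPow a b 1) j) = true := by
  decide +kernel

theorem chk_stab : ((List.range 3).all fun a => (List.range 3).all fun b => kBar.all fun k =>
    !Nat.beq (sigPow a b (lin k 2)) 2 || Nat.beq (sigPow a b (lin k 4)) 4 || Nat.beq (sigPow a b (lin k 4)) 6) = true := by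
  decide +kernel

theorem chk_rho : sigPow 1 2 2 = 2 ∧ sigPow 1 2 4 = 4 ∧ sigPow 1 2 3 = 11 ∧ sigPow 1 2 8 = 3 ∧
    sigPow 1 2 11 = 8 := by decide +kernel

theorem chk_v_k : (vFixList.all fun i => [3, 8, 11].all fun j => Nat.beq i 0 || tIdx.contains (i ^^^ j)) = true ∧
    uIdx.contains 3 = true ∧ (2 ^^^ 1 = 3) := by decide +kernel

end Cfsg.Agent.Lib.A8Recog
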