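import Cfsg.Agent.Lib.A8Recog.CertData

/-!
# The certificate is correct

helper1.
-/

set_option autoImplicit false
set_option maxRecDepth 100000
set_option Elab.async false

namespace Cfsg.Agent.Lib.A8Recog

theorem facts_ok : Engine.factsOK mainData = true := by decide +kernel

theorem final_ok : Engine.finalOK mainData liveList finTable = true := by decide +kernel

theorem live_length : liveList.length = 105 := by decide +kernel

end Cfsg.Agent.Lib.A8Recog
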