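import Cfsg.Agent.Lib.A8Recog.Amal

/-!
# The two classes of involutions

helper1.  In the fused case every involution is conjugate to the central one or to the one with four
fixed points in the model of `A₈`.
-/

set_option autoImplicit false
set_option maxRecDepth 100000
set_option Elab.async false

namespace Cfsg.Agent.Lib.A8Recog

universe u

/-- The indices of the class of the second involution in the elementary abelian subgroup. -/
def uIdx : List Nat := [2, 3, 4, 6, 8, 11]

/-- The indices of the class of the central involution in the elementary abelian subgroup. -/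
def tIdx : List Nat := [1, 5, 7, 9, 10, 12, 13, 14, 15]

/-- A code conjugate in the model to one of the second class. -/
def uCode (x : Nat) : Bool :=
  (List.range 192).any fun g => Nat.beq (cjC g x) (wC 2) || Nat.beq (cjC g x) (wC 4)

/-- A code conjugate in the model to one of the first class. -/
def tCode (x : Nat) : Bool :=
  (List.range 192).any fun g => [1, 5, 12, 14].any fun y => Nat.beq (cjC g x) (wC y)

theorem chk_two_four : lin sigA 2 = 4 := by decide +kernel

theorem chk_uIdx : (uIdx.all fun i => uCode (wC i)) = true ∧ (tIdx.all fun i => tCode (wC i)) = true ∧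
    ((List.range 16).all fun i => Nat.beq i 0 || uIdx.contains i || tIdx.contains i) = true := by
  decide +kernel

theorem chk_code_class : ((List.range 192).all fun x => !isInv x || uCode x || tCode x) = true := by
  decide +kernel

namespace Emb

variable {G : Type u} [Group G] [Finite G] {E : Emb G}

/-- The centraliser of the second involution. -/
def cU (E : Emb G) : Subgroup G := Subgroup.centralizer {E.w 2}

theorem mem_cU {g : G} : g ∈ E.cU ↔ g * E.w 2 = E.w 2 * g := by
  rw [cU, Subgroup.mem_centralizer_singleton_iff]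

theorem Fused.not_conj_u (h : E.Fused) : ¬ IsConj E.t (E.w 2) := h.not_conj (by simp)

theorem Fused.isConj_two_four (h : E.Fused) : IsConj (E.w 2) (E.w 4) := by
  obtain ⟨⟨m, hm⟩, -⟩ := h.exists_sigma
  exact isConj_iff.2 ⟨m, by rw [hm 2 (by norm_num), chk_two_four]⟩

theorem isConj_code {g x : ℕ} (hg : g < 192) (hx : x < 192) : IsConj (E.ι (cjC g x)) (E.ι x) :=
  (isConj_iff.2 ⟨E.ι g, (E.map_cj hg hx).symm⟩).symm

theorem Fused.isConj_uCode (h : E.Fused) {x : ℕ} (hx : x < 192) (hc : uCode x = true) :
    IsConj (E.w 2) (E.ι x) := by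
  obtain ⟨g, hg, e⟩ := List.any_eq_true.1 hc
  simp only [Bool.or_eq_true] at e
  have hg' := List.mem_range.1 hg
  rcases e with e | e
  · have := isConj_code (E := E) hg' hx
    rwa [Nat.eq_of_beq_eq_true e] at this
  · have := isConj_code (E := E) hg' hx
    rw [Nat.eq_of_beq_eq_true e] at this
    exact h.isConj_two_four.trans this

theorem Fused.isConj_tCode (h : E.Fused) {x : ℕ} (hx : x < 192) (hc : tCode x = true) :
    IsConj E.t (E.ι x) := by
  obtain ⟨g, hg, e⟩ := List.any_eq_true.1 hc
  obtain ⟨y, hy, e⟩ := List.any_eq_true.1 e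
  have hcj := isConj_code (E := E) (List.mem_range.1 hg) hx
  rw [Nat.eq_of_beq_eq_true e] at hcj
  refine IsConj.trans ?_ hcj
  simp only [List.mem_cons, List.not_mem_nil, or_false] at hy
  rcases hy with rfl | rfl | rfl | rfl
  · exact E.t_eq_w ▸ IsConj.refl _
  · exact h.outer
  · exact h.radA
  · exact h.radB

theorem Fused.isConj_uIdx (h : E.Fused) {i : ℕ} (hi : i ∈ uIdx) : IsConj (E.w 2) (E.w i) :=
  h.isConj_uCode (wC_lt (by simp only [uIdx, List.mem_cons, List.not_mem_nil, or_false] at hi; omega))
    (all_mem chk_uIdx.1 hi)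

theorem Fused.isConj_tIdx (h : E.Fused) {i : ℕ} (hi : i ∈ tIdx) : IsConj E.t (E.w i) :=
  h.isConj_tCode (wC_lt (by simp only [tIdx, List.mem_cons, List.not_mem_nil, or_false] at hi; omega))
    (all_mem chk_uIdx.2.1 hi)

/-- Conjugates of the second involution in the elementary abelian subgroup. -/
theorem Fused.mem_uIdx_iff (h : E.Fused) {i : ℕ} (hi : i < 16) (h0 : i ≠ 0) :
    i ∈ uIdx ↔ ¬ IsConj E.t (E.w i) := by
  refine ⟨fun hu ht => h.not_conj_u (ht.trans (h.isConj_uIdx hu).symm), fun ht => ?_⟩
  have := all_range chk_uIdx.2.2 hi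
  simp only [Bool.or_eq_true] at this
  rcases this with (e | e) | e
  · exact absurd (Nat.eq_of_beq_eq_true e) h0
  · exact List.contains_iff_mem.1 e
  · exact absurd (h.isConj_tIdx (List.contains_iff_mem.1 e)) ht

/-- Every involution is conjugate to one of the two. -/
theorem Fused.isConj_or (h : E.Fused) {g : G} (hg : orderOf g = 2) : IsConj E.t g ∨ IsConj (E.w 2) g := by
  haveI : Fact (Nat.Prime 2) := ⟨Nat.prime_two⟩
  obtain ⟨S, hS⟩ := E.exists_sylow
  have hp : IsPGroup 2 (Subgroup.zpowers g) :=
    IsPGroup.of_card (n := 1) (by rw [Nat.card_zpowers, hg]; norm_num)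
  obtain ⟨T, hT⟩ := hp.exists_le_sylow
  obtain ⟨c, hc⟩ := MulAction.exists_smul_eq G T S
  have hmem : c * g * c⁻¹ ∈ E.sylSub := by
    rw [← hS, ← hc, Sylow.coe_subgroup_smul]
    exact ⟨g, hT (Subgroup.mem_zpowers g), rfl⟩
  obtain ⟨x, hx, hxe⟩ := hmem
  have hx' := syl_lt hx
  have hord : orderOf (E.ι x) = 2 := by
    rw [hxe, ← hg]
    exact SemiconjBy.orderOf_eq c⁻¹ (by simp [SemiconjBy, mul_assoc])
  have hcg : IsConj (E.ι x) g := (isConj_iff.2 ⟨c, hxe.symm⟩).symm
  have hcls := all_range chk_code_class hx'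
  rw [(E.isInv_iff hx').2 hord] at hcls
  simp only [Bool.not_true, Bool.false_or, Bool.or_eq_true] at hcls
  rcases hcls with e | e
  · exact Or.inr ((h.isConj_uCode hx' e).trans hcg)
  · exact Or.inl ((h.isConj_tCode hx' e).trans hcg)

end Emb

end Cfsg.Agent.Lib.A8Recog
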