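import Mathlib

/-!
# The model of order `480`

helper1.  Pairs `(a, b, c, p)` with `p` a permutation of five points of sign `(-1) ^ c`; the count of the
pairs of involutions from the two classes whose product has the central involution as a power.
-/

set_option autoImplicit false
set_option maxRecDepth 100000
set_option Elab.async false

namespace Cfsg.Agent.Lib.A8Recog.CountModel

/-- The carrier. -/
abbrev Z := Bool × Bool × Bool × Equiv.Perm (Fin 5)

/-- Multiplication. -/
def mulZ (x y : Z) : Z :=
  (xor (xor x.1 y.1) (x.2.2.1 && y.2.1), xor x.2.1 y.2.1, xor x.2.2.1 y.2.2.1, x.2.2.2 * y.2.2.2)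

/-- The unit. -/
def oneZ : Z := (false, false, false, 1)

/-- The central involution. -/
def uZ : Z := (true, false, false, 1)

/-- Powers. -/
def powZ (x : Z) : Nat → Z
  | 0 => oneZ
  | n + 1 => mulZ (powZ x n) x

/-- The condition on the sign. -/
def okZ (x : Z) : Bool := decide (Equiv.Perm.sign x.2.2.2 = if x.2.2.1 then -1 else 1)

/-- The first class. -/
def isT (x : Z) : Bool :=
  !x.2.2.1 && (x.1 || x.2.1) && decide (x.2.2.2 ≠ 1 ∧ x.2.2.2 * x.2.2.2 = 1) && okZ x

/-- The second class. -/
def isU (x : Z) : Bool := decide (mulZ x x = oneZ ∧ x ≠ oneZ) && okZ x && !isT x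

/-- Some small positive power is trivial. -/
def smallOrder (x : Z) : Bool := (List.range 12).any fun k => decide (powZ x (k + 1) = oneZ)

/-- The central involution is a small power. -/
def inP (x : Z) : Bool := (List.range 12).any fun k => decide (powZ x k = uZ)

/-- The pairs. -/
def pairs : Finset (Z × Z) :=
  ((Finset.univ.filter fun x => isT x = true) ×ˢ (Finset.univ.filter fun x => isU x = true)).filter
    fun p => inP (mulZ p.1 p.2) = true

theorem card_pairs : pairs.card = 555 := by decide +kernel

theorem small : ∀ p ∈ (Finset.univ.filter fun x => isT x = true) ×ˢ (Finset.univ.filter fun x => isU x = true),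
    smallOrder (mulZ p.1 p.2) = true := by decide +kernel

end Cfsg.Agent.Lib.A8Recog.CountModel
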