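import Cfsg.Agent.Lib.A8Recog.Dichotomy
import Cfsg.Agent.Lib.A8Recog.CountModel

/-!
# Pairs in the centraliser of order `480`

helper1.
-/

set_option autoImplicit false
set_option maxRecDepth 100000
set_option linter.style.haveILetI false
set_option linter.unusedSectionVars false
set_option Elab.async false

namespace Cfsg.Agent.Lib.A8Recog

universe u

open CountModel

/-- The index in the four-group of a pair of bits. -/
def vIdx (a b : Bool) : Nat := (if a then 2 else 0) ^^^ (if b then 4 else 0)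

theorem chk_vIdx : ∀ a b : Bool, vIdx a b ∈ vFixList ∧
    (∀ a' b', vIdx a b ^^^ vIdx a' b' = vIdx (xor a a') (xor b b')) ∧
    (∀ a' b', vIdx a b = vIdx a' b' → a = a' ∧ b = b') ∧
    ((a || b) = true → vIdx a b ∈ uIdx ∧ vIdx a b ^^^ 3 ∈ tIdx) ∧
    ((a || b) = false → vIdx a b = 0) := by decide

namespace Emb

variable {G : Type u} [Group G] [Finite G] {E : Emb G}

namespace YModel

variable (M : YModel E)

/-- The parametrisation. -/
def psi (z : Z) : G := E.w (vIdx z.1 z.2.1) * M.F z.2.2.2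

theorem w_vIdx (a b : Bool) : E.w (vIdx a b) ∈ E.vSub := ⟨_, (chk_vIdx a b).1, rfl⟩

theorem vIdx_lt (a b : Bool) : vIdx a b < 16 := (by decide : ∀ x ∈ vFixList, x < 16) _ (chk_vIdx a b).1

theorem psi_mem (z : Z) : M.psi z ∈ E.cU :=
  mul_mem (wSub_le_cU (vSub_le (w_vIdx _ _))) (M.mem _)

theorem F_two (p : Equiv.Perm (Fin 5)) : M.F p * E.w 2 * (M.F p)⁻¹ = E.w 2 :=
  mul_inv_eq_iff_eq_mul.2 (mem_cU.1 (M.mem p))

theorem conj_vIdx {z : Z} (hz : okZ z = true) (a b : Bool) :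
    M.F z.2.2.2 * E.w (vIdx a b) = E.w (vIdx (xor a (z.2.2.1 && b)) b) * M.F z.2.2.2 := by
  refine mul_inv_eq_iff_eq_mul.1 ?_
  obtain ⟨za, zb, c, p⟩ := z
  simp only [okZ, decide_eq_true_eq] at hz
  have h2 := M.F_two p
  have h6 : ∀ v, M.F p * E.w 4 * (M.F p)⁻¹ = v → M.F p * E.w 6 * (M.F p)⁻¹ = E.w 2 * v := fun v hv => by
    rw [w_six, ← hv]
    calc M.F p * (E.w 2 * E.w 4) * (M.F p)⁻¹ = M.F p * E.w 2 * (M.F p)⁻¹ * (M.F p * E.w 4 * (M.F p)⁻¹) := by group
      _ = _ := by rw [h2]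
  cases c
  · simp only [Bool.false_eq_true, if_false] at hz
    have h4 := M.evenFour p hz
    cases a <;> cases b
    · simp [vIdx, E.w_zero]
    · simpa [vIdx] using h4
    · simpa [vIdx] using h2
    · simpa [vIdx, w_six] using h6 _ h4
  · simp only [if_true] at hz
    have h4 := M.oddFour p hz
    cases a <;> cases b
    · simp [vIdx, E.w_zero]
    · simpa [vIdx] using h4
    · simpa [vIdx] using h2
    · have := h6 _ h4
      rw [E.w_mul (i := 2) (j := 6) (by norm_num) (by norm_num)] at this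
      simpa [vIdx] using this

theorem psi_mul {x : Z} (hx : okZ x = true) (y : Z) : M.psi (mulZ x y) = M.psi x * M.psi y := by
  rw [psi, psi, psi, mulZ]
  rw [show E.w (vIdx x.1 x.2.1) * M.F x.2.2.2 * (E.w (vIdx y.1 y.2.1) * M.F y.2.2.2) =
    E.w (vIdx x.1 x.2.1) * (M.F x.2.2.2 * E.w (vIdx y.1 y.2.1)) * M.F y.2.2.2 by group,
    M.conj_vIdx hx, ← mul_assoc (E.w _) (E.w _), E.w_mul (vIdx_lt _ _) (vIdx_lt _ _), (chk_vIdx _ _).2.1,
    mul_assoc, ← _root_.map_mul, Bool.xor_assoc]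

theorem psi_one : M.psi oneZ = 1 := by
  rw [psi, oneZ, _root_.map_one, mul_one]
  exact E.w_zero

theorem psi_uZ : M.psi uZ = E.w 2 := by
  rw [psi, uZ, _root_.map_one, mul_one]
  rfl

theorem ok_mul {x y : Z} (hx : okZ x = true) (hy : okZ y = true) : okZ (mulZ x y) = true := by
  obtain ⟨a, b, c, p⟩ := x
  obtain ⟨a', b', c', q⟩ := y
  simp only [okZ, decide_eq_true_eq, mulZ] at hx hy ⊢
  cases c <;> cases c' <;> simp [_root_.map_mul, hx, hy]

theorem ok_pow {x : Z} (hx : okZ x = true) : ∀ n, okZ (powZ x n) = true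
  | 0 => by simp [powZ, okZ, oneZ]
  | n + 1 => ok_mul (ok_pow hx n) hx

theorem psi_pow {x : Z} (hx : okZ x = true) : ∀ n, M.psi (powZ x n) = M.psi x ^ n
  | 0 => by rw [powZ, psi_one, pow_zero]
  | n + 1 => by rw [powZ, M.psi_mul (ok_pow hx n), psi_pow hx n, pow_succ]

theorem psi_inj {x y : Z} (hx : okZ x = true) (hy : okZ y = true) (e : M.psi x = M.psi y) : x = y := by
  obtain ⟨a, b, c, p⟩ := x
  obtain ⟨a', b', c', q⟩ := y
  simp only [psi] at e
  have h1 : M.F (p * q⁻¹) = (E.w (vIdx a b))⁻¹ * E.w (vIdx a' b') := by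
    rw [_root_.map_mul, _root_.map_inv]
    calc M.F p * (M.F q)⁻¹ = (E.w (vIdx a b))⁻¹ * (E.w (vIdx a b) * M.F p) * (M.F q)⁻¹ := by group
      _ = _ := by rw [e]; group
  have hpq : p = q := mul_inv_eq_one.1 (M.ker _ (h1 ▸ mul_mem (inv_mem (w_vIdx a b)) (w_vIdx a' b')))
  subst hpq
  obtain ⟨rfl, rfl⟩ := (chk_vIdx a b).2.2.1 a' b' (E.w_inj (vIdx_lt _ _) (vIdx_lt _ _) (mul_right_cancel e))
  simp only [okZ, decide_eq_true_eq] at hx hy
  rw [hx] at hy
  cases c <;> cases c' <;> first | rfl | simp at hy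

theorem psi_surj {g : G} (hg : g ∈ E.cU) : ∃ z, okZ z = true ∧ M.psi z = g := by
  classical
  let toZ : Bool × Bool × Equiv.Perm (Fin 5) → Z := fun y => (y.1, y.2.1, decide (Equiv.Perm.sign y.2.2 = -1), y.2.2)
  have hok : ∀ y, okZ (toZ y) = true := fun y => by
    simp only [toZ, okZ, decide_eq_true_eq]
    rcases Int.units_eq_one_or (Equiv.Perm.sign y.2.2) with h | h <;> simp [h]
  let f : Bool × Bool × Equiv.Perm (Fin 5) → E.cU := fun y => ⟨M.psi (toZ y), M.psi_mem _⟩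
  have hf : Function.Bijective f := by
    refine (Nat.bijective_iff_injective_and_card f).2 ⟨fun y y' e => ?_, ?_⟩
    · have := M.psi_inj (hok y) (hok y') (congrArg Subtype.val e)
      simp only [toZ, Prod.mk.injEq] at this
      obtain ⟨h1, h2, -, h4⟩ := this
      exact Prod.ext h1 (Prod.ext h2 h4)
    · rw [M.card, Nat.card_prod, Nat.card_prod, Nat.card_perm]
      simp [Nat.factorial]
  obtain ⟨y, hy⟩ := hf.2 ⟨g, hg⟩
  exact ⟨_, hok y, congrArg Subtype.val hy⟩

theorem isConj_of_isT (h : E.Fused) {z : Z} (hz : isT z = true) : IsConj E.t (M.psi z) := by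
  obtain ⟨a, b, c, p⟩ := z
  simp only [isT, Bool.and_eq_true, Bool.not_eq_true', decide_eq_true_eq] at hz
  obtain ⟨⟨⟨rfl, hab⟩, hp1, hp2⟩, hok⟩ := hz
  simp only [okZ, decide_eq_true_eq, Bool.false_eq_true, if_false] at hok
  obtain ⟨k, hk2, hk4, hk⟩ := M.evenInv p hok hp2 hp1
  have hkv : k * E.w (vIdx a b) * k⁻¹ = E.w (vIdx a b) := by
    refine mul_inv_eq_iff_eq_mul.2 ?_
    cases a <;> cases b
    · simp [vIdx, E.w_zero]
    · simpa [vIdx] using hk4.eq
    · simpa [vIdx] using hk2.eq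
    · simpa [vIdx, w_six] using (hk2.mul_right hk4).eq
  have ht : IsConj E.t (E.w (vIdx a b ^^^ 3)) := h.isConj_tIdx ((chk_vIdx a b).2.2.2.1 hab).2
  refine ht.trans (isConj_iff.2 ⟨k, ?_⟩).symm
  rw [psi, show k * (E.w (vIdx a b) * M.F p) * k⁻¹ = k * E.w (vIdx a b) * k⁻¹ * (k * M.F p * k⁻¹) by group,
    hkv, hk, E.w_mul (vIdx_lt _ _) (by norm_num)]

theorem isConj_of_isU (h : E.Fused) {z : Z} (hz : isU z = true) : IsConj (E.w 2) (M.psi z) := by
  obtain ⟨a, b, c, p⟩ := z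
  simp only [isU, Bool.and_eq_true, Bool.not_eq_true', decide_eq_true_eq] at hz
  obtain ⟨⟨⟨hsq, hne⟩, hok⟩, hnT⟩ := hz
  have hsqG : M.psi (a, b, c, p) * M.psi (a, b, c, p) = 1 := by rw [← M.psi_mul hok, hsq, psi_one]
  have hpp : p * p = 1 := congrArg (fun z : Z => z.2.2.2) hsq
  have hokp := hok
  simp only [okZ, decide_eq_true_eq] at hokp
  cases c
  · simp only [Bool.false_eq_true, if_false] at hokp
    by_cases hp : p = 1
    · subst hp
      rw [psi, _root_.map_one, mul_one]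
      refine h.isConj_uIdx ((chk_vIdx a b).2.2.2.1 ?_).1
      rw [Bool.eq_iff_iff]
      simp only [iff_true]
      by_contra hab
      refine hne ?_
      cases a <;> cases b <;> simp_all [oneZ]
    · have hab : (a || b) = false := by
        simp only [isT, hok, hp, hpp, ne_eq, not_false_eq_true, and_self, decide_true, Bool.not_false,
          Bool.true_and, Bool.and_true] at hnT
        exact hnT
      obtain ⟨k, -, -, hk⟩ := M.evenInv p hokp hpp hp
      simp only [psi, (chk_vIdx a b).2.2.2.2 hab, E.w_zero, one_mul]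
      exact (h.isConj_uIdx (i := 3) (by decide)).trans (isConj_iff.2 ⟨k, hk⟩).symm
  · simp only [if_true] at hokp
    exact M.oddInv p hokp _ (w_vIdx a b) hsqG

theorem classify (h : E.Fused) {z : Z} (hok : okZ z = true) :
    (IsConj E.t (M.psi z) ↔ isT z = true) ∧ (IsConj (E.w 2) (M.psi z) ↔ isU z = true) := by
  have hinv : ∀ {x : G}, orderOf x = 2 → IsConj x (M.psi z) → decide (mulZ z z = oneZ ∧ z ≠ oneZ) = true := by
    intro x hx hc
    obtain ⟨k, hk⟩ := isConj_iff.1 hc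
    have ho : orderOf (M.psi z) = 2 := by
      rw [← hk, ← hx]
      exact (SemiconjBy.orderOf_eq k (by simp [SemiconjBy, mul_assoc])).symm
    obtain ⟨h2, h1⟩ := orderOf_eq_prime_iff.1 ho
    rw [decide_eq_true_eq]
    refine ⟨M.psi_inj (ok_mul hok hok) (by simp [okZ, oneZ]) ?_, fun e => h1 (by rw [e, psi_one])⟩
    rw [M.psi_mul hok, psi_one, ← pow_two, h2]
  have ht : orderOf E.t = 2 := orderOf_eq_prime_iff.2 ⟨by rw [pow_two, E.t_sq], E.t_ne_one⟩
  have hu : orderOf (E.w 2) = 2 :=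
    orderOf_eq_prime_iff.2 ⟨by rw [pow_two, E.w_sq (by norm_num)], E.ne_one_w (by norm_num) (by norm_num)⟩
  refine ⟨⟨fun hc => ?_, M.isConj_of_isT h⟩, ⟨fun hc => ?_, M.isConj_of_isU h⟩⟩
  · by_contra hT
    rw [Bool.not_eq_true] at hT
    exact h.not_conj_u (hc.trans (M.isConj_of_isU h (by simp [isU, hT, hok, hinv ht hc, -Bool.decide_and])).symm)
  · have hT : isT z = false := Bool.eq_false_iff.2 fun hT => h.not_conj_u ((M.isConj_of_isT h hT).trans hc.symm)
    simp [isU, hT, hok, hinv hu hc, -Bool.decide_and]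

include M in
/-- The count of pairs. -/
theorem card_pairs_u (h : E.Fused) :
    Nat.card {p : G × G // IsConj E.t p.1 ∧ IsConj (E.w 2) p.2 ∧ E.w 2 ∈ Subgroup.zpowers (p.1 * p.2)} = 555 := by
  classical
  have hmem : ∀ z ∈ (Finset.univ.filter fun x => isT x = true) ×ˢ (Finset.univ.filter fun x => isU x = true),
      okZ z.1 = true ∧ okZ z.2 = true ∧ isT z.1 = true ∧ isU z.2 = true := by
    intro z hz
    simp only [Finset.mem_product, Finset.mem_filter, Finset.mem_univ, true_and] at hz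
    have h1 := hz.1
    have h2 := hz.2
    simp only [isT, Bool.and_eq_true] at h1
    simp only [isU, Bool.and_eq_true] at h2
    exact ⟨h1.2, h2.1.2, hz.1, hz.2⟩
  let f : {z // z ∈ CountModel.pairs} →
      {p : G × G // IsConj E.t p.1 ∧ IsConj (E.w 2) p.2 ∧ E.w 2 ∈ Subgroup.zpowers (p.1 * p.2)} := fun z =>
    ⟨(M.psi z.1.1, M.psi z.1.2), by
      obtain ⟨hz, hp⟩ := Finset.mem_filter.1 z.2
      obtain ⟨o1, o2, t1, u2⟩ := hmem _ hz
      refine ⟨M.isConj_of_isT h t1, M.isConj_of_isU h u2, ?_⟩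
      obtain ⟨k, -, hk⟩ := List.any_eq_true.1 hp
      rw [decide_eq_true_eq] at hk
      rw [← M.psi_mul o1, ← M.psi_uZ, ← hk, M.psi_pow (ok_mul o1 o2)]
      exact Subgroup.npow_mem_zpowers _ _⟩
  have hf : Function.Bijective f := by
    refine ⟨fun z z' e => ?_, ?_⟩
    · have e' : (M.psi z.1.1, M.psi z.1.2) = (M.psi z'.1.1, M.psi z'.1.2) := congrArg Subtype.val e
      obtain ⟨o1, o2, -, -⟩ := hmem _ (Finset.mem_filter.1 z.2).1
      obtain ⟨p1, p2, -, -⟩ := hmem _ (Finset.mem_filter.1 z'.2).1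
      exact Subtype.ext (Prod.ext (M.psi_inj o1 p1 (congrArg Prod.fst e')) (M.psi_inj o2 p2 (congrArg Prod.snd e')))
    · rintro ⟨⟨x, y⟩, hx, hy, hu⟩
      have hsq : ∀ {a b : G}, a * a = 1 → IsConj a b → b * b = 1 := by
        intro a b ha hab
        obtain ⟨c, rfl⟩ := isConj_iff.1 hab
        rw [show c * a * c⁻¹ * (c * a * c⁻¹) = c * (a * a) * c⁻¹ by group, ha]; group
      have hxx := hsq E.t_sq hx
      have hyy := hsq (E.w_sq (by norm_num)) hy
      have hxi : x⁻¹ = x := inv_eq_of_mul_eq_one_right hxx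
      have hyi : y⁻¹ = y := inv_eq_of_mul_eq_one_right hyy
      have hxc : x ∈ E.cU := by
        obtain ⟨m, hm⟩ := hu
        simp only at hm
        refine mem_cU.2 (mul_inv_eq_iff_eq_mul.1 ?_)
        have e1 : x * (x * y) * x⁻¹ = (x * y)⁻¹ := by
          rw [← mul_assoc x x y, hxx, one_mul, mul_inv_rev, hyi]
        calc x * E.w 2 * x⁻¹ = (x * (x * y) * x⁻¹) ^ m := by rw [← hm]; exact (conj_zpow).symm
          _ = E.w 2 := by rw [e1, inv_zpow, hm, E.w_inv (by norm_num)]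
      have hxyc : x * y ∈ E.cU := by
        obtain ⟨m, hm⟩ := hu
        simp only at hm
        exact mem_cU.2 (hm ▸ (Commute.self_zpow (x * y) m).eq)
      have hyc : y ∈ E.cU := by
        have := mul_mem (inv_mem hxc) hxyc
        rwa [inv_mul_cancel_left] at this
      obtain ⟨zx, ox, rfl⟩ := M.psi_surj hxc
      obtain ⟨zy, oy, rfl⟩ := M.psi_surj hyc
      have hz : (zx, zy) ∈ (Finset.univ.filter fun x => isT x = true) ×ˢ (Finset.univ.filter fun x => isU x = true) := by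
        simp only [Finset.mem_product, Finset.mem_filter, Finset.mem_univ, true_and]
        exact ⟨(M.classify h ox).1.1 hx, (M.classify h oy).2.1 hy⟩
      refine ⟨⟨(zx, zy), Finset.mem_filter.2 ⟨hz, ?_⟩⟩, rfl⟩
      obtain ⟨o, ho, hoe⟩ := List.any_eq_true.1 (CountModel.small _ hz)
      rw [decide_eq_true_eq] at hoe
      have hpow : M.psi (mulZ zx zy) ^ (o + 1) = 1 := by rw [← M.psi_pow (ok_mul ox oy), hoe, psi_one]
      rw [← M.psi_mul ox] at hu
      obtain ⟨k, hk⟩ := (mem_zpowers_iff_mem_range_orderOf.1 hu : _) |> Finset.mem_image.1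
      refine List.any_eq_true.2 ⟨k, List.mem_range.2 ?_, ?_⟩
      · have h1 := Finset.mem_range.1 hk.1
        have h2 := Nat.le_of_dvd (Nat.succ_pos o) (orderOf_dvd_of_pow_eq_one hpow)
        have := List.mem_range.1 ho
        omega
      · rw [decide_eq_true_eq]
        exact M.psi_inj (ok_pow (ok_mul ox oy) k) (by simp [okZ, uZ]) (by rw [M.psi_pow (ok_mul ox oy), hk.2, psi_uZ])
  rw [← Nat.card_eq_of_bijective f hf, Nat.card_eq_finsetCard, CountModel.card_pairs]

end YModel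

end Emb

end Cfsg.Agent.Lib.A8Recog
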