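import Cfsg.Agent.Lib.A8Recog.Split
import Cfsg.Agent.Lib.HallJanko.TSplit

/-!
# The centraliser of the second involution has order `96` or `480`

helper1.  The complement of the four-group is `A₄` or `A₅`; in the second case the centraliser is
parametrised by `S₅`.
-/

set_option autoImplicit false
set_option maxRecDepth 100000
set_option linter.style.haveILetI false
set_option linter.unusedSectionVars false
set_option Elab.async false

namespace Cfsg.Agent.Lib.A8Recog

universe u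

open scoped commutatorElement

theorem perm_five_trivial : ∀ s : Equiv.Perm (Fin 5),
    s * (Equiv.swap 0 1 * Equiv.swap 1 2) = Equiv.swap 0 1 * Equiv.swap 1 2 * s →
    s * (Equiv.swap 2 3 * Equiv.swap 3 4) = Equiv.swap 2 3 * Equiv.swap 3 4 * s → s = 1 := by decide +kernel

theorem chk_outer_u : ([4, 5, 24, 25].all fun x => uCode x) = true := by decide +kernel

namespace Emb

variable {G : Type u} [Group G] [Finite G]

/-- The centraliser in the larger case, parametrised by `S₅`. -/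
structure YModel (E : Emb G) where
  /-- The copy of `S₅`. -/
  F : Equiv.Perm (Fin 5) →* G
  mem : ∀ p, F p ∈ E.cU
  evenFour : ∀ p, Equiv.Perm.sign p = 1 → F p * E.w 4 * (F p)⁻¹ = E.w 4
  oddFour : ∀ p, Equiv.Perm.sign p = -1 → F p * E.w 4 * (F p)⁻¹ = E.w 6
  ker : ∀ p, F p ∈ E.vSub → p = 1
  evenInv : ∀ p, Equiv.Perm.sign p = 1 → p * p = 1 → p ≠ 1 →
    ∃ k, Commute k (E.w 2) ∧ Commute k (E.w 4) ∧ k * F p * k⁻¹ = E.w 3
  oddInv : ∀ p, Equiv.Perm.sign p = -1 → ∀ v ∈ E.vSub, v * F p * (v * F p) = 1 → IsConj (E.w 2) (v * F p)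
  card : Nat.card E.cU = 480

variable {E : Emb G} {Y0 K0 : Subgroup G} {ρ : G}

theorem Split.wSub_le (S : Split E Y0 K0 ρ) : E.wSub ≤ Y0 := fun g hg =>
  (S.inter0 g (wSub_le_dSub hg)).2 hg

theorem Split.xC_not_mem (S : Split E Y0 K0 ρ) : E.ι xC ∉ Y0 := fun hc => by
  obtain ⟨-, -, hxd, hxw, -⟩ := chk_d_cosets
  have := (S.inter0 _ (mem_dSub.2 ⟨_, List.contains_iff_mem.1 hxd, rfl⟩)).1 hc
  rw [ι_mem_wSub_iff (by decide), hxw] at this
  exact Bool.false_ne_true this

theorem Split.inf_wSub (S : Split E Y0 K0 ρ) {a : G} (hk : a ∈ K0) (ha : a ∈ E.wSub) : a ∈ E.kSub := by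
  obtain ⟨i, hi, rfl⟩ := ha
  have := all_range chk_subgroups.2.2.2.1 hi
  simp only [Bool.and_eq_true] at this
  have hv : E.w (lin projV i) ∈ E.vSub := ⟨_, List.contains_iff_mem.1 this.1, rfl⟩
  have hw : E.w (i ^^^ lin projV i) ∈ E.kSub := ⟨_, List.contains_iff_mem.1 this.2, rfl⟩
  have e : E.w i = E.w (lin projV i) * E.w (i ^^^ lin projV i) := by
    rw [E.w_mul (lin_lt _ _) (Nat.xor_lt_two_pow (n := 4) hi (lin_lt _ _))]
    congr 1
    rw [Nat.xor_comm i, ← Nat.xor_assoc, Nat.xor_self, Nat.zero_xor]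
  have h1 : E.w (lin projV i) ∈ K0 := by
    rw [← mul_mem_cancel_right (S.kLe hw), ← e]; exact hk
  rw [e, S.disj _ hv h1, one_mul]
  exact hw

theorem Split.cent_three (S : Split E Y0 K0 ρ) {k : G} (hk : k ∈ K0) (hc : Commute k (E.w 3)) : k ∈ E.kSub := by
  have hU : k ∈ E.cU := S.le0 (S.le hk)
  have ht : E.t = E.w 2 * E.w 3 := by
    rw [E.t_eq_w, E.w_mul (by norm_num) (by norm_num)]; rfl
  have hD : k ∈ E.dSub := Subgroup.mem_inf.2 ⟨by
    rw [cT, Subgroup.mem_centralizer_singleton_iff, ht]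
    exact ((show Commute k (E.w 2) from mem_cU.1 hU).mul_right hc).eq, hU⟩
  exact S.inf_wSub hk ((S.inter0 k hD).1 (S.le hk))

theorem Split.rho_not_comm (S : Split E Y0 K0 ρ) {i : ℕ} (hi : i ∈ [3, 8, 11]) :
    E.w i * ρ ≠ ρ * E.w i := by
  intro e
  have h1 : ρ * E.w i * ρ⁻¹ = E.w i := by rw [← e, mul_inv_cancel_right]
  simp only [List.mem_cons, List.not_mem_nil, or_false] at hi
  rcases hi with rfl | rfl | rfl
  · rw [S.rho3] at h1; exact absurd (E.w_inj (by norm_num) (by norm_num) h1) (by norm_num)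
  · rw [S.rho8] at h1; exact absurd (E.w_inj (by norm_num) (by norm_num) h1) (by norm_num)
  · rw [S.rho11] at h1; exact absurd (E.w_inj (by norm_num) (by norm_num) h1) (by norm_num)

theorem w_mem_kSub {i : ℕ} (hi : i ∈ kMovList) : E.w i ∈ E.kSub := ⟨i, hi, rfl⟩

/-- The two possible centralisers. -/
theorem Fused.centU (h : E.Fused) : Nat.card E.cU = 96 ∨ Nonempty (YModel E) := by
  classical
  haveI : Fact (Nat.Prime 2) := ⟨Nat.prime_two⟩
  obtain ⟨Y0, K0, ρ, S⟩ := h.exists_split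
  obtain ⟨r, hr, hY⟩ := h.card_cU
  have hK : Nat.card K0 = 4 * r := by have := S.card0; have := S.card; omega
  have hP4 : Nat.card (E.kSub.subgroupOf K0) = 4 :=
    (Nat.card_congr (Subgroup.subgroupOfEquivOfLe S.kLe).toEquiv).trans card_kSub
  have hidx : (E.kSub.subgroupOf K0).index = r := by
    have h1 := (E.kSub.subgroupOf K0).card_mul_index
    rw [hP4, hK] at h1
    exact Nat.eq_of_mul_eq_mul_left (by norm_num) h1
  have hPp : IsPGroup 2 (E.kSub.subgroupOf K0) := IsPGroup.of_card (n := 2) (by rw [hP4]; norm_num)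
  set P : Sylow 2 K0 := hPp.toSylow (by rw [hidx]; exact fun hd => Nat.not_even_iff_odd.2 hr (even_iff_two_dvd.2 hd))
  have hP : (P : Subgroup K0) = E.kSub.subgroupOf K0 := IsPGroup.toSylow_coe ..
  have hk3 : E.w 3 ∈ K0 := S.kLe (w_mem_kSub (by decide))
  have hk8 : E.w 8 ∈ K0 := S.kLe (w_mem_kSub (by decide))
  have hklein : IsKleinFour (P : Subgroup K0) := by
    rw [hP]
    haveI : Nontrivial (E.kSub.subgroupOf K0) := Finite.one_lt_card_iff_nontrivial.1 (by rw [hP4]; norm_num)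
    refine ⟨hP4, (Monoid.exponent_eq_prime_iff Nat.prime_two).2 ?_⟩
    intro g hg
    exact orderOf_eq_prime_iff.2 ⟨by
      rw [pow_two]; exact Subtype.ext (Subtype.ext (mem_wSub_sq (kSub_le (Subgroup.mem_subgroupOf.1 g.2)))), hg⟩
  set t0 : K0 := ⟨E.w 3, hk3⟩
  have ht0 : orderOf t0 = 2 := orderOf_eq_prime_iff.2 ⟨by rw [pow_two]; exact Subtype.ext (E.w_sq (by norm_num)),
    fun e => E.ne_one_w (i := 3) (by norm_num) (by norm_num) (congrArg Subtype.val e)⟩
  have hC : Subgroup.centralizer ({t0} : Set K0) = (P : Subgroup K0) := by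
    ext k
    rw [Subgroup.mem_centralizer_singleton_iff, hP, Subgroup.mem_subgroupOf]
    exact ⟨fun e => S.cent_three k.2 (congrArg Subtype.val e), fun hk => Subtype.ext
      (comm_wSub (kSub_le hk) (kSub_le (w_mem_kSub (by decide)))).eq⟩
  have hO : ∀ N : Subgroup K0, N.Normal → Odd (Nat.card N) → N = ⊥ := by
    intro N hN hodd
    have hcent : ∀ i ∈ [3, 8, 11], ∀ k : G, k ∈ K0 → Commute k (E.w i) → k ∈ E.kSub := by
      intro i hi k hk hc
      simp only [List.mem_cons, List.not_mem_nil, or_false] at hi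
      have hρ := S.rhoMem
      have e8 := S.rho8
      have e11 := S.rho11
      rcases hi with rfl | rfl | rfl
      · exact S.cent_three hk hc
      · have h1 := S.cent_three (mul_mem (mul_mem hρ hk) (inv_mem hρ))
          (show Commute (ρ * k * ρ⁻¹) (E.w 3) by
            rw [← e8]; exact (Commute.map hc (MulAut.conj ρ).toMonoidHom))
        obtain ⟨j, hj, e⟩ := h1
        have e' : k = ρ⁻¹ * E.w j * ρ := by rw [e]; group
        refine S.inf_wSub hk ?_
        rw [e']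
        simp only [kMovList, List.mem_cons, List.not_mem_nil, or_false] at hj
        rcases hj with rfl | rfl | rfl | rfl
        · rw [E.w_zero, show ρ⁻¹ * 1 * ρ = (1 : G) by group]; exact one_mem _
        · rw [← e8, show ρ⁻¹ * (ρ * E.w 8 * ρ⁻¹) * ρ = E.w 8 by group]; exact E.w_mem (by norm_num)
        · rw [← e11, show ρ⁻¹ * (ρ * E.w 11 * ρ⁻¹) * ρ = E.w 11 by group]; exact E.w_mem (by norm_num)
        · rw [← S.rho3, show ρ⁻¹ * (ρ * E.w 3 * ρ⁻¹) * ρ = E.w 3 by group]; exact E.w_mem (by norm_num)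
      · have h1 := S.cent_three (mul_mem (mul_mem (mul_mem hρ hρ) hk) (inv_mem (mul_mem hρ hρ)))
          (show Commute (ρ * ρ * k * (ρ * ρ)⁻¹) (E.w 3) by
            rw [show E.w 3 = ρ * ρ * E.w 11 * (ρ * ρ)⁻¹ by
              rw [show ρ * ρ * E.w 11 * (ρ * ρ)⁻¹ = ρ * (ρ * E.w 11 * ρ⁻¹) * ρ⁻¹ by group, e11, e8]]
            exact (Commute.map hc (MulAut.conj (ρ * ρ)).toMonoidHom))
        obtain ⟨j, hj, e⟩ := h1
        have e' : k = ρ * E.w j * ρ⁻¹ := by
          have h3 : ρ * ρ * ρ = 1 := by rw [← S.cube, pow_succ, pow_two]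
          calc k = (ρ * ρ)⁻¹ * (ρ * ρ * k * (ρ * ρ)⁻¹) * (ρ * ρ) := by group
            _ = _ := by rw [← e, inv_eq_of_mul_eq_one_right h3,
              show ρ * ρ = ρ⁻¹ from eq_inv_of_mul_eq_one_left h3]
        refine S.inf_wSub hk ?_
        rw [e']
        simp only [kMovList, List.mem_cons, List.not_mem_nil, or_false] at hj
        rcases hj with rfl | rfl | rfl | rfl
        · rw [E.w_zero, show ρ * 1 * ρ⁻¹ = (1 : G) by group]; exact one_mem _
        · rw [S.rho3]; exact E.w_mem (by norm_num)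
        · rw [e8]; exact E.w_mem (by norm_num)
        · rw [e11]; exact E.w_mem (by norm_num)
    have htriv : ∀ n : K0, n ∈ N → n.1 ∈ E.kSub → n = 1 := by
      intro n hn hk
      by_contra hne
      have h2 : orderOf n = 2 := orderOf_eq_prime_iff.2
        ⟨by rw [pow_two]; exact Subtype.ext (mem_wSub_sq (kSub_le hk)), hne⟩
      have : 2 ∣ Nat.card N := h2 ▸ (Subgroup.orderOf_mk n hn ▸ orderOf_dvd_natCard (⟨n, hn⟩ : N))
      exact Nat.not_even_iff_odd.2 hodd (even_iff_two_dvd.2 this)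
    rw [Subgroup.eq_bot_iff_forall]
    intro n hn
    -- each involution of the four-group inverts
    have hinv : ∀ i ∈ [3, 8, 11], E.w i * n.1 * E.w i = n.1⁻¹ := by
      intro i hi
      have hi16 : i < 16 := by simp only [List.mem_cons, List.not_mem_nil, or_false] at hi; omega
      have hiK : E.w i ∈ K0 := S.kLe (w_mem_kSub (by
        simp only [List.mem_cons, List.not_mem_nil, or_false] at hi
        rcases hi with rfl | rfl | rfl <;> decide))
      let a : K0 := ⟨E.w i, hiK⟩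
      let f : N → N := fun m => ⟨a * m.1 * a⁻¹ * m.1⁻¹, mul_mem (hN.conj_mem _ m.2 _) (inv_mem m.2)⟩
      have hf : Function.Injective f := by
        intro m m' e
        have e' : a * m.1 * a⁻¹ * m.1⁻¹ = a * m'.1 * a⁻¹ * m'.1⁻¹ := congrArg Subtype.val e
        have hcm : Commute ((m'.1⁻¹ * m.1 : K0) : G) (E.w i) := by
          have h1 : a * (m'.1⁻¹ * m.1) * a⁻¹ = m'.1⁻¹ * m.1 := by
            calc a * (m'.1⁻¹ * m.1) * a⁻¹ = (a * m'.1 * a⁻¹)⁻¹ * (a * m.1 * a⁻¹ * m.1⁻¹) * m.1 := by group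
              _ = _ := by rw [e']; group
          exact (show Commute (E.w i) _ from congrArg Subtype.val (mul_inv_eq_iff_eq_mul.1 h1)).symm
        have := htriv _ (mul_mem (inv_mem m'.2) m.2) (hcent i hi _ (m'.1⁻¹ * m.1).2 hcm)
        exact Subtype.ext (inv_mul_eq_one.1 this).symm
      obtain ⟨m, hm⟩ := (Finite.injective_iff_surjective.1 hf) ⟨n, hn⟩
      have hm' : E.w i * m.1.1 * (E.w i)⁻¹ * m.1.1⁻¹ = n.1 := congrArg (fun z : N => z.1.1) hm
      rw [E.w_inv hi16] at hm'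
      rw [← hm', mul_inv_rev, mul_inv_rev, mul_inv_rev, inv_inv, E.w_inv hi16]
      have hs := E.w_sq hi16
      calc E.w i * (E.w i * m.1.1 * E.w i * m.1.1⁻¹) * E.w i
          = (E.w i * E.w i) * m.1.1 * E.w i * m.1.1⁻¹ * E.w i := by group
        _ = _ := by rw [hs, one_mul]; group
    have h11 := hinv 11 (by decide)
    rw [w_eleven, show E.w 3 * E.w 8 * n.1 * (E.w 3 * E.w 8) = E.w 3 * (E.w 8 * n.1 * E.w 8) * E.w 3 by
      rw [show E.w 3 * E.w 8 * n.1 * (E.w 3 * E.w 8) = E.w 3 * (E.w 8 * n.1) * (E.w 3 * E.w 8) by group,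
        E.w_comm (i := 3) (j := 8) (by norm_num) (by norm_num)]; group,
      hinv 8 (by decide), ← inv_inj] at h11
    have h3 : E.w 3 * n.1 * E.w 3 = n.1 := by
      simp only [mul_inv_rev, inv_inv, E.w_inv (i := 3) (by norm_num)] at h11
      rwa [← mul_assoc] at h11
    rw [hinv 3 (by decide)] at h3
    have hn2 : n * n = 1 := Subtype.ext (by
      show n.1 * n.1 = 1
      nth_rewrite 1 [← h3]
      exact inv_mul_cancel _)
    by_contra hne
    have h2 : orderOf n = 2 := orderOf_eq_prime_iff.2 ⟨by rw [pow_two]; exact hn2, hne⟩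
    have : 2 ∣ Nat.card N := h2 ▸ (Subgroup.orderOf_mk n hn ▸ orderOf_dvd_natCard (⟨n, hn⟩ : N))
    exact Nat.not_even_iff_odd.2 hodd (even_iff_two_dvd.2 this)
  have hρP : (⟨ρ, S.rhoMem⟩ : K0) ∉ (P : Subgroup K0) := fun hc => by
    rw [hP, Subgroup.mem_subgroupOf] at hc
    exact S.rho_not_comm (i := 3) (by decide) (comm_wSub (kSub_le (w_mem_kSub (by decide))) (kSub_le hc)).eq
  rcases Cfsg.Agent.Lib.DihedralCentralizer.Klein.cases P hklein ht0 hC hO with hc | hc | ⟨⟨e⟩⟩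
  · exfalso
    obtain ⟨P', N, hN, hcomp⟩ := hc
    have hcard := hcomp.card_mul
    rw [Sylow.card_eq_multiplicity P', ← Sylow.card_eq_multiplicity P, hP, hP4, hK] at hcard
    rw [hO N hN (by rw [show Nat.card N = r by omega]; exact hr), Subgroup.card_bot] at hcard
    exact hρP (by
      rw [show (P : Subgroup K0) = ⊤ from Subgroup.eq_top_of_card_eq _ (by rw [hP, hP4, hK]; omega)]
      exact Subgroup.mem_top _)
  · left
    -- the four-group is normal
    have hn : ∀ k ∈ K0, k * E.w 3 * k⁻¹ ∈ E.kSub := fun k hk => by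
      have := hc.conj_mem t0 (by rw [hP, Subgroup.mem_subgroupOf]; exact w_mem_kSub (by decide)) ⟨k, hk⟩
      rw [hP, Subgroup.mem_subgroupOf] at this
      exact this
    let ρ0 : K0 := ⟨ρ, S.rhoMem⟩
    let f : Fin 3 × E.kSub → K0 := fun z => ρ0 ^ (z.1 : ℕ) * ⟨z.2, S.kLe z.2.2⟩
    have hf : Function.Surjective f := by
      rintro ⟨k, hk⟩
      obtain ⟨j, hj, e⟩ := hn k hk
      have hj' : ∃ a < 3, ρ ^ a * E.w 3 * (ρ ^ a)⁻¹ = k * E.w 3 * k⁻¹ := by
        rw [← e]
        simp only [kMovList, List.mem_cons, List.not_mem_nil, or_false] at hj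
        rcases hj with rfl | rfl | rfl | rfl
        · exact absurd (conj_eq_one_iff.1 (e.symm.trans E.w_zero)) (E.ne_one_w (by norm_num) (by norm_num))
        · exact ⟨0, by norm_num, by simp⟩
        · refine ⟨2, by norm_num, ?_⟩
          rw [pow_two, show ρ * ρ * E.w 3 * (ρ * ρ)⁻¹ = ρ * (ρ * E.w 3 * ρ⁻¹) * ρ⁻¹ by group, S.rho3, S.rho11]
        · exact ⟨1, by norm_num, by rw [pow_one]; exact S.rho3⟩
      obtain ⟨a, ha, ea⟩ := hj'
      have hm : (ρ ^ a)⁻¹ * k ∈ E.kSub := S.cent_three (mul_mem (inv_mem (pow_mem S.rhoMem a)) hk)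
        (mul_inv_eq_iff_eq_mul.1 (by
          rw [show (ρ ^ a)⁻¹ * k * E.w 3 * ((ρ ^ a)⁻¹ * k)⁻¹ = (ρ ^ a)⁻¹ * (k * E.w 3 * k⁻¹) * ρ ^ a by group,
            ← ea]; group))
      exact ⟨(⟨a, ha⟩, ⟨_, hm⟩), Subtype.ext (by
        show ρ ^ a * ((ρ ^ a)⁻¹ * k) = k
        group)⟩
    have hle := Nat.card_le_card_of_surjective f hf
    rw [Nat.card_prod, Nat.card_fin, card_kSub, hK] at hle
    have hr1 : r ≠ 1 := fun h1 => hρP (by
      rw [show (P : Subgroup K0) = ⊤ from Subgroup.eq_top_of_card_eq _ (by rw [hP, hP4, hK, h1])]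
      exact Subgroup.mem_top _)
    rw [hY]
    obtain ⟨q, hq⟩ := hr
    omega
  right
  have hK60 : Nat.card K0 = 60 := by
    rw [Nat.card_congr e.toEquiv, nat_card_alternatingGroup, Nat.card_fin]; rfl
  obtain ⟨-, -, hxd, -, hxx⟩ := chk_d_cosets
  obtain ⟨hx4, hx2, hx3, hx8⟩ := chk_xC
  set x := E.ι xC with hxdef
  have hxD : x ∈ E.dSub := mem_dSub.2 ⟨_, List.contains_iff_mem.1 hxd, rfl⟩
  have hxU : x ∈ E.cU := hxD.2
  have hxsq : x * x = 1 := by rw [hxdef, ← E.map_mul _ (by decide) _ (by decide), hxx, E.map_zero]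
  have hxi : x⁻¹ = x := inv_eq_of_mul_eq_one_right hxsq
  have hxw : ∀ i < 16, ∀ j < 16, cjC xC (wC i) = wC j → x * E.w i * x⁻¹ = E.w j := fun i hi j hj e0 => by
    rw [hxdef, w, ← E.map_cj (by decide) (wC_lt hi), e0]; rfl
  -- conjugation by the outer involution
  haveI : IsSimpleGroup (alternatingGroup (Fin 5)) := alternatingGroup.isSimpleGroup (by simp)
  haveI : IsSimpleGroup K0 := e.isSimpleGroup
  have hperf : commutator K0 = ⊤ := by
    rcases (inferInstance : (commutator K0).Normal).eq_bot_or_eq_top with hb | hb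
    · exfalso
      refine S.rho_not_comm (i := 3) (by decide) ?_
      have := congrArg (fun z : K0 => z.1) (commutatorElement_eq_one_iff_mul_comm.1 ((Subgroup.eq_bot_iff_forall _).1 hb ⁅t0, (⟨ρ, S.rhoMem⟩ : K0)⁆
        (Subgroup.commutator_mem_commutator (Subgroup.mem_top _) (Subgroup.mem_top _))))
      exact this
    · exact hb
  have hxK : ∀ k ∈ K0, x * k * x⁻¹ ∈ K0 := by
    intro k hk
    have hle : commutator K0 ≤ (K0.comap (MulAut.conj x).toMonoidHom).subgroupOf K0 := by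
      rw [commutator_def, Subgroup.commutator_le]
      intro a _ b _
      rw [Subgroup.mem_subgroupOf, Subgroup.mem_comap]
      show x * (a.1 * b.1 * a.1⁻¹ * b.1⁻¹) * x⁻¹ ∈ K0
      rw [show x * (a.1 * b.1 * a.1⁻¹ * b.1⁻¹) * x⁻¹ =
        x * a.1 * x⁻¹ * (x * b.1 * x⁻¹) * (x * a.1 * x⁻¹)⁻¹ * (x * b.1 * x⁻¹)⁻¹ by group]
      exact S.comm _ (S.normal0 x hxU _ (S.le a.2)) _ (S.normal0 x hxU _ (S.le b.2))
    exact hle (hperf.symm ▸ Subgroup.mem_top (⟨k, hk⟩ : K0))
  have hvK : ∀ v ∈ E.vSub, ∀ k ∈ K0, Commute v k := by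
    intro v hv k hk
    have hvY : v ∈ Y0 := S.wSub_le (vSub_le hv)
    let c : MulAut K0 :=
      { toFun := fun a => ⟨v * a.1 * v⁻¹, S.normal v hvY a.1 a.2⟩
        invFun := fun a => ⟨v⁻¹ * a.1 * v⁻¹⁻¹, S.normal v⁻¹ (inv_mem hvY) a.1 a.2⟩
        left_inv := fun a => Subtype.ext (by show v⁻¹ * (v * a.1 * v⁻¹) * v⁻¹⁻¹ = a.1; group)
        right_inv := fun a => Subtype.ext (by show v * (v⁻¹ * a.1 * v⁻¹⁻¹) * v⁻¹ = a.1; group)
        map_mul' := fun a b => Subtype.ext (by show v * (a.1 * b.1) * v⁻¹ = v * a.1 * v⁻¹ * (v * b.1 * v⁻¹); group) }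
    have hvρ : Commute v ρ := by
      obtain ⟨i, hi, rfl⟩ := hv
      have h2 : Commute ρ (E.w 2) := mem_cU.1 (S.le0 (S.le S.rhoMem))
      have h4 : Commute ρ (E.w 4) := mul_inv_eq_iff_eq_mul.1 S.rhoFour
      simp only [vFixList, List.mem_cons, List.not_mem_nil, or_false] at hi
      rcases hi with rfl | rfl | rfl | rfl
      · rw [E.w_zero]; exact Commute.one_left _
      · exact h2.symm
      · exact h4.symm
      · rw [w_six]; exact (h2.mul_right h4).symm
    have hfix : ∀ a : K0, Commute v a.1 → c a = a := fun a ha => Subtype.ext (mul_inv_eq_iff_eq_mul.2 ha.eq)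
    have h := Cfsg.Agent.Lib.HallJanko.aut_trivial e c (x := t0) (y := ⟨E.w 8, hk8⟩) (r := ⟨ρ, S.rhoMem⟩)
      (Subtype.ext (E.w_sq (by norm_num)))
      (fun e1 => E.ne_one_w (i := 3) (by norm_num) (by norm_num) (congrArg Subtype.val e1))
      (Subtype.ext (E.w_sq (by norm_num)))
      (fun e1 => E.ne_one_w (i := 8) (by norm_num) (by norm_num) (congrArg Subtype.val e1))
      (fun e1 => absurd (E.w_inj (by norm_num) (by norm_num) (congrArg Subtype.val e1)) (by norm_num))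
      (Subtype.ext (E.w_comm (by norm_num) (by norm_num)))
      (hfix _ (comm_wSub (vSub_le hv) (E.w_mem (by norm_num))))
      (hfix _ (comm_wSub (vSub_le hv) (E.w_mem (by norm_num)))) (hfix _ hvρ)
      (fun e1 => S.rho_not_comm (i := 3) (by decide) (congrArg Subtype.val e1))
      (fun e1 => S.rho_not_comm (i := 8) (by decide) (congrArg Subtype.val e1))
      (fun e1 => S.rho_not_comm (i := 11) (by decide) (by
        rw [w_eleven]; exact congrArg Subtype.val e1)) ⟨k, hk⟩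
    exact mul_inv_eq_iff_eq_mul.1 (congrArg Subtype.val h)
  let cx : MulAut K0 :=
    { toFun := fun a => ⟨x * a.1 * x⁻¹, hxK a.1 a.2⟩
      invFun := fun a => ⟨x * a.1 * x⁻¹, hxK a.1 a.2⟩
      left_inv := fun a => Subtype.ext (by
        show x * (x * a.1 * x⁻¹) * x⁻¹ = a.1
        rw [show x * (x * a.1 * x⁻¹) * x⁻¹ = (x * x) * a.1 * (x * x)⁻¹ by group, hxsq]; group)
      right_inv := fun a => Subtype.ext (by
        show x * (x * a.1 * x⁻¹) * x⁻¹ = a.1
        rw [show x * (x * a.1 * x⁻¹) * x⁻¹ = (x * x) * a.1 * (x * x)⁻¹ by group, hxsq]; group)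
      map_mul' := fun a b => Subtype.ext (by show x * (a.1 * b.1) * x⁻¹ = x * a.1 * x⁻¹ * (x * b.1 * x⁻¹); group) }
  obtain ⟨σ, hσ⟩ := Cfsg.Agent.Lib.Alternating.exists_conj_eq (α := Fin 5) (by simp) (by simp)
    ((e.symm.trans cx).trans e)
  have hσ' : ∀ a : K0, (e (cx a) : Equiv.Perm (Fin 5)) = σ * (e a : Equiv.Perm (Fin 5)) * σ⁻¹ := fun a => by
    have := hσ (e a)
    simpa using this
  have hcxx : ∀ a, cx (cx a) = a := fun a => Subtype.ext (by
    show x * (x * a.1 * x⁻¹) * x⁻¹ = a.1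
    rw [show x * (x * a.1 * x⁻¹) * x⁻¹ = (x * x) * a.1 * (x * x)⁻¹ by group, hxsq]; group)
  have hσ2 : σ * σ = 1 := by
    have key : ∀ p : Equiv.Perm (Fin 5), p ∈ alternatingGroup (Fin 5) → σ * σ * p = p * (σ * σ) := by
      intro p hp
      obtain ⟨a, ha⟩ := e.surjective ⟨p, hp⟩
      have h1 := hσ' (cx a)
      rw [hcxx, hσ' a, ha] at h1
      exact mul_inv_eq_iff_eq_mul.1 (by rw [mul_inv_rev]; simpa [mul_assoc] using h1.symm)
    exact perm_five_trivial _ (key _ (Equiv.Perm.mem_alternatingGroup.2 (by decide +kernel)))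
      (key _ (Equiv.Perm.mem_alternatingGroup.2 (by decide +kernel)))
  have hσi : σ⁻¹ = σ := inv_eq_of_mul_eq_one_right hσ2
  have hσodd : Equiv.Perm.sign σ = -1 := by
    refine (Int.units_eq_one_or _).resolve_left fun h1 => ?_
    set k := e.symm ⟨σ, Equiv.Perm.mem_alternatingGroup.2 h1⟩ with hkdef
    have hc : ∀ a : K0, Commute (k.1⁻¹ * x) a.1 := by
      intro a
      have h2 : cx a = k * a * k⁻¹ := e.injective (Subtype.ext (by
        rw [hσ' a, _root_.map_mul, _root_.map_mul, _root_.map_inv, hkdef, e.apply_symm_apply]; rfl))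
      have h3 : x * a.1 * x⁻¹ = k.1 * a.1 * k.1⁻¹ := congrArg Subtype.val h2
      refine mul_inv_eq_iff_eq_mul.1 ?_
      rw [show k.1⁻¹ * x * a.1 * (k.1⁻¹ * x)⁻¹ = k.1⁻¹ * (x * a.1 * x⁻¹) * k.1 by group, h3]; group
    have hcY : k.1⁻¹ * x ∈ E.cU := mul_mem (inv_mem (S.le0 (S.le k.2))) hxU
    have hcD : k.1⁻¹ * x ∈ E.dSub := Subgroup.mem_inf.2 ⟨by
      rw [cT, Subgroup.mem_centralizer_singleton_iff, E.t_eq_w,
        show E.w 1 = E.w 2 * E.w 3 by rw [E.w_mul (by norm_num) (by norm_num)]; rfl]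
      exact ((show Commute (k.1⁻¹ * x) (E.w 2) from mem_cU.1 hcY).mul_right (hc t0)).eq, hcY⟩
    have hcn : k.1⁻¹ * x ∉ E.wSub := fun hc' => S.xC_not_mem (by
      rw [← hxdef, show x = k.1 * (k.1⁻¹ * x) by group]; exact mul_mem (S.le k.2) (S.wSub_le hc'))
    obtain ⟨d, hd, hde⟩ := mem_dSub.1 hcD
    have := all_mem chk_d_cent hd
    rw [← hde, ι_mem_wSub_iff (d_lt hd), Bool.not_eq_true] at hcn
    rw [hcn, (E.commute_iff (d_lt hd) (wC_lt (by norm_num))).2 (by rw [hde]; exact (hc t0).eq),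
      (E.commute_iff (d_lt hd) (wC_lt (by norm_num))).2 (by rw [hde]; exact (hc ⟨E.w 8, hk8⟩).eq)] at this
    simp at this
  -- the map from `S₅`
  let f : Equiv.Perm (Fin 5) → G := fun p =>
    if hp : Equiv.Perm.sign p = 1 then (e.symm ⟨p, Equiv.Perm.mem_alternatingGroup.2 hp⟩).1 else 1
  have hfm : ∀ p, f p ∈ K0 := fun p => by
    simp only [f]; split
    · exact SetLike.coe_mem _
    · exact one_mem _
  have hfmul : ∀ p q, Equiv.Perm.sign p = 1 → Equiv.Perm.sign q = 1 → f (p * q) = f p * f q := fun p q hp hq => by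
    simp only [f]
    rw [dif_pos (show Equiv.Perm.sign (p * q) = 1 by simp [hp, hq]), dif_pos hp, dif_pos hq,
      ← Subgroup.coe_mul, ← e.symm.map_mul]
    rfl
  have hfx : ∀ p, Equiv.Perm.sign p = 1 → x * f p = f (σ * p * σ) * x := fun p hp => by
    have hs : Equiv.Perm.sign (σ * p * σ) = 1 := by simp [hp, hσodd]
    simp only [f]
    rw [dif_pos hp, dif_pos hs]
    refine mul_inv_eq_iff_eq_mul.1 ?_
    have h1 := hσ' (e.symm ⟨p, Equiv.Perm.mem_alternatingGroup.2 hp⟩)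
    rw [e.apply_symm_apply, hσi] at h1
    have h2 : cx (e.symm ⟨p, Equiv.Perm.mem_alternatingGroup.2 hp⟩) =
        e.symm ⟨σ * p * σ, Equiv.Perm.mem_alternatingGroup.2 hs⟩ :=
      e.injective (Subtype.ext (by rw [h1, e.apply_symm_apply]))
    exact congrArg Subtype.val h2
  have hodd : ∀ p : Equiv.Perm (Fin 5), Equiv.Perm.sign p ≠ 1 → Equiv.Perm.sign (p * σ) = 1 := fun p hp => by
    rw [_root_.map_mul, (Int.units_eq_one_or _).resolve_left hp, hσodd]; rfl
  let F0 : Equiv.Perm (Fin 5) → G := fun p => if Equiv.Perm.sign p = 1 then f p else f (p * σ) * x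
  have hF : ∀ p q, F0 (p * q) = F0 p * F0 q := by
    intro p q
    simp only [F0]
    by_cases hp : Equiv.Perm.sign p = 1 <;> by_cases hq : Equiv.Perm.sign q = 1
    · rw [if_pos hp, if_pos hq, if_pos (by simp [hp, hq]), hfmul p q hp hq]
    · rw [if_pos hp, if_neg hq, if_neg (by simp [hp, hq]), mul_assoc p q σ, hfmul p (q * σ) hp (hodd q hq), mul_assoc]
    · rw [if_neg hp, if_pos hq, if_neg (by simp [hp, hq]), mul_assoc _ x, hfx q hq, ← mul_assoc,
        ← hfmul _ _ (hodd p hp) (by simp [hq, hσodd])]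
      congr 2
      calc p * q * σ = p * (σ * σ) * q * σ := by rw [hσ2, mul_one]
        _ = _ := by simp only [mul_assoc]
    · rw [if_neg hp, if_neg hq, if_pos (by rw [_root_.map_mul, (Int.units_eq_one_or _).resolve_left hp,
        (Int.units_eq_one_or _).resolve_left hq]; rfl),
        show f (p * σ) * x * (f (q * σ) * x) = f (p * σ) * (x * f (q * σ)) * x by group, hfx _ (hodd q hq),
        show f (p * σ) * (f (σ * (q * σ) * σ) * x) * x = f (p * σ) * f (σ * (q * σ) * σ) * (x * x) by group,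
        hxsq, mul_one, ← hfmul _ _ (hodd p hp) (by simp [hσodd, (Int.units_eq_one_or _).resolve_left hq])]
      congr 1
      calc p * q = p * (σ * σ) * q * (σ * σ) := by rw [hσ2, mul_one, mul_one]
        _ = _ := by simp only [mul_assoc]
  have hxv4 : x * E.w 4 * x⁻¹ = E.w 6 := hxw 4 (by norm_num) 6 (by norm_num) hx4
  refine ⟨⟨MonoidHom.mk' F0 hF, ?_, ?_, ?_, ?_, ?_, ?_, ?_⟩⟩
  · intro p
    show F0 p ∈ E.cU
    simp only [F0]
    split
    · exact S.le0 (S.le (hfm _))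
    · exact mul_mem (S.le0 (S.le (hfm _))) hxU
  · intro p hp
    show F0 p * E.w 4 * (F0 p)⁻¹ = E.w 4
    simp only [F0, if_pos hp]
    exact mul_inv_eq_iff_eq_mul.2 (hvK _ ⟨4, by decide, rfl⟩ _ (hfm p)).symm.eq
  · intro p hp
    show F0 p * E.w 4 * (F0 p)⁻¹ = E.w 6
    simp only [F0]
    rw [if_neg (by rw [hp]; decide),
      show f (p * σ) * x * E.w 4 * (f (p * σ) * x)⁻¹ = f (p * σ) * (x * E.w 4 * x⁻¹) * (f (p * σ))⁻¹ by group, hxv4]
    exact mul_inv_eq_iff_eq_mul.2 (hvK _ ⟨6, by decide, rfl⟩ _ (hfm _)).symm.eq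
  · intro p hp
    change F0 p ∈ E.vSub at hp
    simp only [F0] at hp
    by_cases hs : Equiv.Perm.sign p = 1
    · rw [if_pos hs] at hp
      have h1 := S.disj _ hp (hfm p)
      simp only [f, dif_pos hs] at h1
      exact congrArg Subtype.val ((MulEquiv.map_eq_one_iff e.symm).1 (Subtype.ext h1 : _ = (1 : K0)))
    · exfalso
      rw [if_neg hs] at hp
      refine S.xC_not_mem ?_
      rw [← hxdef, show x = (f (p * σ))⁻¹ * (f (p * σ) * x) by group]
      exact mul_mem (inv_mem (S.le (hfm _))) (S.wSub_le (vSub_le hp))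
  · intro p hp hp2 hp1
    show ∃ k, Commute k (E.w 2) ∧ Commute k (E.w 4) ∧ k * F0 p * k⁻¹ = E.w 3
    simp only [F0, if_pos hp, f, dif_pos hp]
    obtain ⟨c, hc⟩ := isConj_iff.1 (Cfsg.Agent.Lib.HallJanko.invol_conj_alt e
      (x := e.symm ⟨p, Equiv.Perm.mem_alternatingGroup.2 hp⟩) (y := t0)
      (by rw [← _root_.map_mul, show (⟨p, Equiv.Perm.mem_alternatingGroup.2 hp⟩ : alternatingGroup (Fin 5)) * _ = 1 from
        Subtype.ext hp2, _root_.map_one])
      (fun h1 => hp1 (congrArg Subtype.val ((MulEquiv.map_eq_one_iff e.symm).1 h1)))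
      (Subtype.ext (E.w_sq (by norm_num)))
      (fun e1 => E.ne_one_w (i := 3) (by norm_num) (by norm_num) (congrArg Subtype.val e1)))
    exact ⟨c.1, (hvK _ ⟨2, by decide, rfl⟩ _ c.2).symm, (hvK _ ⟨4, by decide, rfl⟩ _ c.2).symm,
      congrArg Subtype.val hc⟩
  · intro p hp v hv hsq
    show IsConj (E.w 2) (v * F0 p)
    change v * F0 p * (v * F0 p) = 1 at hsq
    simp only [F0, if_neg (show Equiv.Perm.sign p ≠ 1 by rw [hp]; decide)] at hsq ⊢
    set g := v * (f (p * σ) * x) with hg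
    have hgU : g ∈ E.cU := mul_mem (wSub_le_cU (vSub_le hv)) (mul_mem (S.le0 (S.le (hfm _))) hxU)
    have hgn : g ∉ Y0 := fun hc => S.xC_not_mem (by
      rw [← hxdef, show x = (f (p * σ))⁻¹ * (v⁻¹ * g) by rw [hg]; group]
      exact mul_mem (inv_mem (S.le (hfm _))) (mul_mem (inv_mem (S.wSub_le (vSub_le hv))) hc))
    have hD32 : Nat.card (E.dSub.subgroupOf E.cU) = 32 :=
      (Nat.card_congr (Subgroup.subgroupOfEquivOfLe (inf_le_right : E.dSub ≤ E.cU)).toEquiv).trans card_dSub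
    have hDp : IsPGroup 2 (E.dSub.subgroupOf E.cU) := IsPGroup.of_card (n := 5) (by rw [hD32]; norm_num)
    have hDi : (E.dSub.subgroupOf E.cU).index = r := by
      have h1 := (E.dSub.subgroupOf E.cU).card_mul_index
      rw [hD32, hY] at h1
      exact Nat.eq_of_mul_eq_mul_left (by norm_num) h1
    set SD : Sylow 2 E.cU := hDp.toSylow (by rw [hDi]; exact fun hd => Nat.not_even_iff_odd.2 hr (even_iff_two_dvd.2 hd))
    have hSD : (SD : Subgroup E.cU) = E.dSub.subgroupOf E.cU := IsPGroup.toSylow_coe ..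
    have hgo : orderOf (⟨g, hgU⟩ : E.cU) = 2 := orderOf_eq_prime_iff.2
      ⟨by rw [pow_two]; exact Subtype.ext hsq, fun e1 => hgn (by
        rw [show g = 1 from congrArg Subtype.val e1]; exact one_mem _)⟩
    have hzp : IsPGroup 2 (Subgroup.zpowers (⟨g, hgU⟩ : E.cU)) :=
      IsPGroup.of_card (n := 1) (by rw [Nat.card_zpowers, hgo]; norm_num)
    obtain ⟨T, hT⟩ := hzp.exists_le_sylow
    obtain ⟨c, hc⟩ := MulAction.exists_smul_eq E.cU T SD
    have hmem : c.1 * g * c.1⁻¹ ∈ E.dSub := by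
      refine (Subgroup.mem_subgroupOf (h := c * ⟨g, hgU⟩ * c⁻¹)).1 ?_
      rw [← hSD, ← hc, Sylow.coe_subgroup_smul]
      exact ⟨⟨g, hgU⟩, hT (Subgroup.mem_zpowers _), rfl⟩
    obtain ⟨d, hd, hde⟩ := mem_dSub.1 hmem
    have hnA : inW d = false := by
      rw [Bool.eq_false_iff]
      intro hA
      rw [← ι_mem_wSub_iff (E := E) (d_lt hd), hde] at hA
      refine hgn ?_
      have := S.normal0 c.1⁻¹ (inv_mem c.2) _ (S.wSub_le hA)
      rwa [show c.1⁻¹ * (c.1 * g * c.1⁻¹) * c.1⁻¹⁻¹ = g by group] at this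
    have hdi : isInv d = true := (E.isInv_iff (d_lt hd)).2 (by
      rw [hde, ← hgo, ← Subgroup.orderOf_coe]
      exact SemiconjBy.orderOf_eq c.1⁻¹ (by simp [SemiconjBy, mul_assoc]))
    have hchk := all_mem chk_d_inv hd
    rw [hnA, hdi] at hchk
    simp only [Bool.not_true, Bool.false_or] at hchk
    have hcu := h.isConj_uCode (d_lt hd) (all_mem chk_outer_u (List.contains_iff_mem.1 hchk))
    rw [hde] at hcu
    exact hcu.trans (isConj_iff.2 ⟨c.1, rfl⟩).symm
  · have := S.card0; have := S.card; omega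

end Emb

end Cfsg.Agent.Lib.A8Recog
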