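import Cfsg.Agent.Lib.A8Recog.Sub
import Cfsg.Agent.Lib.Involutions.Thompson
import Cfsg.Agent.Lib.Involutions.StronglyEmbedded

/-!
# From the centralisers of the two classes to `A₈` and `A₉`

helper61, for helper1's recognition of `A₈` and `A₉`.
-/

set_option autoImplicit false
set_option maxRecDepth 100000
set_option Elab.async false

open Cfsg.Agent.Lib.Involutions

namespace Cfsg.Agent.Lib.A8Recog

universe u

/-- The class representatives of the first class. -/
def endRepsT : List Nat := [1, 5, 12, 14]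

/-- The class representatives of the second class. -/
def endRepsU : List Nat := [2, 4]

/-- Membership of the first class. -/
def endIsT (x : Nat) : Bool :=
  isInv x && (List.range 192).any fun g => endRepsT.any fun y => Nat.beq (cjC g x) (wC y)

/-- Membership of the second class. -/
def endIsU (x : Nat) : Bool :=
  isInv x && (List.range 192).any fun g => endRepsU.any fun y => Nat.beq (cjC g x) (wC y)

/-- Powers in the model. -/
def endPow (x k : Nat) : Nat := Nat.rec 0 (fun _ acc => mulC acc x) k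

/-- The pairs from the two classes with the central involution among the powers of the product. -/
def endPairs : List (Nat × Nat) :=
  (((List.range 192).filter endIsT).flatMap fun a =>
      ((List.range 192).filter endIsU).map fun b => (a, b)).filter fun p =>
    (List.range 24).any fun k => Nat.beq (endPow (mulC p.1 p.2) k) sC

theorem chk_endPairs : endPairs.length = 156 ∧ endPairs.Nodup := by decide +kernel

theorem chk_endExp : ((List.range 192).all fun x => Nat.beq (endPow x 24) 0) = true := by decide +kernel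

/-- The elements centralising the representative of the second class. -/
def endCentU : List Nat := (List.range 192).filter fun x => comC x (wC 2)

theorem chk_endCentU : endCentU.length = 32 ∧ endCentU.Nodup := by decide +kernel

theorem chk_endSig : lin sigA (lin sigB (lin sigB 2)) = 2 ∧ lin sigA (lin sigB (lin sigB 1)) = 9 ∧
    lin sigB (lin sigB 4) = 2 ∧ lin sigA (lin sigA (lin sigB (lin sigB 5))) = 1 ∧
    lin sigA (lin sigA 12) = 1 ∧ lin sigB 14 = 1 := by decide +kernel

theorem chk_endSyl : (sylList.all fun x => Nat.blt x 192) = true := by decide +kernel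

namespace Emb

variable {G : Type u} [Group G] [Finite G] {E : Emb G} {n m : G}

omit [Finite G] in
theorem map_endPow {x : ℕ} (hx : x < 192) : ∀ k, endPow x k < 192 ∧ E.ι (endPow x k) = E.ι x ^ k
  | 0 => ⟨(show (0 : ℕ) < 192 by norm_num), by rw [pow_zero]; exact E.map_zero⟩
  | k + 1 => by
    obtain ⟨h1, h2⟩ := map_endPow hx k
    refine ⟨mulC_lt h1 hx, ?_⟩
    show E.ι (mulC (endPow x k) x) = _
    rw [E.map_mul _ h1 _ hx, h2, pow_succ]

omit [Finite G] in
theorem orderOf_t' : orderOf E.t = 2 := Basic.invol_iff.2 ⟨E.t_sq, E.t_ne_one⟩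

omit [Finite G] in
theorem orderOf_w {i : ℕ} (hi : i < 16) (h0 : i ≠ 0) : orderOf (E.w i) = 2 :=
  Basic.invol_iff.2 ⟨E.w_sq hi, fun h => h0 (E.w_inj hi (by norm_num) (h.trans E.w_zero.symm))⟩

/-- The representatives are carried to the two standard ones. -/
theorem Amal.conj_reps (hn : E.Amal n m) {H : Subgroup G} (hnH : n ∈ H) (hmH : m ∈ H) :
    (∀ y ∈ endRepsT, ∃ M ∈ H, M * E.w y * M⁻¹ = E.t) ∧
      ∀ y ∈ endRepsU, ∃ M ∈ H, M * E.w y * M⁻¹ = E.w 2 := by
  obtain ⟨-, -, e4, e5, e12, e14⟩ := chk_endSig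
  have hmm := Acts.mul E hn.actM hn.actM
  have hnn := Acts.mul E hn.actN hn.actN
  refine ⟨fun y hy => ?_, fun y hy => ?_⟩
  · simp only [endRepsT, List.mem_cons, List.not_mem_nil, or_false] at hy
    rw [E.t_eq_w]
    rcases hy with rfl | rfl | rfl | rfl
    · exact ⟨1, one_mem _, by simp⟩
    · refine ⟨n * n * (m * m), mul_mem (mul_mem hnH hnH) (mul_mem hmH hmH), ?_⟩
      rw [show n * n * (m * m) * E.w 5 * (n * n * (m * m))⁻¹ =
        n * n * ((m * m) * E.w 5 * (m * m)⁻¹) * (n * n)⁻¹ by group, hmm 5 (by norm_num),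
        hnn _ (lin_lt _ _), e5]
    · exact ⟨n * n, mul_mem hnH hnH, by rw [hnn 12 (by norm_num), e12]⟩
    · exact ⟨m, hmH, by rw [hn.actM 14 (by norm_num), e14]⟩
  · simp only [endRepsU, List.mem_cons, List.not_mem_nil, or_false] at hy
    rcases hy with rfl | rfl
    · exact ⟨1, one_mem _, by simp⟩
    · exact ⟨m * m, mul_mem hmH hmH, by rw [hmm 4 (by norm_num), e4]⟩

/-- An involution of the model is carried to one of the two standard ones. -/
theorem Amal.conj_model (hn : E.Amal n m) {H : Subgroup G} (hι : ∀ x < 192, E.ι x ∈ H) (hnH : n ∈ H)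
    (hmH : m ∈ H) {x : ℕ} (hx : x < 192) :
    (endIsT x = true → ∃ M ∈ H, M * E.ι x * M⁻¹ = E.t) ∧
    (endIsU x = true → ∃ M ∈ H, M * E.ι x * M⁻¹ = E.w 2) ∧
    (isInv x = true → endIsT x = true ∨ endIsU x = true) := by
  obtain ⟨hT, hU⟩ := hn.conj_reps hnH hmH
  refine ⟨fun h => ?_, fun h => ?_, fun h => ?_⟩
  · simp only [endIsT, Bool.and_eq_true, List.any_eq_true, List.mem_range] at h
    obtain ⟨-, g, hg, y, hy, hgy⟩ := h
    obtain ⟨M, hM, e⟩ := hT y hy
    refine ⟨M * E.ι g, mul_mem hM (hι g hg), ?_⟩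
    rw [← e, w, ← Nat.eq_of_beq_eq_true hgy, E.map_cj hg hx]; group
  · simp only [endIsU, Bool.and_eq_true, List.any_eq_true, List.mem_range] at h
    obtain ⟨-, g, hg, y, hy, hgy⟩ := h
    obtain ⟨M, hM, e⟩ := hU y hy
    refine ⟨M * E.ι g, mul_mem hM (hι g hg), ?_⟩
    rw [← e, w, ← Nat.eq_of_beq_eq_true hgy, E.map_cj hg hx]; group
  · have hr := all_range chk_reps hx
    simp only [Bool.or_eq_true, Bool.not_eq_true', h, Bool.true_eq_false, false_or,
      List.any_eq_true, List.mem_range] at hr
    obtain ⟨g, hg, y, hy, hgy⟩ := hr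
    simp only [List.mem_cons, List.not_mem_nil, or_false] at hy
    have key : ∀ l : List ℕ, y ∈ l → (List.range 192).any (fun g => l.any fun y => Nat.beq (cjC g x) (wC y)) = true :=
      fun l hl => List.any_eq_true.2 ⟨g, List.mem_range.2 hg, List.any_eq_true.2 ⟨y, hl, hgy⟩⟩
    simp only [endIsT, endIsU, h, Bool.true_and]
    rcases hy with rfl | rfl | rfl | rfl | rfl | rfl
    · exact Or.inl (key _ (by decide))
    · exact Or.inr (key _ (by decide))
    · exact Or.inr (key _ (by decide))
    · exact Or.inl (key _ (by decide))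
    · exact Or.inl (key _ (by decide))
    · exact Or.inl (key _ (by decide))

/-- The classes in the copy of `A₈`. -/
theorem Amal.classes_in (hn : E.Amal n m) {H : Subgroup G} (hι : ∀ x < 192, E.ι x ∈ H) (hnH : n ∈ H)
    (hmH : m ∈ H) {z : G} (hz : z ∈ H) (hz2 : orderOf z = 2) :
    ∃ M ∈ H, M * z * M⁻¹ = E.t ∨ M * z * M⁻¹ = E.w 2 := by
  haveI : Fact (Nat.Prime 2) := ⟨Nat.prime_two⟩
  obtain ⟨S, hS⟩ := E.exists_sylow
  have hSH : (S : Subgroup G) ≤ H := by
    rw [hS]
    rintro _ ⟨x, hx, rfl⟩
    exact hι x (syl_lt hx)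
  obtain ⟨k, hk, hkS⟩ := StronglyEmbedded.exists_conj_le_sylow (S.subtype hSH)
    (W := Subgroup.zpowers z) (IsPGroup.of_card (n := 1) (by rw [Nat.card_zpowers, hz2, pow_one]))
    (Subgroup.zpowers_le.2 hz)
  have hmem : k * z * k⁻¹ ∈ (S : Subgroup G) := by
    have h := hkS ⟨z, Subgroup.mem_zpowers z, rfl⟩
    obtain ⟨y, hy, hye⟩ := h
    rw [show k * z * k⁻¹ = (y : G) from hye.symm]
    exact hy
  rw [hS] at hmem
  obtain ⟨x, hx, hxe⟩ := hmem
  have hx' := syl_lt hx
  have hxi : isInv x = true := (E.isInv_iff hx').2 (by rw [hxe, Basic.orderOf_conj_eq, hz2])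
  obtain ⟨hT, hU, hor⟩ := hn.conj_model hι hnH hmH hx'
  rcases hor hxi with h | h
  · obtain ⟨M, hM, e⟩ := hT h
    exact ⟨M * k, mul_mem hM hk, Or.inl (by rw [← e, hxe]; group)⟩
  · obtain ⟨M, hM, e⟩ := hU h
    exact ⟨M * k, mul_mem hM hk, Or.inr (by rw [← e, hxe]; group)⟩

theorem Fused.not_conj_tu (h : E.Fused) : ¬ IsConj E.t (E.w 2) := h.not_conj (by simp)

/-- The number of pairs for the central involution. -/
theorem card_pairs_t (h : E.Fused) (hn : E.Amal n m) :
    Nat.card {p : G × G // IsConj E.t p.1 ∧ IsConj (E.w 2) p.2 ∧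
      E.t ∈ Subgroup.zpowers (p.1 * p.2)} = 156 := by
  have hconj : ∀ x < 192, (endIsT x = true ↔ IsConj E.t (E.ι x)) ∧
      (endIsU x = true ↔ IsConj (E.w 2) (E.ι x)) := by
    intro x hx
    obtain ⟨hT, hU, hor⟩ := hn.conj_model (H := ⊤) (fun _ _ => trivial) trivial trivial hx
    have hT' : endIsT x = true → IsConj E.t (E.ι x) := fun he => by
      obtain ⟨M, -, e⟩ := hT he
      exact (isConj_iff.2 ⟨M, e⟩).symm
    have hU' : endIsU x = true → IsConj (E.w 2) (E.ι x) := fun he => by
      obtain ⟨M, -, e⟩ := hU he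
      exact (isConj_iff.2 ⟨M, e⟩).symm
    have hinv : ∀ {d : G}, orderOf d = 2 → IsConj d (E.ι x) → isInv x = true := fun hd hc => by
      obtain ⟨g, hg⟩ := isConj_iff.1 hc
      exact (E.isInv_iff hx).2 (by rw [← hg, Basic.orderOf_conj_eq, hd])
    exact ⟨⟨hT', fun hc => (hor (hinv orderOf_t' hc)).resolve_right fun he =>
        h.not_conj_tu (hc.trans (hU' he).symm)⟩,
      ⟨hU', fun hc => (hor (hinv (orderOf_w (by norm_num) (by norm_num)) hc)).resolve_left fun he =>
        h.not_conj_tu ((hT' he).trans hc.symm)⟩⟩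
  have hlt : ∀ p ∈ endPairs, p.1 < 192 ∧ p.2 < 192 ∧ endIsT p.1 = true ∧ endIsU p.2 = true ∧
      ∃ k, endPow (mulC p.1 p.2) k = sC := by
    intro p hp
    obtain ⟨hm, hk⟩ := List.mem_filter.1 hp
    obtain ⟨a, ha, hab⟩ := List.mem_flatMap.1 hm
    obtain ⟨b, hb, rfl⟩ := List.mem_map.1 hab
    obtain ⟨k, -, hk⟩ := List.any_eq_true.1 hk
    obtain ⟨ha1, ha2⟩ := List.mem_filter.1 ha
    obtain ⟨hb1, hb2⟩ := List.mem_filter.1 hb
    exact ⟨List.mem_range.1 ha1, List.mem_range.1 hb1, ha2, hb2, k, Nat.eq_of_beq_eq_true hk⟩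
  let f : Fin endPairs.length → {p : G × G // IsConj E.t p.1 ∧ IsConj (E.w 2) p.2 ∧
      E.t ∈ Subgroup.zpowers (p.1 * p.2)} := fun i =>
    ⟨(E.ι endPairs[i].1, E.ι endPairs[i].2), by
      obtain ⟨h1, h2, h3, h4, k, hk⟩ := hlt _ (List.getElem_mem i.2)
      refine ⟨(hconj _ h1).1.1 h3, (hconj _ h2).2.1 h4, ?_⟩
      show E.t ∈ Subgroup.zpowers (E.ι endPairs[i.1].1 * E.ι endPairs[i.1].2)
      have e : E.ι (mulC endPairs[i.1].1 endPairs[i.1].2) ^ k = E.t := by
        rw [← (map_endPow (E := E) (mulC_lt h1 h2) k).2]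
        exact congrArg E.ι hk
      rw [← E.map_mul _ h1 _ h2, ← e]
      exact Subgroup.npow_mem_zpowers _ k⟩
  have hf : Function.Bijective f := by
    refine ⟨fun a b hab => ?_, ?_⟩
    · have e := congrArg Subtype.val hab
      obtain ⟨h1, h2, -⟩ := hlt _ (List.getElem_mem a.2)
      obtain ⟨h3, h4, -⟩ := hlt _ (List.getElem_mem b.2)
      exact Fin.ext ((chk_endPairs.2.getElem_inj_iff).1
        (Prod.ext (E.inj _ h1 _ h3 (congrArg Prod.fst e)) (E.inj _ h2 _ h4 (congrArg Prod.snd e))))
    · rintro ⟨⟨y, z⟩, hy, hz, hm⟩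
      simp only at hy hz hm
      obtain ⟨g, hg⟩ := isConj_iff.1 hy
      obtain ⟨g', hg'⟩ := isConj_iff.1 hz
      have hy2 : orderOf y = 2 := by rw [← hg, Basic.orderOf_conj_eq]; exact orderOf_t'
      have hz2 : orderOf z = 2 := by
        rw [← hg', Basic.orderOf_conj_eq]; exact orderOf_w (by norm_num) (by norm_num)
      obtain ⟨k, hk⟩ := (Submonoid.mem_powers_iff _ _).1
        ((isOfFinOrder_of_finite (y * z)).mem_powers_iff_mem_zpowers.2 hm)
      have hy1 := Basic.invol_mul_self hy2
      have hz1 := Basic.invol_mul_self hz2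
      have hinvert : ∀ {a : G}, a * (y * z) * a⁻¹ = (y * z)⁻¹ → a * E.t = E.t * a := fun {a} ha => by
        refine mul_inv_eq_iff_eq_mul.1 ?_
        rw [← hk, ← conj_pow, ha, inv_pow, hk, inv_eq_of_mul_eq_one_right E.t_sq]
      have c1 : y * E.t = E.t * y := hinvert (by
        rw [← mul_assoc, hy1, one_mul, mul_inv_rev, Basic.invol_inv hy2, Basic.invol_inv hz2])
      have c2 : z * E.t = E.t * z := hinvert (by
        rw [mul_inv_rev, Basic.invol_inv hy2, Basic.invol_inv hz2, ← mul_assoc z y z, mul_assoc (z * y) z z,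
          hz1, mul_one])
      obtain ⟨a, ha, rfl⟩ := E.range y c1
      obtain ⟨b, hb, rfl⟩ := E.range z c2
      have hmem : (a, b) ∈ endPairs := by
        refine List.mem_filter.2 ⟨List.mem_flatMap.2 ⟨a, List.mem_filter.2 ⟨List.mem_range.2 ha,
          (hconj a ha).1.2 hy⟩, List.mem_map.2 ⟨b, List.mem_filter.2 ⟨List.mem_range.2 hb,
          (hconj b hb).2.2 hz⟩, rfl⟩⟩, ?_⟩
        refine List.any_eq_true.2 ⟨k % 24, List.mem_range.2 (Nat.mod_lt _ (by norm_num)), ?_⟩
        have hp := mulC_lt ha hb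
        have e24 : E.ι (mulC a b) ^ 24 = 1 := by
          rw [← (map_endPow hp 24).2, Nat.eq_of_beq_eq_true (all_range chk_endExp hp), E.map_zero]
        have : endPow (mulC a b) (k % 24) = sC := E.inj _ (map_endPow (E := E) hp _).1 sC (by decide) (by
          rw [(map_endPow hp _).2]
          conv_rhs => rw [show E.ι sC = E.t from rfl, ← hk, ← E.map_mul a ha b hb,
            ← Nat.div_add_mod k 24, pow_add, pow_mul, e24, one_pow, one_mul])
        show Nat.beq (endPow (mulC a b) (k % 24)) sC = true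
        rw [this]; rfl
      obtain ⟨i, hi, e⟩ := List.mem_iff_getElem.1 hmem
      refine ⟨⟨i, hi⟩, Subtype.ext ?_⟩
      show (E.ι endPairs[i].1, E.ι endPairs[i].2) = (E.ι a, E.ι b)
      rw [e]
  rw [← Nat.card_eq_of_bijective f hf, Nat.card_fin, chk_endPairs.1]

/-- A group with a subgroup isomorphic to `A₈` of index nine that is not normal. -/
theorem alt_nine_of_index (H : Subgroup G) (hsimple : IsSimpleGroup H) (hi : H.index = 9)
    (hnn : ¬ H.Normal) (hG : Nat.card G = 181440) : Nonempty (G ≃* alternatingGroup (Fin 9)) := by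
  classical
  have hker : (MulAction.toPermHom G (G ⧸ H)).ker = ⊥ := by
    rw [← Subgroup.normalCore_eq_ker]
    have hle := H.normalCore_le
    haveI := hsimple
    rcases (inferInstance : (H.normalCore.subgroupOf H).Normal).eq_bot_or_eq_top with h | h
    · rw [Subgroup.subgroupOf_eq_bot, disjoint_iff, inf_eq_left.2 hle] at h
      exact h
    · have : H.normalCore = H := le_antisymm hle (Subgroup.subgroupOf_eq_top.1 h)
      exact absurd (this ▸ H.normalCore_normal) hnn
  have hinj : Function.Injective (MulAction.toPermHom G (G ⧸ H)) :=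
    (MonoidHom.ker_eq_bot_iff _).1 hker
  let e : G ⧸ H ≃ Fin 9 := Finite.equivFinOfCardEq (by rw [← hi]; rfl)
  let ψ : G →* Equiv.Perm (Fin 9) := (e.permCongrHom.toMonoidHom).comp (MulAction.toPermHom G (G ⧸ H))
  have hψ : Function.Injective ψ := e.permCongrHom.injective.comp hinj
  have hr : ψ.range = alternatingGroup (Fin 9) := by
    refine Equiv.Perm.eq_alternatingGroup_of_index_eq_two ?_
    have h := ψ.range.card_mul_index
    rw [← Nat.card_congr (MonoidHom.ofInjective hψ).toEquiv, hG, Nat.card_perm, Nat.card_fin,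
      show Nat.factorial 9 = 362880 from rfl] at h
    omega
  exact ⟨(MonoidHom.ofInjective hψ).trans (MulEquiv.subgroupCongr hr)⟩

/-- Recognition of `A₈` and `A₉` from the classes and the centraliser of the second involution. -/
theorem Fused.iso_of_cases (h : E.Fused)
    (hcl : ∀ g : G, orderOf g = 2 → IsConj E.t g ∨ IsConj (E.w 2) g)
    (hU : Nat.card (Subgroup.centralizer ({E.w 2} : Set G)) = 96 ∨
      (Nat.card (Subgroup.centralizer ({E.w 2} : Set G)) = 480 ∧
        Nat.card {p : G × G // IsConj E.t p.1 ∧ IsConj (E.w 2) p.2 ∧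
          E.w 2 ∈ Subgroup.zpowers (p.1 * p.2)} = 555)) :
    Nonempty (G ≃* alternatingGroup (Fin 8)) ∨ Nonempty (G ≃* alternatingGroup (Fin 9)) := by
  classical
  haveI : Fact (Nat.Prime 2) := ⟨Nat.prime_two⟩
  obtain ⟨n, m, hn⟩ := h.exists_amal
  obtain ⟨φ, hφi, hφ⟩ := hn.exists_hom
  set H := φ.range with hH
  let eH : alternatingGroup (Fin 8) ≃* H := MonoidHom.ofInjective hφi
  have hcardH : Nat.card H = 20160 := by
    rw [← Nat.card_congr eH.toEquiv, nat_card_alternatingGroup, Nat.card_fin]; rfl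
  have hsimpleH : IsSimpleGroup H := by
    haveI : IsSimpleGroup (alternatingGroup (Fin 8)) := alternatingGroup.isSimpleGroup (by simp)
    haveI : Nontrivial H := Finite.one_lt_card_iff_nontrivial.1 (by rw [hcardH]; norm_num)
    exact IsSimpleGroup.isSimpleGroup_of_surjective eH.toMonoidHom eH.surjective
  have hlet : ∀ g < 12, E.letter n m g ∈ H := fun g hg =>
    ⟨⟨pL g, Equiv.Perm.mem_alternatingGroup.2 (chk_pL_even g hg)⟩, hφ g hg _⟩
  have hnH : n ∈ H := by simpa [letter] using hlet 8 (by norm_num)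
  have hmH : m ∈ H := by simpa [letter] using hlet 10 (by norm_num)
  have hι : ∀ x < 192, E.ι x ∈ H := by
    have hw : ((List.range 192).all fun c => (genWords.getD c [8]).all (fun g => Nat.blt g 8) &&
        Nat.beq ((genWords.getD c [8]).foldl (fun x g => mulC x (letterCodes.getD g 0 - 1)) 0) c) = true := by
      decide +kernel
    have hc' : ∀ g < 8, letterCodes.getD g 0 - 1 < 192 := by decide +kernel
    have key : ∀ (w : List ℕ), (∀ g ∈ w, g < 8) → ∀ x < 192, E.ι x ∈ H →
        E.ι (w.foldl (fun x g => mulC x (letterCodes.getD g 0 - 1)) x) ∈ H := by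
      intro w
      induction w with
      | nil => intro _ x _ hx; exact hx
      | cons g w ih =>
        intro hw x hx hxH
        have hg := hw g List.mem_cons_self
        refine ih (fun a ha => hw a (List.mem_cons_of_mem _ ha)) _ (mulC_lt hx (hc' g hg)) ?_
        rw [E.map_mul x hx _ (hc' g hg)]
        refine mul_mem hxH ?_
        have := hlet g (by omega)
        rwa [letter, if_neg (by omega), if_neg (by omega), if_neg (by omega), if_neg (by omega),
          if_pos hg] at this
    intro c hc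
    have h0 := all_range hw hc
    simp only [Bool.and_eq_true] at h0
    rw [← Nat.eq_of_beq_eq_true h0.2]
    exact key _ (fun g hg => Nat.le_of_ble_eq_true (all_mem h0.1 hg)) 0 (by norm_num)
      (by rw [E.map_zero]; exact one_mem _)
  have hCt : Subgroup.centralizer ({E.t} : Set G) ≤ H := fun g hg => by
    obtain ⟨x, hx, rfl⟩ := E.range g (Subgroup.mem_centralizer_singleton_iff.1 hg)
    exact hι x hx
  have htH : E.t ∈ H := hι sC (by decide)
  have hw2 : wC 2 < 192 := wC_lt (by norm_num)
  have huH : E.w 2 ∈ H := hι _ hw2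
  -- the size of the class of the central involution
  set a := Nat.card {x : G // IsConj E.t x} with ha
  have haG : a * 192 = Nat.card G := by
    have e := Thompson.card_class_mul E.t
    rw [show Subgroup.centralizer ({E.t} : Set G) = E.cT from rfl, E.card_cT] at e
    exact e
  have hinH : (∀ x : G, IsConj E.t x → x ∈ H) → a ≤ 105 := by
    intro hall
    have e := Thompson.card_class_mul (⟨E.t, htH⟩ : H)
    rw [hcardH] at e
    have hC : Nat.card (Subgroup.centralizer ({⟨E.t, htH⟩} : Set H)) = 192 := by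
      rw [← E.card_cT]
      refine Nat.card_congr ⟨fun g => ⟨(g : H), ?_⟩, fun g => ⟨⟨g, hCt g.2⟩, ?_⟩, fun g => rfl, fun g => rfl⟩
      · exact Subgroup.mem_centralizer_singleton_iff.2
          (congrArg Subtype.val (Subgroup.mem_centralizer_singleton_iff.1 g.2))
      · exact Subgroup.mem_centralizer_singleton_iff.2
          (Subtype.ext (Subgroup.mem_centralizer_singleton_iff.1 g.2))
    rw [hC] at e
    have hle : a ≤ Nat.card {u : H // IsConj (⟨E.t, htH⟩ : H) u} := by
      refine Nat.card_le_card_of_injective (fun x => ⟨⟨x.1, hall x.1 x.2⟩, ?_⟩) fun x y exy => ?_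
      · obtain ⟨g, hg⟩ := isConj_iff.1 x.2
        obtain ⟨M, hM, e'⟩ := hn.classes_in hι hnH hmH (hall x.1 x.2)
          (by rw [← hg, Basic.orderOf_conj_eq]; exact orderOf_t')
        rcases e' with e' | e'
        · exact (isConj_iff.2 ⟨⟨M, hM⟩, Subtype.ext e'⟩ : IsConj (⟨x.1, hall x.1 x.2⟩ : H) ⟨E.t, htH⟩).symm
        · exact absurd (x.2.trans (isConj_iff.2 ⟨M, e'⟩)) h.not_conj_tu
      · exact Subtype.ext (congrArg (fun u => (u.1 : G)) exy)
    omega
  rcases hU with h96 | ⟨h480, h555⟩
  · left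
    -- the centraliser of the second involution lies in the subgroup
    have hCu : Subgroup.centralizer ({E.w 2} : Set G) ≤ H := by
      set C := H ⊓ Subgroup.centralizer ({E.w 2} : Set G) with hC
      set C0 := E.cT ⊓ Subgroup.centralizer ({E.w 2} : Set G) with hC0
      have h32 : Nat.card C0 = 32 := by
        have hl : ∀ i : Fin endCentU.length, endCentU[i] < 192 ∧ comC endCentU[i] (wC 2) = true := fun i => by
          obtain ⟨h1, h2⟩ := List.mem_filter.1 (List.getElem_mem i.2)
          exact ⟨List.mem_range.1 h1, h2⟩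
        let f : Fin endCentU.length → C0 := fun i => ⟨E.ι endCentU[i], E.mem_cT.2 ⟨_, (hl i).1, rfl⟩,
          Subgroup.mem_centralizer_singleton_iff.2 ((E.commute_iff (hl i).1 hw2).1 (hl i).2)⟩
        have hf : Function.Bijective f := by
          refine ⟨fun i j hij => Fin.ext ((chk_endCentU.2.getElem_inj_iff).1
            (E.inj _ (hl i).1 _ (hl j).1 (congrArg Subtype.val hij))), ?_⟩
          rintro ⟨g, hg1, hg2⟩
          obtain ⟨x, hx, rfl⟩ := E.mem_cT.1 hg1
          have hc : comC x (wC 2) = true :=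
            (E.commute_iff hx hw2).2 (Subgroup.mem_centralizer_singleton_iff.1 hg2)
          obtain ⟨i, hi, e⟩ := List.mem_iff_getElem.1
            (List.mem_filter.2 ⟨List.mem_range.2 hx, hc⟩ : x ∈ endCentU)
          exact ⟨⟨i, hi⟩, Subtype.ext (congrArg E.ι e)⟩
        rw [← Nat.card_eq_of_bijective f hf, Nat.card_fin, chk_endCentU.1]
      have d32 : 32 ∣ Nat.card C := by
        rw [← h32]
        refine Subgroup.card_dvd_of_le (le_inf (fun g hg => ?_) inf_le_right)
        obtain ⟨x, hx, rfl⟩ := E.mem_cT.1 hg.1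
        exact hι x hx
      set ρ := n * (m * m) with hρ
      have hact : ∀ i < 16, ρ * E.w i * ρ⁻¹ = E.w (lin sigA (lin sigB (lin sigB i))) := fun i hi => by
        rw [show ρ * E.w i * ρ⁻¹ = n * ((m * m) * E.w i * (m * m)⁻¹) * n⁻¹ by rw [hρ]; group,
          Acts.mul E hn.actM hn.actM i hi, hn.actN _ (lin_lt _ _)]
      have hρC : ρ ∈ C := by
        refine ⟨mul_mem hnH (mul_mem hmH hmH), Subgroup.mem_centralizer_singleton_iff.2 ?_⟩
        refine mul_inv_eq_iff_eq_mul.1 ?_
        rw [hact 2 (by norm_num), chk_endSig.1]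
      have hρo : orderOf ρ = 3 := by
        refine orderOf_eq_prime ?_ fun h1 => ?_
        · have hc : Commute n (m * m) := (Commute.mul_right hn.comm hn.comm : Commute n (m * m))
          rw [hρ, hc.mul_pow, hn.cubeN, one_mul, ← pow_two, ← pow_mul, show 2 * 3 = 3 * 2 from rfl, pow_mul,
            hn.cubeM, one_pow]
        · have e := hact 1 (by norm_num)
          rw [h1, one_mul, inv_one, mul_one, chk_endSig.2.1] at e
          exact absurd (E.w_inj (by norm_num) (by norm_num) e) (by norm_num)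
      have d3 : 3 ∣ Nat.card C := by
        have := orderOf_dvd_natCard (⟨ρ, hρC⟩ : C)
        rwa [Subgroup.orderOf_mk, hρo] at this
      have d96 : 96 ∣ Nat.card C := Nat.Coprime.mul_dvd_of_dvd_of_dvd (by norm_num : Nat.Coprime 32 3) d32 d3
      have heq : C = Subgroup.centralizer ({E.w 2} : Set G) :=
        Subgroup.eq_of_le_of_card_ge inf_le_right (by rw [h96]; exact Nat.le_of_dvd Nat.card_pos d96)
      rw [← heq]
      exact inf_le_left
    have hCz : ∀ z ∈ H, orderOf z = 2 → Subgroup.centralizer ({z} : Set G) ≤ H := by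
      intro z hz hz2 g hg
      obtain ⟨M, hM, e⟩ := hn.classes_in hι hnH hmH hz hz2
      have hcomm : Commute (M * g * M⁻¹) (M * z * M⁻¹) :=
        (show Commute g z from Subgroup.mem_centralizer_singleton_iff.1 hg).map (MulAut.conj M)
      have hmem : M * g * M⁻¹ ∈ H := by
        rcases e with e | e <;> rw [e] at hcomm
        · exact hCt (Subgroup.mem_centralizer_singleton_iff.2 hcomm.eq)
        · exact hCu (Subgroup.mem_centralizer_singleton_iff.2 hcomm.eq)
      have := mul_mem (mul_mem (inv_mem hM) hmem) hM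
      simpa [mul_assoc] using this
    have hall : ∀ x : G, IsConj E.t x → x ∈ H := by
      intro x hx
      obtain ⟨g, hg⟩ := isConj_iff.1 hx
      have hx2 : orderOf x = 2 := by rw [← hg, Basic.orderOf_conj_eq]; exact orderOf_t'
      have hu2 : orderOf (E.w 2) = 2 := orderOf_w (by norm_num) (by norm_num)
      obtain ⟨hz, hzx, hzu⟩ := Basic.central_invol hx2 hu2
        (Basic.even_of_not_isConj hx2 hu2 fun hc => h.not_conj_tu (hx.trans hc))
      have hzH := hCu (Subgroup.mem_centralizer_singleton_iff.2 hzu.eq)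
      exact hCz _ hzH hz (Subgroup.mem_centralizer_singleton_iff.2 hzx.eq.symm)
    have htop : H = ⊤ := by
      refine Subgroup.eq_top_of_card_eq _ (le_antisymm (Subgroup.card_le_card_group _) ?_)
      rw [hcardH, ← haG]
      have := hinH hall
      omega
    exact ⟨(Subgroup.topEquiv.symm.trans (MulEquiv.subgroupCongr htop.symm)).trans eH.symm⟩
  · right
    have hG : Nat.card G = 181440 := by
      have e := Thompson.order_formula E.t (E.w 2) orderOf_t' (orderOf_w (by norm_num) (by norm_num))
        h.not_conj_tu hcl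
      rw [h480, h555, card_pairs_t h hn, show Subgroup.centralizer ({E.t} : Set G) = E.cT from rfl,
        E.card_cT] at e
      exact e
    have hi : H.index = 9 := by
      have e := H.card_mul_index
      rw [hcardH, hG] at e
      omega
    refine alt_nine_of_index H hsimpleH hi (fun hN => ?_) hG
    have := hinH fun x hx => by
      obtain ⟨g, rfl⟩ := isConj_iff.1 hx
      exact hN.conj_mem _ htH g
    omega

end Emb

end Cfsg.Agent.Lib.A8Recog
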