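import Mathlib

/-!
# Certificates for coset enumerations with merging

helper1.  A list of facts `R i * L g = ι c * R j` about words `R`, each justified from earlier ones: it is a
definition, the inverse of an earlier fact, or a chain of earlier facts along one side of a rule
`L g = L w₁ * … * L wₘ`.  The letter `K` stands for `1`, so that equalities of words are facts as well.
-/

set_option autoImplicit false

namespace Cfsg.Agent.Lib.A8Recog.Engine

universe u

/-- The label group, the letters and the facts. -/
structure Setup where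
  /-- Product of labels. -/
  mul : ℕ → ℕ → ℕ
  /-- Bound on labels. -/
  M : ℕ
  /-- Number of letters. -/
  K : ℕ
  /-- The inverse letters, with `K` its own inverse. -/
  linv : List ℕ
  /-- The label of a letter lying in the labelled subgroup, plus one. -/
  code : List ℕ
  /-- The words. -/
  words : List (List ℕ)
  /-- Rules. -/
  rules : List (ℕ × List ℕ)
  /-- Number of facts. -/
  nF : ℕ
  /-- Packed facts, 192 bits each. -/
  facts : ℕ

variable (D : Setup)

/-- Packed data of a fact. -/
def fact (k : ℕ) : ℕ := Nat.land (Nat.shiftRight D.facts (192 * k)) (2 ^ 192 - 1)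

/-- Source. -/
def src (e : ℕ) : ℕ := e % 256

/-- Letter. -/
def let' (e : ℕ) : ℕ := e / 256 % 16

/-- Target. -/
def tgt (e : ℕ) : ℕ := e / 4096 % 256

/-- Label. -/
def lab (e : ℕ) : ℕ := e / 1048576 % 256

/-- Kind. -/
def kind (e : ℕ) : ℕ := e / 268435456 % 4096

/-- The facts used. -/
def path (e : ℕ) : List ℕ := (List.range (e / 2 ^ 40 % 16)).map fun t => e / 2 ^ (44 + 12 * t) % 4096

/-- Compose the facts of a chain: end, label and letters other than `K`. -/
def follow (k : ℕ) : List ℕ → ℕ → ℕ → List ℕ → Option (ℕ × ℕ × List ℕ)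
  | [], i, c, w => some (i, c, w.reverse)
  | f :: fs, i, c, w =>
    let e := fact D f
    if f < k ∧ src e = i then
      follow k fs (tgt e) (D.mul c (lab e)) (if let' e = D.K then w else let' e :: w)
    else none

/-- Check of one fact. -/
def factOK (k : ℕ) : Bool :=
  let e := fact D k
  decide (lab e < D.M ∧ let' e ≤ D.K) &&
    (if kind e = 0 then decide (src e = 0 ∧ tgt e = 0 ∧ D.code.getD (let' e) 0 = lab e + 1 ∧ let' e < D.K)
    else if kind e = 1 then decide (lab e = 0 ∧ D.words.getD (tgt e) [] = D.words.getD (src e) [] ++ [let' e] ∧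
      let' e < D.K)
    else if kind e = 2 then
      let f := (path e).getD 0 k
      decide (f < k ∧ src (fact D f) = tgt e ∧ tgt (fact D f) = src e ∧
        D.linv.getD (let' (fact D f)) (D.K + 1) = let' e ∧ D.mul (lab (fact D f)) (lab e) = 0 ∧
        let' (fact D f) ≤ D.K)
    else
      let ru := D.rules.getD (kind e - 3) (D.K + 1, [])
      decide (ru.1 = let' e ∧ follow D k (path e) (src e) 0 [] = some (tgt e, lab e, ru.2)))

/-- Check of all facts. -/
def factsOK : Bool := decide (D.words.getD 0 [] = [] ∧ 0 < D.M) && (List.range D.nF).all fun k => factOK D k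

/-- An interpretation in a group. -/
structure Interp (G : Type u) [Group G] where
  /-- The labels. -/
  ι : ℕ → G
  /-- The letters. -/
  L : ℕ → G
  mulLt : ∀ x < D.M, ∀ y < D.M, D.mul x y < D.M
  mulMap : ∀ x < D.M, ∀ y < D.M, ι (D.mul x y) = ι x * ι y
  zeroMap : ι 0 = 1
  oneLetter : L D.K = 1
  codeMap : ∀ g < D.K, ∀ c, D.code.getD g 0 = c + 1 → L g = ι c
  invMap : ∀ g ≤ D.K, L (D.linv.getD g (D.K + 1)) = (L g)⁻¹
  ruleMap : ∀ ru ∈ D.rules, L ru.1 = (ru.2.map L).prod

variable {D} {G : Type u} [Group G] (I : Interp D G)

/-- The value of a word. -/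
def Interp.R (i : ℕ) : G := ((D.words.getD i []).map I.L).prod

theorem Interp.R_zero (hT : factsOK D = true) : I.R 0 = 1 := by
  simp only [factsOK, Bool.and_eq_true, decide_eq_true_eq] at hT
  rw [Interp.R, hT.1.1]; rfl

theorem Interp.fact_ok (hT : factsOK D = true) {k : ℕ} (hk : k < D.nF) :
    lab (fact D k) < D.M ∧ let' (fact D k) ≤ D.K ∧
      I.R (src (fact D k)) * I.L (let' (fact D k)) = I.ι (lab (fact D k)) * I.R (tgt (fact D k)) := by
  induction k using Nat.strong_induction_on with
  | _ k ih =>
    have hT' := hT
    simp only [factsOK, Bool.and_eq_true, decide_eq_true_eq] at hT'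
    obtain ⟨⟨-, hM⟩, hall⟩ := hT'
    have h := List.all_eq_true.1 hall k (List.mem_range.2 hk)
    simp only [factOK, Bool.and_eq_true, decide_eq_true_eq] at h
    refine ⟨h.1.1, h.1.2, ?_⟩
    replace h := h.2
    split at h
    · simp only [decide_eq_true_eq] at h
      obtain ⟨h0, h1, hc, hlt⟩ := h
      rw [h0, h1, I.R_zero hT, one_mul, mul_one]
      exact I.codeMap _ hlt _ hc
    split at h
    · simp only [decide_eq_true_eq] at h
      rw [h.1, I.zeroMap, one_mul]
      simp only [Interp.R]
      rw [h.2.1, List.map_append, List.prod_append, List.map_cons, List.map_nil, List.prod_cons,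
        List.prod_nil, mul_one]
    split at h
    · simp only [decide_eq_true_eq] at h
      obtain ⟨hf, hs, ht, hl, hm, hle⟩ := h
      obtain ⟨t1, -, t3⟩ := ih _ hf (hf.trans hk)
      rw [hs, ht] at t3
      rw [← hl, I.invMap _ hle]
      set f := fact D ((path (fact D k)).getD 0 k)
      have hinv : I.ι (lab (fact D k)) = (I.ι (lab f))⁻¹ := by
        refine (inv_eq_of_mul_eq_one_right ?_).symm
        rw [← I.mulMap _ t1 _ (List.all_eq_true.1 hall k (List.mem_range.2 hk) |> fun h' => by
          simp only [factOK, Bool.and_eq_true, decide_eq_true_eq] at h'; exact h'.1.1), hm, I.zeroMap]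
      rw [hinv, mul_inv_eq_iff_eq_mul, mul_assoc, t3, inv_mul_cancel_left]
    · simp only [decide_eq_true_eq] at h
      obtain ⟨hg, hfo⟩ := h
      have hmem : D.rules.getD (kind (fact D k) - 3) (D.K + 1, []) ∈ D.rules := by
        by_cases hb : kind (fact D k) - 3 < D.rules.length
        · rw [List.getD_eq_getElem _ _ hb]; exact List.getElem_mem _
        · rw [List.getD_eq_default _ _ (by omega)] at hg
          have := List.all_eq_true.1 hall k (List.mem_range.2 hk)
          simp only [factOK, Bool.and_eq_true, decide_eq_true_eq] at this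
          simp only at hg; omega
      have key : ∀ (fs : List ℕ) (i c : ℕ) (w : List ℕ) (b d : ℕ) (v : List ℕ), c < D.M →
          follow D k fs i c w = some (b, d, v) →
          ∃ v', v = w.reverse ++ v' ∧ I.ι c * I.R i * (v'.map I.L).prod = I.ι d * I.R b := by
        intro fs
        induction fs with
        | nil =>
          intro i c w b d v _ hs
          simp only [follow, Option.some.injEq, Prod.mk.injEq] at hs
          exact ⟨[], by simp [hs.2.2.symm], by simp [hs.1, hs.2.1]⟩
        | cons f fs ihf =>
          intro i c w b d v hc hs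
          simp only [follow] at hs
          split at hs
          · rename_i hx
            obtain ⟨t1, -, t3⟩ := ih f hx.1 (hx.1.trans hk)
            rw [hx.2] at t3
            obtain ⟨v', e1, e2⟩ := ihf _ _ _ b d v (I.mulLt c hc _ t1) hs
            rw [I.mulMap c hc _ t1] at e2
            split at e1
            · rename_i hK
              refine ⟨v', e1, ?_⟩
              rw [hK, I.oneLetter, mul_one] at t3
              rw [← e2]
              conv_lhs => rw [t3]
              group
            · refine ⟨let' (fact D f) :: v', by simp [e1], ?_⟩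
              rw [List.map_cons, List.prod_cons, ← e2]
              calc I.ι c * I.R i * (I.L (let' (fact D f)) * (v'.map I.L).prod)
                  = I.ι c * (I.R i * I.L (let' (fact D f))) * (v'.map I.L).prod := by group
                _ = _ := by rw [t3]; group
          · exact absurd hs (by simp)
      obtain ⟨v', e1, e2⟩ := key _ _ _ _ _ _ _ hM hfo
      rw [List.reverse_nil, List.nil_append] at e1
      rw [I.zeroMap, one_mul] at e2
      rw [← hg, I.ruleMap _ hmem, e1, e2]

/-- Check of a final table on the live words: entry `pos * K + g` is the index of a fact. -/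
def finalOK (D : Setup) (live : List ℕ) (fin : ℕ) : Bool :=
  decide (live.getD 0 1 = 0) && (List.range live.length).all fun p => (List.range D.K).all fun g =>
    let f := Nat.land (Nat.shiftRight fin (12 * (p * D.K + g))) 4095
    decide (f < D.nF ∧ src (fact D f) = live.getD p 0 ∧ let' (fact D f) = g) && live.contains (tgt (fact D f))

theorem Interp.step (hT : factsOK D = true) {live : List ℕ} {fin : ℕ} (hF : finalOK D live fin = true)
    {p g : ℕ} (hp : p < live.length) (hg : g < D.K) :
    ∃ c < D.M, ∃ q < live.length, I.R (live.getD p 0) * I.L g = I.ι c * I.R (live.getD q 0) := by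
  simp only [finalOK, Bool.and_eq_true] at hF
  have h := List.all_eq_true.1 (List.all_eq_true.1 hF.2 p (List.mem_range.2 hp)) g (List.mem_range.2 hg)
  simp only [Bool.and_eq_true, decide_eq_true_eq] at h
  obtain ⟨⟨hf, hs, hl⟩, hmem⟩ := h
  obtain ⟨q, hq, e⟩ := List.mem_iff_getElem.1 (List.contains_iff_mem.1 hmem)
  obtain ⟨t1, -, t3⟩ := I.fact_ok hT hf
  rw [hs, hl] at t3
  exact ⟨_, t1, q, hq, by rw [List.getD_eq_getElem _ _ hq, e]; exact t3⟩

end Cfsg.Agent.Lib.A8Recog.Engine
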