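import Cfsg.Agent.Lib.A8Recog.CountU
import Cfsg.Agent.Lib.A8Recog.Endgame

/-!
# Recognition of `A₈` and `A₉` from the fused model

helper1.
-/

set_option autoImplicit false

namespace Cfsg.Agent.Lib.A8Recog

universe u

/-- A finite group with the fused model is `A₈` or `A₉`. -/
theorem iso_of_fused {G : Type u} [Group G] [Finite G] (E : Emb G) (h : E.Fused) :
    Nonempty (G ≃* alternatingGroup (Fin 8)) ∨ Nonempty (G ≃* alternatingGroup (Fin 9)) := by
  refine h.iso_of_cases (fun g hg => h.isConj_or hg) ?_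
  rcases h.centU with hc | ⟨⟨M⟩⟩
  · exact Or.inl hc
  · exact Or.inr ⟨M.card, M.card_pairs_u h⟩

end Cfsg.Agent.Lib.A8Recog
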