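import Cfsg.Agent.Lib.A8Recog.Normaliser

/-!
# The classes of involutions in the fused case

helper1.  The normaliser of the elementary abelian subgroup induces the group of order 36, so there
are exactly two classes of involutions.
-/

set_option autoImplicit false
set_option maxRecDepth 100000
set_option Elab.async false

namespace Cfsg.Agent.Lib.A8Recog

universe u

theorem chk_reps : ((List.range 192).all fun x => !isInv x || (List.range 192).any fun g =>
    [1, 2, 4, 5, 12, 14].any fun y => Nat.beq (cjC g x) (wC y)) = true := by decide +kernel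

theorem chk_move : ([2, 4, 5, 12, 14].all fun y => [2, 4, 5, 12, 14].contains y &&
    (survivors y).all fun g => Nat.beq (lin g 1) y) = true := by decide +kernel

theorem chk_kBar_lt : (kBar.all fun k => Nat.blt k 65536) = true := by decide +kernel

namespace Emb

variable {G : Type u} [Group G] [Finite G] (E : Emb G)

theorem exists_kLift {j : ℕ} (hj : j < 4) :
    kLift.getD j 192 < 192 ∧ E.Acts (E.ι (kLift.getD j 192)) (kBar.getD j 0) := by
  have h := all_range chk_lifts hj
  simp only [Bool.and_eq_true] at h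
  have hx : kLift.getD j 192 < 192 := Nat.le_of_ble_eq_true h.1.1
  exact ⟨hx, fun i hi => by rw [w, w, ← E.map_cj hx (wC_lt hi), Nat.eq_of_beq_eq_true (all_range h.2 hi)]⟩

theorem ne_one_w {i : ℕ} (hi : i < 16) (h : i ≠ 0) : E.w i ≠ 1 := fun e =>
  h (E.w_inj hi (by norm_num) (e.trans E.w_zero.symm))

/-- The value of a word is induced by the normaliser. -/
theorem exists_word {m m' : G} {g h : ℕ} (hm : E.Acts m g) (hm' : E.Acts m' h) :
    ∀ wd : List ℕ, (∀ l ∈ wd, l < 6) → ∃ M ∈ E.nW, ∀ i < 16,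
      evW g h wd i < 16 ∧ M * E.w i * M⁻¹ = E.w (evW g h wd i) := by
  suffices H : ∀ (wd : List ℕ), (∀ l ∈ wd, l < 6) → ∀ (M : G) (f : ℕ → ℕ), M ∈ E.nW →
      (∀ i < 16, f i < 16 ∧ M * E.w i * M⁻¹ = E.w (f i)) →
      ∃ M' ∈ E.nW, ∀ i < 16, evW g h wd (f i) < 16 ∧ M' * E.w i * M'⁻¹ = E.w (evW g h wd (f i)) from
    fun wd hwd => H wd hwd 1 id (one_mem _) fun i hi => ⟨hi, by simp⟩
  intro wd
  induction wd with
  | nil => intro _ M f hM hf; exact ⟨M, hM, hf⟩
  | cons l rest ih =>
    intro hl M f hM hf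
    obtain ⟨p, hp⟩ : ∃ p, E.Acts p (pick g h l) := by
      unfold pick
      split
      · exact ⟨m, hm⟩
      split
      · exact ⟨m', hm'⟩
      have := hl l List.mem_cons_self
      exact ⟨_, (E.exists_kLift (j := l - 2) (by omega)).2⟩
    exact ih (fun q hq => hl q (List.mem_cons_of_mem _ hq)) (p * M) (fun i => lin (pick g h l) (f i))
      (mul_mem (E.mem_nW_of_acts hp) hM) fun i hi =>
      ⟨lin_lt _ _, by rw [← hp (f i) (hf i hi).1, ← (hf i hi).2]; group⟩

/-- No two induced maps are caught by the test words. -/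
theorem not_isBad {m m' : G} {g h : ℕ} (hm : E.Acts m g) (hm' : E.Acts m' h) : isBad g h = false := by
  rw [Bool.eq_false_iff]
  intro hbad
  obtain ⟨wd, hwd, hb⟩ := List.any_eq_true.1 hbad
  simp only [Bool.and_eq_true] at hb
  obtain ⟨M, hM, hact⟩ := E.exists_word hm hm' wd fun l hl => Nat.le_of_ble_eq_true
    (all_mem (all_mem chk_testWords hwd) hl)
  have ht := (hact 1 (by norm_num)).2
  rw [Nat.eq_of_beq_eq_true hb.1] at ht
  obtain ⟨k, hk, hka⟩ := E.acts_kBar hM ht
  have hb' := all_mem hb.2 hk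
  have he : ∀ i < 16, evW g h wd i = lin k i := fun i hi =>
    E.w_inj (hact i hi).1 (lin_lt k i) ((hact i hi).2.symm.trans (hka i hi))
  rw [Bool.not_eq_true', Bool.eq_false_iff] at hb'
  refine hb' (List.all_eq_true.2 fun i hi => ?_)
  rw [he i (by simp only [List.mem_cons, List.not_mem_nil, or_false] at hi; omega)]
  simp

/-- A conjugate of the involution in the subgroup gives a surviving map. -/
theorem exists_survivor {y : ℕ} (hy : y ∈ [2, 4, 5, 12, 14]) (h : IsConj E.t (E.w y)) :
    ∃ g ∈ survivors y, ∃ m, E.Acts m g := by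
  have hy16 : y < 16 := by simp only [List.mem_cons, List.not_mem_nil, or_false] at hy; omega
  obtain ⟨c, hc⟩ := isConj_iff.1 h
  rw [E.t_eq_w] at hc
  obtain ⟨m, hm, -, hme⟩ := E.fusion ⊤ le_top (by norm_num) hy16 (Subgroup.mem_top c) hc
  obtain ⟨g, hg, hinj, hact⟩ := E.exists_acts hm
  have h1 : g % 16 = y := by
    refine E.w_inj (by omega) hy16 ?_
    rw [← hme, hact 1 (by norm_num), lin_eq]
    simp
  have hg' : g = y + 16 * (g / 16) := by omega
  have hc' := all_mem (all_range chk_single (show g / 16 < 4096 by omega)) hy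
  rw [← hg', hinj, E.not_isBad hact hact] at hc'
  exact ⟨g, List.contains_iff_mem.1 (by simpa using hc'), m, hact⟩

variable {E}

theorem Fused.exists_five (h : E.Fused) : ∃ g ∈ goodFive, ∃ m, E.Acts m g := by
  obtain ⟨g, hg, m, hm⟩ := E.exists_survivor (by simp) h.outer
  obtain ⟨a, ha, ma, hma⟩ := E.exists_survivor (by simp) h.radA
  obtain ⟨b, hb, mb, hmb⟩ := E.exists_survivor (by simp) h.radB
  have hc := all_mem chk_five hg
  simp only [Bool.or_eq_true] at hc
  rcases hc with (hc | hc) | hc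
  · exact ⟨g, List.contains_iff_mem.1 hc, m, hm⟩
  · have := all_mem hc ha
    rw [E.not_isBad hm hma] at this; simp at this
  · have := all_mem hc hb
    rw [E.not_isBad hm hmb] at this; simp at this

theorem Fused.not_conj (h : E.Fused) {y : ℕ} (hy : y ∈ [2, 4]) : ¬ IsConj E.t (E.w y) := by
  intro hc
  obtain ⟨g, hg, m, hm⟩ := h.exists_five
  obtain ⟨b, hb, mb, hmb⟩ := E.exists_survivor (by simp only [List.mem_cons, List.not_mem_nil, or_false] at hy ⊢; omega) hc
  have := all_mem (all_mem (all_mem chk_not hg) hy) hb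
  rw [E.not_isBad hm hmb] at this; simp at this

theorem Fused.exists_sigma (h : E.Fused) : (∃ m, E.Acts m sigA) ∧ ∃ m, E.Acts m sigB := by
  obtain ⟨g, hg, m, hm⟩ := h.exists_five
  obtain ⟨j, hj, rfl⟩ := List.mem_iff_getElem.1 hg
  have hj4 : j < 4 := hj
  have hc := all_range chk_sig hj4
  rw [List.getD_eq_getElem _ _ hj] at hc
  have hall : ((List.range 4).all fun j =>
      ((sigWords.getD j ([], [])).1.all fun l => Nat.blt l 6) &&
      (sigWords.getD j ([], [])).2.all fun l => Nat.blt l 6) = true := by decide +kernel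
  have hl := all_range hall hj4
  simp only [Bool.and_eq_true] at hl
  have key : ∀ (wd : List ℕ) (σ : ℕ), (∀ i ∈ [1, 2, 4, 8], evW goodFive[j] goodFive[j] wd i = lin σ i) →
      (∀ l ∈ wd, l < 6) → ∃ M, E.Acts M σ := by
    intro wd σ he hlw
    obtain ⟨M, -, hM⟩ := E.exists_word hm hm wd hlw
    refine ⟨M, fun i hi => ?_⟩
    have hb : ∀ i ∈ [1, 2, 4, 8], M * E.w i * M⁻¹ = E.w (lin σ i) := fun i hi' =>
      ((hM i (by simp only [List.mem_cons, List.not_mem_nil, or_false] at hi'; omega)).2).trans (congrArg E.w (he i hi'))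
    obtain ⟨g', -, -, hg'⟩ := E.exists_acts (m := M) (fun i hi => ⟨_, (hM i hi).1, (hM i hi).2⟩)
    have e : ∀ i ∈ [1, 2, 4, 8], lin g' i = lin σ i := fun i hi' =>
      E.w_inj (lin_lt _ _) (lin_lt _ _)
        ((hg' i (by simp only [List.mem_cons, List.not_mem_nil, or_false] at hi'; omega)).symm.trans (hb i hi'))
    rw [hg' i hi]
    congr 1
    rw [lin_eq, lin_eq]
    have e1 := e 1 (by simp); have e2 := e 2 (by simp); have e4 := e 4 (by simp); have e8 := e 8 (by simp)
    simp [lin_eq] at e1 e2 e4 e8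
    rw [e1, e2, e4, e8]
  refine ⟨key (sigWords.getD j ([], [])).1 _ (fun i hi => ?_) fun l hl' => Nat.le_of_ble_eq_true (all_mem hl.1 hl'),
    key (sigWords.getD j ([], [])).2 _ (fun i hi => ?_) fun l hl' => Nat.le_of_ble_eq_true (all_mem hl.2 hl')⟩
  · have := all_mem hc hi; simp only [Bool.and_eq_true] at this; exact Nat.eq_of_beq_eq_true this.1
  · have := all_mem hc hi; simp only [Bool.and_eq_true] at this; exact Nat.eq_of_beq_eq_true this.2

end Emb

end Cfsg.Agent.Lib.A8Recog
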