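import Cfsg.Agent.Lib.A8Recog.FusionData

/-!
# The computed facts about the maps

helper1.
-/

set_option autoImplicit false
set_option maxRecDepth 100000
set_option Elab.async false

namespace Cfsg.Agent.Lib.A8Recog

theorem chk_single : ((List.range 4096).all fun r => [2, 4, 5, 12, 14].all fun y =>
    !linInj (y + 16 * r) || isBad (y + 16 * r) (y + 16 * r) || (survivors y).contains (y + 16 * r)) = true := by
  decide +kernel

theorem chk_five : ((survivors 5).all fun g => goodFive.contains g ||
    ((survivors 12).all fun h => isBad g h) || ((survivors 14).all fun h => isBad g h)) = true := by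
  decide +kernel

theorem chk_not : (goodFive.all fun g => [2, 4].all fun y => (survivors y).all fun h => isBad g h) = true := by
  decide +kernel

theorem chk_lifts : ((List.range 4).all fun j =>
    Nat.blt (kLift.getD j 192) 192 && sylList.contains (kLift.getD j 192) &&
      (List.range 16).all fun i => Nat.beq (cjC (kLift.getD j 192) (wC i)) (wC (lin (kBar.getD j 0) i))) = true := by
  decide +kernel

theorem chk_kbar : ((List.range 192).all fun x =>
    !((List.range 16).all fun i => inW (cjC x (wC i))) ||
      kBar.any fun k => (List.range 16).all fun i => Nat.beq (cjC x (wC i)) (wC (lin k i))) = true := by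
  decide +kernel

theorem chk_testWords : (testWords.all fun w => w.all fun l => Nat.blt l 6) = true := by decide +kernel

theorem chk_sig : ((List.range 4).all fun j => [1, 2, 4, 8].all fun i =>
    Nat.beq (evW (goodFive.getD j 0) (goodFive.getD j 0) (sigWords.getD j ([], [])).1 i) (lin sigA i) &&
    Nat.beq (evW (goodFive.getD j 0) (goodFive.getD j 0) (sigWords.getD j ([], [])).2 i) (lin sigB i)) = true := by
  decide +kernel

end Cfsg.Agent.Lib.A8Recog
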