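import Cfsg.Agent.Lib.A8Recog.Checks

/-!
# The maps induced on the elementary abelian subgroup

helper1.  Test words in two linear maps (letters 0, 1) and the four maps induced by the Sylow
subgroup (letters 2 to 5), and the maps surviving them.
-/

set_option autoImplicit false

namespace Cfsg.Agent.Lib.A8Recog

/-- The linear map with the given images of 1, 2, 4, 8 (four bits each). -/
def lin (g i : Nat) : Nat :=
  Nat.xor (Nat.xor (i % 2 * (g % 16)) (i / 2 % 2 * (g / 16 % 16)))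
    (Nat.xor (i / 4 % 2 * (g / 256 % 16)) (i / 8 % 2 * (g / 4096 % 16)))

/-- The map is injective. -/
def linInj (g : Nat) : Bool := (List.range 16).all fun i => Nat.beq i 0 || !Nat.beq (lin g i) 0

/-- The maps induced by the Sylow subgroup. -/
def kBar : List Nat := [18481, 27441, 33825, 46625]

/-- Elements inducing them. -/
def kLift : List Nat := [112, 116, 0, 4]

/-- Test words. -/
def testWords : List (List Nat) := [[0, 0, 2, 0, 0, 0, 2, 0], [0, 0, 0, 0, 3, 0, 0], [0, 0, 3, 0, 0, 0, 3, 0], [0, 0, 3, 0, 3, 0, 0], [0, 5, 0, 0, 0], [0, 2, 0, 3, 0, 0], [0, 3, 0, 2, 0, 0], [0, 0, 3, 0, 3, 0], [0, 2, 0, 5, 0, 2, 0], [0, 0, 5, 0, 5, 0], [0, 2, 0, 5, 0], [0, 5, 0, 2, 0, 5, 0], [0, 3, 1, 0], [0, 0, 0, 0, 2, 0, 0], [0, 0, 0, 3, 0, 0, 0], [0, 0, 1, 3, 0], [0, 0, 0, 0, 3, 0], [0, 0, 2, 0, 2, 0, 0], [0, 0, 2, 0, 0, 0], [0, 3, 0, 3, 0], [0, 3, 0, 2, 0, 3, 0], [0, 0, 0, 3, 0, 0], [0, 5, 0, 5, 0], [0,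 0, 0, 2, 0, 5, 0], [0, 0, 3, 0, 0, 0, 0], [0, 0, 0, 5, 0], [0, 0, 3, 0, 2, 0], [0, 0, 0, 2, 0, 0], [0, 1, 2, 1, 0], [0, 0, 2, 0, 3, 0], [0, 0, 2, 0, 0, 0, 0], [0, 2, 0, 0, 0, 3, 0], [0, 0, 3, 0, 0, 0, 2, 0], [0, 5, 0, 0, 5, 0], [0, 1, 5, 1, 0], [0, 5, 1, 0], [0, 0, 0, 0, 2, 0], [0, 2, 0, 5, 0, 0], [0, 2, 1, 0], [0, 3, 0, 5, 0], [0, 2, 0, 0, 5, 0], [0, 1, 3, 1, 0], [0, 0, 0, 2, 0, 0, 0], [0, 1, 3, 0], [0, 1, 0], [0, 0, 5, 0, 0, 0, 2, 0], [0, 0, 2, 0, 0, 2, 0], [0, 0, 0, 0, 0, 2, 0], [0, 0, 5, 0, 0, 0, 3, 0], [0, 3, 0, 5, 0, 3, 0], [0, 5, 0, 3, 0, 5, 0], [0, 0, 0, 5, 0, 0, 0], [0, 1, 5, 0], [0, 1, 2, 0], [0, 1, 1, 0], [0, 0, 0, 0, 5, 0], [0, 2, 0, 3, 0], [0, 0, 5, 0, 0, 0], [0, 2, 0, 0, 3, 0], [0, 0, 0, 0, 5, 0, 0], [0, 3, 0, 0, 0], [0, 0, 0, 2, 0], [0, 0, 3, 0, 5, 0], [0, 2, 0, 2, 0], [0, 0, 5, 0, 2, 0], [0, 0, 5, 0, 3, 0], [0, 2, 0, 3, 0, 2, 0]]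

/-- The map of a letter. -/
def pick (g h l : Nat) : Nat := if l = 0 then g else if l = 1 then h else kBar.getD (l - 2) 0

/-- The value of a word, first letter first. -/
def evW (g h : Nat) (w : List Nat) (i : Nat) : Nat := w.foldl (fun j l => lin (pick g h l) j) i

/-- Some word fixes the involution without being induced by the Sylow subgroup. -/
def isBad (g h : Nat) : Bool := testWords.any fun w => Nat.beq (evW g h w 1) 1 &&
  kBar.all fun k => !([1, 2, 4, 8].all fun i => Nat.beq (evW g h w i) (lin k i))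

/-- Maps moving the involution to 2, 4, 5, 12, 14 which pass the test. -/
def survivors (y : Nat) : List Nat :=
  if y = 2 then [35858, 36626, 48402, 48658, 51250, 56114, 60210, 63538] else if y = 4 then [4996, 6324, 7732, 12740, 16116, 27956, 33268, 48580, 54900, 56196, 57716, 58292] else if y = 5 then [10293, 18069, 19253, 19621, 25797, 27637, 33381, 36757, 46181, 46757, 50421, 63685]
  else if y = 12 then [9100, 12876, 27484, 27532, 46668, 46748, 61340, 65116] else [11150, 13422, 17294, 19582, 45678, 48542, 50334, 56190]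

/-- The maps moving the involution to 5 in the fused case. -/
def goodFive : List Nat := [10293, 19253, 33381, 46181]

/-- The two maps of order three. -/
def sigA : Nat := 46668

/-- The second map. -/
def sigB : Nat := 13903

/-- Words for them in each good map. -/
def sigWords : List (List Nat × List Nat) := [([0, 0, 0, 0], [0, 0, 2, 0]), ([0, 0, 3, 0], [0, 0, 0, 0]), ([0, 0, 3, 0, 3], [0, 0, 2, 0, 2]), ([0, 3, 0, 3], [0, 2, 0, 2])]

end Cfsg.Agent.Lib.A8Recog
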