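import Cfsg.Agent.Lib.A8Recog.Basic
import Cfsg.Agent.Lib.A8Recog.FusionChecks
import Cfsg.Agent.Lib.ZStar.StronglyClosed

/-!
# Weak closure of the elementary abelian subgroup and fusion in its normaliser

helper1.
-/

set_option autoImplicit false
set_option linter.style.haveILetI false

open Subgroup

namespace Cfsg.Agent.Lib.A8Recog

universe u

theorem lin_eq (g i : ℕ) : lin g i = ((i % 2 * (g % 16)) ^^^ (i / 2 % 2 * (g / 16 % 16))) ^^^
    ((i / 4 % 2 * (g / 256 % 16)) ^^^ (i / 8 % 2 * (g / 4096 % 16))) := rfl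

theorem lin_lt (g i : ℕ) : lin g i < 16 := by
  have h : ∀ b v : ℕ, b % 2 * (v % 16) < 16 := fun b v => by
    rcases Nat.mod_two_eq_zero_or_one b with e | e <;> rw [e] <;> omega
  rw [lin_eq]
  exact Nat.xor_lt_two_pow (n := 4) (Nat.xor_lt_two_pow (n := 4) (h _ _) (h _ _))
    (Nat.xor_lt_two_pow (n := 4) (h _ _) (h _ _))

namespace Emb

variable {G : Type u} [Group G] [Finite G] (E : Emb G)

/-- `g` acts on the elementary abelian subgroup as the coded linear map. -/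
def Acts (m : G) (g : ℕ) : Prop := ∀ i < 16, m * E.w i * m⁻¹ = E.w (lin g i)

theorem mem_nW_of_acts {m : G} {g : ℕ} (h : E.Acts m g) : m ∈ E.nW :=
  fun i hi => ⟨lin g i, lin_lt g i, h i hi⟩

theorem exists_acts {m : G} (hm : m ∈ E.nW) : ∃ g < 65536, linInj g = true ∧ E.Acts m g := by
  obtain ⟨a, ha, ea⟩ := hm 1 (by norm_num)
  obtain ⟨b, hb, eb⟩ := hm 2 (by norm_num)
  obtain ⟨c, hc, ec⟩ := hm 4 (by norm_num)
  obtain ⟨d, hd, ed⟩ := hm 8 (by norm_num)
  refine ⟨a + 16 * b + 256 * c + 4096 * d, by omega, ?_⟩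
  set g := a + 16 * b + 256 * c + 4096 * d with hg
  have e1 : g % 16 = a := by omega
  have e2 : g / 16 % 16 = b := by omega
  have e3 : g / 256 % 16 = c := by omega
  have e4 : g / 4096 % 16 = d := by omega
  have hlin : ∀ i, lin g i = ((i % 2 * a) ^^^ (i / 2 % 2 * b)) ^^^ ((i / 4 % 2 * c) ^^^ (i / 8 % 2 * d)) :=
    fun i => by rw [lin_eq, e1, e2, e3, e4]
  have hbit : ∀ k < 2, ∀ p v : ℕ, p < 16 → v < 16 → m * E.w p * m⁻¹ = E.w v →
      m * E.w (k * p) * m⁻¹ = E.w (k * v) := by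
    intro k hk p v _ _ h
    interval_cases k
    · simp [E.w_zero]
    · simpa using h
  have hbl : ∀ k < 2, ∀ p < 16, k * p < 16 := fun k hk p hp => by interval_cases k <;> omega
  have hA : E.Acts m g := by
    intro i hi
    have hsum : ∀ i < 16,
        i = ((i % 2 * 1) ^^^ (i / 2 % 2 * 2)) ^^^ ((i / 4 % 2 * 4) ^^^ (i / 8 % 2 * 8)) := by decide
    have hx : ∀ {p q : ℕ}, p < 16 → q < 16 → p ^^^ q < 16 := fun hp hq => Nat.xor_lt_two_pow (n := 4) hp hq
    have hm2 : ∀ x y : ℕ, x < 16 → y < 16 → ∀ x' y' : ℕ, x' < 16 → y' < 16 → m * E.w x * m⁻¹ = E.w x' →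
        m * E.w y * m⁻¹ = E.w y' → m * E.w (x ^^^ y) * m⁻¹ = E.w (x' ^^^ y') := by
      intro x y hx hy x' y' hx' hy' h1 h2
      rw [← E.w_mul hx hy, ← E.w_mul hx' hy', ← h1, ← h2]; group
    have k1 : i % 2 < 2 := Nat.mod_lt _ (by norm_num)
    have k2 : i / 2 % 2 < 2 := Nat.mod_lt _ (by norm_num)
    have k3 : i / 4 % 2 < 2 := Nat.mod_lt _ (by norm_num)
    have k4 : i / 8 % 2 < 2 := Nat.mod_lt _ (by norm_num)
    rw [hlin]
    conv_lhs => rw [hsum i hi]
    refine hm2 _ _ ?_ ?_ _ _ ?_ ?_ (hm2 _ _ ?_ ?_ _ _ ?_ ?_ (hbit _ k1 1 a (by norm_num) ha ea)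
      (hbit _ k2 2 b (by norm_num) hb eb)) (hm2 _ _ ?_ ?_ _ _ ?_ ?_ (hbit _ k3 4 c (by norm_num) hc ec)
      (hbit _ k4 8 d (by norm_num) hd ed)) <;>
      first
        | exact hx (hbl _ ‹_› _ (by omega)) (hbl _ ‹_› _ (by omega))
        | exact hbl _ ‹_› _ (by omega)
  refine ⟨List.all_eq_true.2 fun i hi => ?_, hA⟩
  simp only [Bool.or_eq_true, Bool.not_eq_true']
  by_cases h0 : i = 0
  · exact Or.inl (by simp [h0])
  refine Or.inr (Bool.eq_false_iff.2 fun h => h0 ?_)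
  have hi' := List.mem_range.1 hi
  have h' := hA i hi'
  rw [Nat.eq_of_beq_eq_true h, E.w_zero] at h'
  refine E.w_inj hi' (by norm_num) ?_
  rw [E.w_zero]
  exact mul_left_cancel (mul_right_cancel (h'.trans (by group : (1 : G) = m * 1 * m⁻¹)))

theorem Acts.mul {m m' : G} {g g' : ℕ} (h : E.Acts m g) (h' : E.Acts m' g') :
    ∀ i < 16, (m * m') * E.w i * (m * m')⁻¹ = E.w (lin g (lin g' i)) := by
  intro i hi
  rw [← h _ (lin_lt g' i), ← h' i hi]; group

/-- An element of the normaliser fixing the involution acts as one of the four maps. -/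
theorem acts_kBar {m : G} (hm : m ∈ E.nW) (ht : m * E.w 1 * m⁻¹ = E.w 1) :
    ∃ k ∈ kBar, E.Acts m k := by
  obtain ⟨x, hx, rfl⟩ := E.range m (by
    show m * E.t = E.t * m
    rw [E.t_eq_w]; exact mul_inv_eq_iff_eq_mul.1 ht)
  have h := all_range chk_kbar hx
  simp only [Bool.or_eq_true, Bool.not_eq_true'] at h
  rcases h with h | h
  · exfalso
    have : ((List.range 16).all fun i => inW (cjC x (wC i))) = true := by
      refine List.all_eq_true.2 fun i hi => ?_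
      obtain ⟨j, hj, e⟩ := hm i (List.mem_range.1 hi)
      refine List.any_eq_true.2 ⟨j, List.mem_range.2 hj, ?_⟩
      rw [w, w, ← E.map_cj hx (wC_lt (List.mem_range.1 hi))] at e
      rw [E.inj (cjC x (wC i)) (mulC_lt (mulC_lt hx (wC_lt (List.mem_range.1 hi))) (invC_lt hx)) (wC j)
        (wC_lt hj) e]
      simp
    rw [this] at h; simp at h
  · obtain ⟨k, hk, hki⟩ := List.any_eq_true.1 h
    refine ⟨k, hk, fun i hi => ?_⟩
    have e := Nat.eq_of_beq_eq_true (all_range hki hi)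
    rw [w, w, ← E.map_cj hx (wC_lt hi), e]

/-- The elementary abelian subgroup is weakly closed. -/
theorem mem_nW_of_le {g : G} (h : ∀ i < 16, g * E.w i * g⁻¹ ∈ E.sylSub) : g ∈ E.nW := by
  have hcode : ∀ i : Fin 15, ∃ x ∈ sylInv, x < 192 ∧ E.ι x = g * E.w ((i : ℕ) + 1) * g⁻¹ := by
    intro i
    have hi : (i : ℕ) + 1 < 16 := by omega
    obtain ⟨x, hx, e⟩ := h _ hi
    refine ⟨x, List.mem_filter.2 ⟨hx, (E.isInv_iff (syl_lt hx)).2 ?_⟩, syl_lt hx, e⟩
    rw [e, orderOf_eq_prime_iff]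
    refine ⟨by rw [conj_pow, sq, E.w_sq hi]; simp, fun h1 => Nat.succ_ne_zero _
      (E.w_inj hi (by norm_num) ?_)⟩
    rw [E.w_zero]; simpa using h1
  choose f hf hlt he using hcode
  have hfi : Function.Injective f := fun a b hab => by
    have h1 : g * E.w ((a : ℕ) + 1) * g⁻¹ = g * E.w ((b : ℕ) + 1) * g⁻¹ := by rw [← he, ← he, hab]
    exact Fin.ext (Nat.succ_injective (E.w_inj (by omega) (by omega) (mul_left_cancel (mul_right_cancel h1))))
  have hW : ∀ i, inW (f i) = true := by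
    intro i
    have h1 := all_mem chk_unique (hf i)
    rcases Bool.or_eq_true _ _ ▸ h1 with h1 | h1
    · exact h1
    exfalso
    have hsub : ∀ j, f j ∈ (sylInv.filter fun y => comC (f i) y) := fun j => List.mem_filter.2 ⟨hf j,
      (E.commute_iff (hlt i) (hlt j)).2 (by rw [he, he, conj_mul, conj_mul, E.w_comm (by omega) (by omega)])⟩
    have hcard : (Finset.univ.image f).card ≤ (sylInv.filter fun y => comC (f i) y).length :=
      (Finset.card_le_card fun y hy => by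
        obtain ⟨j, -, rfl⟩ := Finset.mem_image.1 hy
        exact List.mem_toFinset.2 (hsub j)).trans (List.toFinset_card_le _)
    rw [Finset.card_image_of_injective _ hfi, Finset.card_fin] at hcard
    have := Nat.le_of_ble_eq_true h1
    omega
  intro i hi
  by_cases h0 : i = 0
  · exact ⟨0, by norm_num, by simp [h0, E.w_zero]⟩
  obtain ⟨j, hj, e⟩ := mem_inW (hW ⟨i - 1, by omega⟩)
  refine ⟨j, hj, ?_⟩
  have := he ⟨i - 1, by omega⟩
  rw [show i - 1 + 1 = i by omega] at this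
  show _ = E.ι (wC j)
  rw [e, this]

/-- Weak closure in every 2-subgroup. -/
theorem mem_nW_of_isPGroup {P : Subgroup G} (hP : IsPGroup 2 P) (hW : E.wSub ≤ P) {g : G}
    (h : ∀ i < 16, g * E.w i * g⁻¹ ∈ P) : g ∈ E.nW := by
  haveI : Fact (Nat.Prime 2) := ⟨Nat.prime_two⟩
  obtain ⟨S, hS⟩ := E.exists_sylow
  obtain ⟨T, hT⟩ := hP.exists_le_sylow
  obtain ⟨k, hk⟩ := MulAction.exists_smul_eq G T S
  have hmem : ∀ x ∈ P, k * x * k⁻¹ ∈ E.sylSub := fun x hx =>
    hS ▸ ZStar.Elements.smul_mem hk (hT hx)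
  have hk' : k ∈ E.nW := E.mem_nW_of_le fun i hi => hmem _ (hW (E.w_mem hi))
  have hkg : k * g ∈ E.nW := E.mem_nW_of_le fun i hi => by
    have := hmem _ (h i hi)
    rwa [show k * g * E.w i * (k * g)⁻¹ = k * (g * E.w i * g⁻¹) * k⁻¹ by group]
  have h' : k⁻¹ * (k * g) ∈ E.nW := mul_mem (inv_mem hk') hkg
  rwa [inv_mul_cancel_left] at h'

/-- Fusion in the elementary abelian subgroup is controlled by its normaliser, also inside a
subgroup containing it. -/
theorem fusion (R : Subgroup G) (hR : E.wSub ≤ R) {i j : ℕ} (hi : i < 16) (hj : j < 16) {g : G}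
    (hg : g ∈ R) (e : g * E.w i * g⁻¹ = E.w j) :
    ∃ m ∈ E.nW, m ∈ R ∧ m * E.w i * m⁻¹ = E.w j := by
  haveI : Fact (Nat.Prime 2) := ⟨Nat.prime_two⟩
  let C : Subgroup G := Subgroup.centralizer {E.w j} ⊓ R
  let V : Subgroup G := E.wSub.map (MulAut.conj g).toMonoidHom
  have hW2 : IsPGroup 2 E.wSub := fun x => ⟨1, Subtype.ext (by
    obtain ⟨_, k, hk, rfl⟩ := x
    show E.w k ^ 2 ^ 1 = 1
    rw [pow_one, sq, E.w_sq hk])⟩
  have hWC : E.wSub ≤ C := fun x hx => by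
    refine ⟨?_, hR hx⟩
    obtain ⟨k, hk, rfl⟩ := hx
    exact mem_centralizer_singleton_iff.2 (E.w_comm hk hj)
  have hVC : V ≤ C := by
    rintro _ ⟨x, ⟨k, hk, rfl⟩, rfl⟩
    refine ⟨mem_centralizer_singleton_iff.2 ?_, R.mul_mem (R.mul_mem hg (hR (E.w_mem hk))) (R.inv_mem hg)⟩
    show g * E.w k * g⁻¹ * E.w j = E.w j * (g * E.w k * g⁻¹)
    rw [← e, conj_mul, conj_mul, E.w_comm hk hi]
  obtain ⟨P, hP⟩ := (hW2.comap_subtype (K := C)).exists_le_sylow
  obtain ⟨Q, hQ⟩ := ((hW2.map (MulAut.conj g).toMonoidHom).comap_subtype (K := C)).exists_le_sylow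
  obtain ⟨k, hk⟩ := MulAction.exists_smul_eq C Q P
  have hPG : IsPGroup 2 ((P : Subgroup C).map C.subtype) := P.isPGroup'.map _
  have hWP : E.wSub ≤ (P : Subgroup C).map C.subtype := fun x hx =>
    ⟨⟨x, hWC hx⟩, hP hx, rfl⟩
  have hmem : (k : G) * g ∈ E.nW := E.mem_nW_of_isPGroup hPG hWP fun q hq => by
    refine ⟨k * ⟨g * E.w q * g⁻¹, hVC ⟨E.w q, E.w_mem hq, rfl⟩⟩ * k⁻¹,
      ZStar.Elements.smul_mem hk (hQ ⟨E.w q, E.w_mem hq, rfl⟩), ?_⟩
    simp only [Subgroup.coe_subtype, Subgroup.coe_mul, Subgroup.coe_inv]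
    group
  refine ⟨(k : G) * g, hmem, mul_mem k.2.2 hg, ?_⟩
  rw [show (k : G) * g * E.w i * ((k : G) * g)⁻¹ = k * (g * E.w i * g⁻¹) * (k : G)⁻¹ by group, e]
  exact mul_inv_eq_iff_eq_mul.2 (mem_centralizer_singleton_iff.1 k.2.1)

end Emb

end Cfsg.Agent.Lib.A8Recog
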