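import Cfsg.Agent.Lib.A8Recog.CentU
import Cfsg.Agent.Lib.HallJanko.Retract

/-!
# The subgroup of index two is a product with a four-group

helper1.  The transfer into the four-group fixed by an element of order three splits it off.
-/

set_option autoImplicit false
set_option maxRecDepth 100000
set_option linter.style.haveILetI false
set_option linter.unusedSectionVars false
set_option Elab.async false

namespace Cfsg.Agent.Lib.A8Recog

universe u

theorem chk_proj_lin : ((List.range 16).all fun i => (List.range 16).all fun j =>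
    Nat.beq (lin projV (i ^^^ j)) (lin projV i ^^^ lin projV j)) = true := by decide +kernel

namespace Emb

variable {G : Type u} [Group G] [Finite G]

/-- The four-group fixed by the element of order three. -/
def vSub (E : Emb G) : Subgroup G where
  carrier := {g | ∃ i ∈ vFixList, E.w i = g}
  one_mem' := ⟨0, by decide, E.w_zero⟩
  mul_mem' := by
    rintro _ _ ⟨i, hi, rfl⟩ ⟨j, hj, rfl⟩
    have hlt : ∀ x ∈ vFixList, x < 16 := by decide
    exact ⟨i ^^^ j, List.contains_iff_mem.1 (all_mem (all_mem chk_subgroups.1 hi) hj),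
      (E.w_mul (hlt i hi) (hlt j hj)).symm⟩
  inv_mem' := by
    rintro _ ⟨i, hi, rfl⟩
    have hlt : ∀ x ∈ vFixList, x < 16 := by decide
    exact ⟨i, hi, (E.w_inv (hlt i hi)).symm⟩

/-- The four-group moved by the element of order three. -/
def kSub (E : Emb G) : Subgroup G where
  carrier := {g | ∃ i ∈ kMovList, E.w i = g}
  one_mem' := ⟨0, by decide, E.w_zero⟩
  mul_mem' := by
    rintro _ _ ⟨i, hi, rfl⟩ ⟨j, hj, rfl⟩
    have hlt : ∀ x ∈ kMovList, x < 16 := by decide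
    exact ⟨i ^^^ j, List.contains_iff_mem.1 (all_mem (all_mem chk_subgroups.2.1 hi) hj),
      (E.w_mul (hlt i hi) (hlt j hj)).symm⟩
  inv_mem' := by
    rintro _ ⟨i, hi, rfl⟩
    have hlt : ∀ x ∈ kMovList, x < 16 := by decide
    exact ⟨i, hi, (E.w_inv (hlt i hi)).symm⟩

variable {E : Emb G}

theorem mem_vSub {g : G} : g ∈ E.vSub ↔ ∃ i ∈ vFixList, E.w i = g := Iff.rfl

theorem mem_kSub {g : G} : g ∈ E.kSub ↔ ∃ i ∈ kMovList, E.w i = g := Iff.rfl

theorem vSub_le : E.vSub ≤ E.wSub := by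
  rintro _ ⟨i, hi, rfl⟩
  exact E.w_mem ((by decide : ∀ x ∈ vFixList, x < 16) i hi)

theorem kSub_le : E.kSub ≤ E.wSub := by
  rintro _ ⟨i, hi, rfl⟩
  exact E.w_mem ((by decide : ∀ x ∈ kMovList, x < 16) i hi)

theorem comm_wSub {a b : G} (ha : a ∈ E.wSub) (hb : b ∈ E.wSub) : Commute a b := by
  obtain ⟨i, hi, rfl⟩ := ha
  obtain ⟨j, hj, rfl⟩ := hb
  exact E.w_comm hi hj

theorem card_wList {K : Subgroup G} {l : List ℕ} (hnd : l.Nodup) (hlt : ∀ x ∈ l, x < 16)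
    (hmem : ∀ g, g ∈ K ↔ ∃ x ∈ l, E.w x = g) : Nat.card K = l.length := by
  let f : Fin l.length → K := fun k => ⟨E.w l[k], (hmem _).2 ⟨_, List.getElem_mem _, rfl⟩⟩
  have hf : Function.Bijective f := by
    refine ⟨fun a b h => ?_, ?_⟩
    · exact Fin.ext ((hnd.getElem_inj_iff).1 (E.w_inj (hlt _ (List.getElem_mem _))
        (hlt _ (List.getElem_mem _)) (congrArg Subtype.val h)))
    · rintro ⟨g, hg⟩
      obtain ⟨x, hx, rfl⟩ := (hmem g).1 hg
      obtain ⟨k, hk, rfl⟩ := List.mem_iff_getElem.1 hx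
      exact ⟨⟨k, hk⟩, rfl⟩
  rw [← Nat.card_eq_of_bijective f hf, Nat.card_fin]

theorem card_vSub : Nat.card E.vSub = 4 :=
  card_wList (by decide : vFixList.Nodup) (by decide) fun _ => Iff.rfl

theorem card_kSub : Nat.card E.kSub = 4 :=
  card_wList (by decide : kMovList.Nodup) (by decide) fun _ => Iff.rfl

theorem vSub_inf {g : G} (h1 : g ∈ E.vSub) (h2 : g ∈ E.kSub) : g = 1 := by
  obtain ⟨i, hi, rfl⟩ := h1
  obtain ⟨j, hj, e⟩ := h2
  obtain rfl := E.w_inj ((by decide : ∀ x ∈ kMovList, x < 16) j hj) ((by decide : ∀ x ∈ vFixList, x < 16) i hi) e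
  have := all_mem chk_subgroups.2.2.1 hi
  simp only [Bool.or_eq_true, Bool.not_eq_true'] at this
  rcases this with this | this
  · rw [List.contains_iff_mem.2 hj] at this; simp at this
  · rw [Nat.eq_of_beq_eq_true this, E.w_zero]

theorem sigPow_lt {a b i : ℕ} (hi : i < 16) : sigPow a b i < 16 := by
  have : ∀ (g : ℕ) (k i : ℕ), i < 16 → (lin g)^[k] i < 16 := by
    intro g k
    induction k with
    | zero => exact fun i hi => hi
    | succ k ih => intro i _; rw [Function.iterate_succ_apply]; exact ih _ (lin_lt _ _)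
  exact this _ _ _ (this _ _ _ hi)

theorem Amal.acts_sigPow {n m : G} (hn : E.Amal n m) (a b : ℕ) {i : ℕ} (hi : i < 16) :
    n ^ a * m ^ b * E.w i * (n ^ a * m ^ b)⁻¹ = E.w (sigPow a b i) := by
  have key : ∀ (p : G) (g : ℕ), E.Acts p g → ∀ (k i : ℕ), i < 16 → p ^ k * E.w i * (p ^ k)⁻¹ = E.w ((lin g)^[k] i) := by
    intro p g hp k
    induction k with
    | zero => intro i _; simp
    | succ k ih =>
      intro i hi
      rw [pow_succ, Function.iterate_succ_apply, ← ih _ (lin_lt _ _), ← hp i hi]; group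
  have hb : (lin sigB)^[b] i < 16 := by
    have := sigPow_lt (a := 0) (b := b) hi
    exact this
  rw [sigPow, ← key n sigA hn.actN a _ hb, ← key m sigB hn.actM b i hi]; group

theorem w_six : E.w 6 = E.w 2 * E.w 4 := (E.w_mul (i := 2) (j := 4) (by norm_num) (by norm_num)).symm

theorem w_eleven : E.w 11 = E.w 3 * E.w 8 := (E.w_mul (i := 3) (j := 8) (by norm_num) (by norm_num)).symm

/-- Elements of the centraliser normalising the elementary abelian subgroup permute two elements of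
the fixed four-group. -/
theorem Fused.fix_four (h : E.Fused) {g : G} (hg : g ∈ E.nW) (hc : g ∈ E.cU) :
    g * E.w 4 * g⁻¹ = E.w 4 ∨ g * E.w 4 * g⁻¹ = E.w 6 := by
  obtain ⟨n, m, hn⟩ := h.exists_amal
  obtain ⟨j, hj, hje⟩ := hg 1 (by norm_num)
  have hj0 : j ≠ 0 := fun e => E.ne_one_w (i := 1) (by norm_num) one_ne_zero (conj_eq_one_iff.1 (by rw [hje, e, E.w_zero]))
  have hju : j ∉ uIdx := fun hu => (h.mem_uIdx_iff hj hj0).1 hu (isConj_iff.2 ⟨g, by rw [E.t_eq_w, hje]⟩)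
  have ht := all_range chk_transitive hj
  simp only [Bool.or_eq_true] at ht
  rcases ht with (e | e) | e
  · exact absurd (Nat.eq_of_beq_eq_true e) hj0
  · exact absurd (List.contains_iff_mem.1 e) hju
  obtain ⟨a, ha, e⟩ := List.any_eq_true.1 e
  obtain ⟨b, hb, e⟩ := List.any_eq_true.1 e
  set M := n ^ a * m ^ b with hMdef
  have hM : ∀ i < 16, M * E.w i * M⁻¹ = E.w (sigPow a b i) := fun i hi => hn.acts_sigPow a b hi
  have hMn : M ∈ E.nW := fun i hi => ⟨_, sigPow_lt hi, hM i hi⟩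
  have h1 : M⁻¹ * g * E.w 1 * (M⁻¹ * g)⁻¹ = E.w 1 := by
    rw [show M⁻¹ * g * E.w 1 * (M⁻¹ * g)⁻¹ = M⁻¹ * (g * E.w 1 * g⁻¹) * M by group, hje,
      ← Nat.eq_of_beq_eq_true e, ← hM 1 (by norm_num)]
    group
  obtain ⟨k, hk, hka⟩ := E.acts_kBar (mul_mem (inv_mem hMn) hg) h1
  have hact : ∀ i < 16, g * E.w i * g⁻¹ = E.w (sigPow a b (lin k i)) := fun i hi => by
    rw [← hM _ (lin_lt _ _), ← hka i hi]; group
  have h2 : sigPow a b (lin k 2) = 2 := E.w_inj (sigPow_lt (lin_lt _ _)) (by norm_num) (by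
    rw [← hact 2 (by norm_num), mem_cU.1 hc, mul_inv_cancel_right])
  have hs := all_mem (all_mem (all_mem chk_stab ha) hb) hk
  rw [h2] at hs
  simp only [Nat.beq_refl, Bool.not_true, Bool.false_or, Bool.or_eq_true] at hs
  rw [hact 4 (by norm_num)]
  rcases hs with hs | hs
  · exact Or.inl (congrArg E.w (Nat.eq_of_beq_eq_true hs))
  · exact Or.inr (congrArg E.w (Nat.eq_of_beq_eq_true hs))

/-- The subgroup of index two split over the fixed four-group. -/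
structure Split (E : Emb G) (Y0 K0 : Subgroup G) (ρ : G) : Prop where
  le : K0 ≤ Y0
  le0 : Y0 ≤ E.cU
  card0 : 2 * Nat.card Y0 = Nat.card E.cU
  normal0 : ∀ y ∈ E.cU, ∀ k ∈ Y0, y * k * y⁻¹ ∈ Y0
  inter0 : ∀ g ∈ E.dSub, g ∈ Y0 ↔ g ∈ E.wSub
  card : Nat.card Y0 = 4 * Nat.card K0
  normal : ∀ y ∈ Y0, ∀ k ∈ K0, y * k * y⁻¹ ∈ K0
  comm : ∀ y ∈ Y0, ∀ x ∈ Y0, y * x * y⁻¹ * x⁻¹ ∈ K0
  decomp : ∀ y ∈ Y0, ∃ v ∈ E.vSub, ∃ k ∈ K0, y = v * k
  disj : ∀ v ∈ E.vSub, v ∈ K0 → v = 1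
  kLe : E.kSub ≤ K0
  cube : ρ ^ 3 = 1
  rhoMem : ρ ∈ K0
  rhoFour : ρ * E.w 4 * ρ⁻¹ = E.w 4
  rho3 : ρ * E.w 3 * ρ⁻¹ = E.w 11
  rho8 : ρ * E.w 8 * ρ⁻¹ = E.w 3
  rho11 : ρ * E.w 11 * ρ⁻¹ = E.w 8

theorem Fused.exists_split (h : E.Fused) : ∃ Y0 K0 ρ, Split E Y0 K0 ρ := by
  classical
  haveI : Fact (Nat.Prime 2) := ⟨Nat.prime_two⟩
  obtain ⟨n, m, hn⟩ := h.exists_amal
  obtain ⟨hr2, hr4, hr3, hr8, hr11⟩ := chk_rho
  obtain ⟨Y0, hle0, hc0, hn0, hi0, h30⟩ := h.exists_index_two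
  set ρ := n * (m * m) with hρ
  have hρa : ∀ i < 16, ρ * E.w i * ρ⁻¹ = E.w (sigPow 1 2 i) := fun i hi => by
    have := hn.acts_sigPow 1 2 hi
    rwa [pow_one, pow_two] at this
  have hρc : ρ ^ 3 = 1 := by
    have hc : Commute n (m * m) := (show Commute n m from hn.comm).mul_right hn.comm
    rw [hρ, hc.mul_pow, hn.cubeN, one_mul, ← pow_two, ← pow_mul, show 2 * 3 = 3 * 2 from rfl, pow_mul,
      hn.cubeM, one_pow]
  have hρU : ρ ∈ E.cU := mem_cU.2 (mul_inv_eq_iff_eq_mul.1 (by rw [hρa 2 (by norm_num), hr2]))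
  have hρ0 : ρ ∈ Y0 := h30 ρ hρU hρc
  have hW0 : E.wSub ≤ Y0 := fun g hg => (hi0 g (wSub_le_dSub hg)).2 hg
  -- the Sylow subgroup
  obtain ⟨r, hr, hY⟩ := h.card_cU
  have hY0 : Nat.card Y0 = 16 * r := by omega
  have hA16 : Nat.card (E.wSub.subgroupOf Y0) = 16 :=
    (Nat.card_congr (Subgroup.subgroupOfEquivOfLe hW0).toEquiv).trans card_wSub
  have hidx : (E.wSub.subgroupOf Y0).index = r := by
    have h1 := (E.wSub.subgroupOf Y0).card_mul_index
    rw [hA16, hY0] at h1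
    exact Nat.eq_of_mul_eq_mul_left (by norm_num) h1
  have hAp : IsPGroup 2 (E.wSub.subgroupOf Y0) := IsPGroup.of_card (n := 4) (by rw [hA16]; norm_num)
  set S : Sylow 2 Y0 := hAp.toSylow (by rw [hidx]; exact fun hd => Nat.not_even_iff_odd.2 hr (even_iff_two_dvd.2 hd))
    with hSdef
  have hS : (S : Subgroup Y0) = E.wSub.subgroupOf Y0 := IsPGroup.toSylow_coe ..
  have hSc : IsMulCommutative (S : Subgroup Y0) := ⟨⟨fun a b => Subtype.ext (Subtype.ext
    (comm_wSub (Subgroup.mem_subgroupOf.1 (hS.le a.2)) (Subgroup.mem_subgroupOf.1 (hS.le b.2))).eq)⟩⟩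
  letI : CommGroup E.vSub :=
    { (inferInstance : Group E.vSub) with
      mul_comm := fun a b => Subtype.ext (comm_wSub (vSub_le a.2) (vSub_le b.2)).eq }
  -- the projection
  have hex : ∀ s : (S : Subgroup Y0), ∃ i < 16, E.w i = s.1.1 := fun s => Subgroup.mem_subgroupOf.1 (hS.le s.2)
  choose idx hidx16 hidxe using hex
  have hproj : ∀ i < 16, lin projV i ∈ vFixList := fun i hi => by
    have := all_range chk_subgroups.2.2.2.1 hi
    simp only [Bool.and_eq_true] at this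
    exact List.contains_iff_mem.1 this.1
  let φ : (S : Subgroup Y0) →* E.vSub :=
    MonoidHom.mk' (fun s => ⟨E.w (lin projV (idx s)), _, hproj _ (hidx16 s), rfl⟩) fun a b => Subtype.ext (by
      show E.w _ = E.w _ * E.w _
      have e : idx (a * b) = idx a ^^^ idx b := E.w_inj (hidx16 _) (Nat.xor_lt_two_pow (n := 4) (hidx16 a) (hidx16 b)) (by
        rw [hidxe, ← E.w_mul (hidx16 a) (hidx16 b), hidxe, hidxe]; rfl)
      rw [e, Nat.eq_of_beq_eq_true (all_range (all_range chk_proj_lin (hidx16 a)) (hidx16 b)),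
        E.w_mul (lin_lt _ _) (lin_lt _ _)])
  let θ : Y0 →* E.vSub := MonoidHom.transfer φ
  have hmemS : ∀ v : E.vSub, (⟨v.1, hW0 (vSub_le v.2)⟩ : Y0) ∈ (S : Subgroup Y0) := fun v =>
    hS.ge (Subgroup.mem_subgroupOf.2 (vSub_le v.2))
  have hθ : ∀ v : E.vSub, θ ⟨v.1, hW0 (vSub_le v.2)⟩ = v := by
    intro v
    obtain ⟨g, i, hi, rfl⟩ := v
    have hi16 : i < 16 := (by decide : ∀ x ∈ vFixList, x < 16) i hi
    have h1 := Cfsg.Agent.Lib.HallJanko.Retract.transfer_eq S hSc φ ⟨_, hmemS ⟨E.w i, i, hi, rfl⟩⟩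
      (Subtype.ext (E.w_sq hi16)) (fun N hN => ?_)
    · refine h1.trans (Subtype.ext ?_)
      show E.w _ = E.w i
      have e : idx ⟨⟨E.w i, hW0 (vSub_le ⟨i, hi, rfl⟩)⟩, hmemS ⟨E.w i, i, hi, rfl⟩⟩ = i :=
        E.w_inj (hidx16 _) hi16 (hidxe _)
      rw [e, Nat.eq_of_beq_eq_true (all_mem chk_subgroups.2.2.2.2 hi)]
    -- the normaliser centralises the four-group
    have hNW : (N : G) ∈ E.nW := fun k hk => by
      have := Subgroup.mem_subgroupOf.1 (hS.le ((Subgroup.mem_normalizer_iff.1 hN ⟨E.w k, hW0 (E.w_mem hk)⟩).1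
        (hS.ge (Subgroup.mem_subgroupOf.2 (E.w_mem hk)))))
      obtain ⟨j, hj, e⟩ := this
      exact ⟨j, hj, e.symm⟩
    have hNU : (N : G) ∈ E.cU := hle0 N.2
    have h2 : (N : G) * E.w 2 * (N : G)⁻¹ = E.w 2 := mul_inv_eq_iff_eq_mul.2 (mem_cU.1 hNU)
    have h4 : (N : G) * E.w 4 * (N : G)⁻¹ = E.w 4 := by
      refine (h.fix_four hNW hNU).resolve_right fun h6 => ?_
      set NS := Subgroup.normalizer ((S : Subgroup Y0) : Set Y0)
      haveI : ((S : Subgroup Y0).subgroupOf NS).Normal := Subgroup.normal_in_normalizer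
      have hpow := Subgroup.pow_index_mem ((S : Subgroup Y0).subgroupOf NS) ⟨N, hN⟩
      have hdvd : ((S : Subgroup Y0).subgroupOf NS).index ∣ (S : Subgroup Y0).index :=
        Subgroup.relIndex_dvd_index_of_le Subgroup.le_normalizer
      obtain ⟨q, hq⟩ : Odd ((S : Subgroup Y0).subgroupOf NS).index :=
        Odd.of_dvd_nat (by rw [hS, hidx]; exact hr) hdvd
      have hin : (N : G) ^ ((S : Subgroup Y0).subgroupOf NS).index ∈ E.wSub :=
        Subgroup.mem_subgroupOf.1 (hS.le hpow)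
      have h64 : (N : G) * E.w 6 * (N : G)⁻¹ = E.w 4 := by
        rw [w_six,
          show (N : G) * (E.w 2 * E.w 4) * (N : G)⁻¹ = (N : G) * E.w 2 * (N : G)⁻¹ * ((N : G) * E.w 4 * (N : G)⁻¹) by group,
          h2, h6, E.w_mul (by norm_num) (by norm_num)]
        rfl
      have hev : ∀ q, ((N : G) ^ 2) ^ q * E.w 4 * (((N : G) ^ 2) ^ q)⁻¹ = E.w 4 := fun q => by
        induction q with
        | zero => simp
        | succ q ih =>
          rw [pow_succ, show ((N : G) ^ 2) ^ q * (N : G) ^ 2 * E.w 4 * (((N : G) ^ 2) ^ q * (N : G) ^ 2)⁻¹ =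
            ((N : G) ^ 2) ^ q * ((N : G) * ((N : G) * E.w 4 * (N : G)⁻¹) * (N : G)⁻¹) * (((N : G) ^ 2) ^ q)⁻¹ by
              rw [pow_two]; group, h6, h64, ih]
      rw [hq] at hin
      have hodd : (N : G) ^ (2 * q + 1) * E.w 4 * ((N : G) ^ (2 * q + 1))⁻¹ = E.w 6 := by
        rw [pow_succ', pow_mul, show (N : G) * ((N : G) ^ 2) ^ q * E.w 4 * ((N : G) * ((N : G) ^ 2) ^ q)⁻¹ =
          (N : G) * (((N : G) ^ 2) ^ q * E.w 4 * (((N : G) ^ 2) ^ q)⁻¹) * (N : G)⁻¹ by group, hev, h6]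
      rw [(comm_wSub hin (E.w_mem (i := 4) (by norm_num))).eq, mul_inv_cancel_right] at hodd
      exact absurd (E.w_inj (by norm_num) (by norm_num) hodd) (by norm_num)
    have hc2 : Commute (N : G) (E.w 2) := mul_inv_eq_iff_eq_mul.1 h2
    have hc4 : Commute (N : G) (E.w 4) := mul_inv_eq_iff_eq_mul.1 h4
    refine Subtype.ext ?_
    show (N : G) * E.w i = E.w i * N
    simp only [vFixList, List.mem_cons, List.not_mem_nil, or_false] at hi
    rcases hi with rfl | rfl | rfl | rfl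
    · rw [E.w_zero, mul_one, one_mul]
    · exact hc2.eq
    · exact hc4.eq
    · rw [w_six]
      exact (hc2.mul_right hc4).eq
  clear_value θ
  have hkn := θ.normal_ker
  have hdec : ∀ y : Y0, y * (⟨(θ y).1, hW0 (vSub_le (θ y).2)⟩ : Y0)⁻¹ ∈ θ.ker := fun y => by
    show θ _ = 1
    rw [_root_.map_mul, _root_.map_inv, hθ, mul_inv_cancel]
  set K0 := θ.ker.map Y0.subtype with hK0
  have hcommK : ∀ y ∈ Y0, ∀ x ∈ Y0, y * x * y⁻¹ * x⁻¹ ∈ K0 := fun y hy x hx => by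
    refine ⟨⟨y, hy⟩ * ⟨x, hx⟩ * ⟨y, hy⟩⁻¹ * ⟨x, hx⟩⁻¹, ?_, rfl⟩
    show θ _ = 1
    rw [_root_.map_mul, _root_.map_mul, _root_.map_mul, _root_.map_inv, _root_.map_inv,
      mul_comm (θ ⟨y, hy⟩) (θ ⟨x, hx⟩), mul_inv_cancel_right, mul_inv_cancel]
  have hk8 : E.w 8 ∈ K0 := by
    have h1 := hcommK ρ hρ0 (E.w 3) (hW0 (E.w_mem (by norm_num)))
    rwa [hρa 3 (by norm_num), hr3, E.w_inv (by norm_num), E.w_mul (by norm_num) (by norm_num)] at h1
  have hk3 : E.w 3 ∈ K0 := by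
    have h1 := hcommK ρ hρ0 (E.w 11) (hW0 (E.w_mem (by norm_num)))
    rwa [hρa 11 (by norm_num), hr11, E.w_inv (by norm_num), E.w_mul (by norm_num) (by norm_num)] at h1
  refine ⟨Y0, K0, ρ, Subgroup.map_subtype_le _, hle0, hc0, hn0, hi0, ?_, ?_, hcommK, ?_, ?_, ?_, hρc, ?_,
    by rw [hρa 4 (by norm_num), hr4], by rw [hρa 3 (by norm_num), hr3], by rw [hρa 8 (by norm_num), hr8],
    by rw [hρa 11 (by norm_num), hr11]⟩
  · rw [hK0, Subgroup.card_map_of_injective (Subgroup.subtype_injective _), ← θ.ker.card_mul_index, mul_comm,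
      Subgroup.index_ker, MonoidHom.range_eq_top.2 (fun v => ⟨_, hθ v⟩), Subgroup.card_top, card_vSub]
  · rintro y hy _ ⟨k, hk, rfl⟩
    exact ⟨⟨y, hy⟩ * k * ⟨y, hy⟩⁻¹, hkn.conj_mem k hk _, rfl⟩
  · intro y hy
    refine ⟨(θ ⟨y, hy⟩).1, (θ ⟨y, hy⟩).2, (θ ⟨y, hy⟩).1⁻¹ * y, ?_, (mul_inv_cancel_left _ _).symm⟩
    refine ⟨(⟨(θ ⟨y, hy⟩).1, hW0 (vSub_le (θ ⟨y, hy⟩).2)⟩ : Y0)⁻¹ * ⟨y, hy⟩, ?_, rfl⟩
    show θ _ = 1
    rw [_root_.map_mul, _root_.map_inv, hθ, inv_mul_cancel]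
  · rintro v hv ⟨k, hk, e⟩
    have h2 : θ k = 1 := hk
    rw [show k = ⟨v, hW0 (vSub_le hv)⟩ from Subtype.ext e, hθ ⟨v, hv⟩] at h2
    exact congrArg Subtype.val h2
  · rintro _ ⟨i, hi, rfl⟩
    simp only [kMovList, List.mem_cons, List.not_mem_nil, or_false] at hi
    rcases hi with rfl | rfl | rfl | rfl
    · rw [E.w_zero]; exact one_mem _
    · exact hk3
    · exact hk8
    · rw [w_eleven]
      exact mul_mem hk3 hk8
  · refine ⟨⟨ρ, hρ0⟩, ?_, rfl⟩
    show θ _ = 1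
    have h3 : θ ⟨ρ, hρ0⟩ ^ 3 = 1 := by
      rw [← map_pow, show (⟨ρ, hρ0⟩ : Y0) ^ 3 = 1 from Subtype.ext hρc, map_one]
    generalize θ ⟨ρ, hρ0⟩ = v at h3
    obtain ⟨g, hg⟩ := v
    have hg3 : g ^ 3 = 1 := congrArg Subtype.val h3
    have hg2 : g * g = 1 := mem_wSub_sq (vSub_le hg)
    refine Subtype.ext ?_
    show g = 1
    rwa [pow_succ, pow_two, hg2, one_mul] at hg3

end Emb

end Cfsg.Agent.Lib.A8Recog
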