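import Cfsg.Agent.Lib.A8Recog.Words

/-!
# The subgroup isomorphic to `A₈`

helper1.  The model and the two elements of order three generate a copy of `A₈`.
-/

set_option autoImplicit false
set_option maxRecDepth 100000
set_option Elab.async false
set_option maxHeartbeats 1000000

namespace Cfsg.Agent.Lib.A8Recog

universe u

/-- Images of points under the elements of the model. -/
def pTable : Nat := 0x5397721a9774c1977688977213b3705ab37681b374c8b370654f722c4f79414f7b084f72256b706c6b7b016b79486b74e50776ac077953077b1a0776a52374ec237b1323795a23721397e05a97e68197e4c897e053b3e21ab3e4c1b3e688b3e2254fe06c4feb014fe9484fe0656be22c6be9416beb086be6a507e4ec07eb1307e95a07e4e523e6ac23e95323eb1a23e053de521ade54c1de5688de5213fa505afa5681fa54c8fa50774e523e4e5dc14e5f884e52376a507e6a5f816a5dc86a54f70656be065dd3065f9a0656b72254fe225f93225dda225213dec05adec681dec4c8dec053fac21afac4c1fac688fac2374ec07e4ecf814ecdc84ec0776ac23e6acdc16acf886ac6b706c4fe06cf9306cdda06c4f722c6be22cdd322cf9a22c065dd322cdd39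41dd3b08dd3225f9306cf93b01f93948f9307795323e953dc1953f88953237b1307eb13f81b13dc8b13977053b3e053de5053fac053b3721397e213fa5213dec213225dda06cddab01dda948dda065f9a22cf9a941f9ab08f9a23795a07e95af8195adc895a077b1a23eb1adc1b1af88b1ab3705a97e05afa505adec05a97721ab3e21ade521afac21a4e5dc16acdc1953dc1b1adc16a5f814ecf81b13f8195af814f79416be941dd3941f9a9416b7b014feb01f93b01ddab019774c1b3e4c1de54c1fac4c1b3768197e681fa5681dec6816a5dc84ecdc8b13dc895adc84e5f886acf88953f88b1af886b79484fe948f93948dda9484f7b086beb08dd3b08f9ab08b374c897e4c8fa54c8dec4c8977688b3e688de5688fac688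

/-- The image of a point. -/
def pC (x i : Nat) : Nat := Nat.land (Nat.shiftRight pTable (3 * (8 * x + i))) 7

theorem chk_pC : ((List.range 192).all fun x => (List.range 8).all fun i => Nat.blt (pC x i) 8 &&
    Nat.beq (pC (invC x) (pC x i)) i && Nat.beq (pC x (pC (invC x) i)) i) = true := by decide +kernel

theorem chk_pC_mul : ((List.range 192).all fun x => (List.range 192).all fun y => (List.range 8).all fun i =>
    Nat.beq (pC (mulC x y) i) (pC x (pC y i))) = true := by decide +kernel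

/-- Words for the elements of the model. -/
def genWords : List (List Nat) := [[], [4, 5], [7], [3, 6, 3], [2, 3], [2, 5, 3], [2, 6, 3], [2, 3, 7], [0, 7], [3, 0, 6], [0], [0, 4, 5], [6, 1, 3], [0, 2, 3, 7], [0, 2, 3], [4, 5, 0], [1], [1, 4, 5], [1, 7], [0, 3, 0, 6], [1, 2, 3], [2, 3, 1], [0, 6, 1, 3], [1, 2, 3, 7], [1, 5, 0], [0, 5, 1], [0, 5, 1, 7], [1, 5, 0, 7], [5], [4], [5, 7], [4, 7], [1, 5, 1, 7], [5, 0, 7], [5, 0], [1, 5, 1], [0, 5, 7], [0, 4, 7], [0, 5], [0, 4], [0, 5, 0], [5, 1], [5, 1, 7], [0, 5, 0, 7], [1, 5], [1, 4], [1, 5, 7], [1, 4, 7], [6], [4, 5, 6], [6, 7], [1, 3, 0], [2, 7, 3], [0, 5, 1, 6], [0, 2, 1, 3], [1, 5, 2, 0], [1, 2], [1, 5, 2], [6, 0], [1, 5, 2, 7], [1, 3], [1, 5, 3], [1, 6, 3], [1, 3, 7], [6, 1], [0, 5, 2, 6], [1, 2, 1], [1, 5, 3, 1], [0, 7, 3], [0, 3, 4, 6], [2, 0, 3], [1, 3, 1], [2, 3, 6], [0, 3, 6, 0], [0, 3, 1, 2], [1, 3, 5, 0], [5, 6], [4, 6], [5, 6, 7], [4, 6, 7], [1, 3, 5], [1, 3, 4], [5, 6, 0], [3, 1, 6], [1, 2, 5], [1, 2, 4], [6, 0, 5], [4, 6,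 0], [0, 3, 6], [5, 6, 1], [3, 0, 3], [0, 3, 6, 7], [6, 1, 5], [4, 6, 1], [3, 0, 2], [1, 2, 1, 4], [2, 0], [3, 0], [0, 6], [3, 0, 7], [5, 3, 0], [5, 2, 0], [5, 0, 6], [6, 3, 1], [0, 6, 1], [6, 3, 0], [2, 1], [5, 3, 1], [1, 7, 3], [1, 3, 4, 6], [5, 2, 1], [3, 1], [2], [5, 2], [2, 7], [5, 2, 7], [3], [5, 3], [6, 3], [3, 7], [2, 5, 0], [3, 5, 0], [0, 2, 3, 6], [1, 3, 6, 0], [2, 0, 5], [2, 0, 4], [0, 5, 6], [0, 4, 6], [1, 3, 6], [0, 5, 6, 1], [3, 1, 4], [2, 5, 1], [0, 6, 1, 5], [0, 4, 6, 1], [2, 1, 5], [2, 1, 4], [3, 5], [3, 4], [3, 4, 7], [3, 5, 7], [2, 5], [2, 4], [2, 5, 7], [2, 4, 7], [1, 6], [7, 3, 0], [0, 2, 0], [0, 3, 0], [6, 0, 3], [5, 1, 6], [2, 1, 3], [0, 5, 2, 0], [0, 2], [0, 5, 2], [0, 2, 7], [0, 5, 2, 7], [0, 3], [0, 5, 3], [0, 6, 3], [0, 3, 7], [2, 6], [5, 2, 6], [0, 2, 1], [0, 5, 3, 1], [7, 3], [3, 4, 6], [6, 7, 3], [0, 3, 1], [1, 2, 3, 6], [3, 6, 0], [3, 1, 2], [0, 3, 5, 0], [1, 5, 6], [1, 4, 6], [3, 1, 3], [0, 2, 0, 4], [0, 3, 5], [0, 3, 4], [0, 3, 4, 7], [0, 3, 5, 7], [0,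 2, 5], [0, 2, 4], [3, 6, 1], [0, 2, 4, 7], [3, 6], [4, 7, 3], [6, 3, 6], [3, 6, 7], [2, 5, 6], [2, 4, 6], [0, 2, 1, 5], [0, 2, 1, 4]]

theorem pC_lt (x i : Nat) : pC x i < 8 := Nat.lt_succ_of_le Nat.and_le_right

/-- The permutation of an element of the model. -/
def pP (x : Nat) : Equiv.Perm (Fin 8) :=
  if h : x < 192 then
    { toFun := fun i => ⟨pC x i, pC_lt x i⟩
      invFun := fun i => ⟨pC (invC x) i, pC_lt _ i⟩
      left_inv := fun i => Fin.ext (by
        have := all_range (all_range chk_pC h) i.2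
        simp only [Bool.and_eq_true] at this
        exact Nat.eq_of_beq_eq_true this.1.2)
      right_inv := fun i => Fin.ext (by
        have := all_range (all_range chk_pC h) i.2
        simp only [Bool.and_eq_true] at this
        exact Nat.eq_of_beq_eq_true this.2) }
  else 1

theorem pP_mul (x : Nat) (hx : x < 192) (y : Nat) (hy : y < 192) : pP (mulC x y) = pP x * pP y := by
  ext i
  rw [Equiv.Perm.mul_apply, pP, pP, pP, dif_pos (mulC_lt hx hy), dif_pos hx, dif_pos hy]
  exact Nat.eq_of_beq_eq_true (all_range (all_range (all_range chk_pC_mul hx) hy) i.2)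

/-- The two permutations of order three. -/
def pN : Equiv.Perm (Fin 8) :=
  Equiv.swap 1 3 * Equiv.swap 1 2 * (Equiv.swap 5 7 * Equiv.swap 5 6)

/-- The second one. -/
def pM : Equiv.Perm (Fin 8) :=
  Equiv.swap 1 3 * Equiv.swap 1 2 * (Equiv.swap 5 6 * Equiv.swap 5 7)

/-- The permutations of the letters. -/
def pL (g : Nat) : Equiv.Perm (Fin 8) :=
  if g = 8 then pN else if g = 9 then pN⁻¹ else if g = 10 then pM else if g = 11 then pM⁻¹
    else if g < 8 then pP (letterCodes.getD g 0 - 1) else 1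

theorem chk_pL_rel : ((nRels ++ cRels).all fun r => (List.finRange 8).all fun i =>
    decide ((r.map pL).prod i = i)) = true := by decide +kernel

theorem chk_pL_inv : ((List.range 13).all fun g => (List.finRange 8).all fun i =>
    decide (pL (mainData.linv.getD g 13) (pL g i) = i)) = true := by decide +kernel

theorem chk_pL_even : ∀ g < 12, Equiv.Perm.sign (pL g) = 1 := by decide +kernel

/-- The value of a word in the permutations. -/
def pR (p : Nat) : Equiv.Perm (Fin 8) := ((mainData.words.getD (liveList.getD p 0) []).map pL).prod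

theorem chk_pR : ((List.range 105).map fun p =>
    (List.finRange 8).map fun i => (((pR p)⁻¹ * pP sC * pR p) i : Fin 8)).Nodup := by decide +kernel

theorem pP_zero : pP 0 = 1 := by
  have h := pP_mul 0 (by norm_num) 0 (by norm_num)
  rw [show mulC 0 0 = 0 from by decide +kernel] at h
  exact mul_eq_left.1 h.symm

theorem pL_inv {g : ℕ} (hg : g ≤ 12) : pL (mainData.linv.getD g 13) = (pL g)⁻¹ := by
  refine eq_inv_of_mul_eq_one_left (Equiv.ext fun i => ?_)
  simpa using all_mem (all_range chk_pL_inv (Nat.lt_succ_of_le hg)) (List.mem_finRange i)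

theorem pL_rel {r : List ℕ} (hr : r ∈ nRels ++ cRels) : (r.map pL).prod = 1 := by
  refine Equiv.ext fun i => ?_
  simpa using all_mem (all_mem chk_pL_rel hr) (List.mem_finRange i)

theorem prod_map_pair {G : Type u} [Group G] {P : Type} [Group P] (f : ℕ → G) (g : ℕ → P) (l : List ℕ) :
    (l.map fun k => (f k, g k)).prod = ((l.map f).prod, (l.map g).prod) := by
  induction l with
  | nil => rfl
  | cons a l ih => simp only [List.map_cons, List.prod_cons, ih, Prod.mk_mul_mk]

/-- The interpretation in the permutations. -/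
def pInterp : Engine.Interp mainData (Equiv.Perm (Fin 8)) where
  ι := pP
  L := pL
  mulLt _ hx _ hy := mulC_lt hx hy
  mulMap := pP_mul
  zeroMap := pP_zero
  oneLetter := rfl
  codeMap g hg c hc := by
    change g < 12 at hg
    change letterCodes.getD g 0 = c + 1 at hc
    have hall : ∀ g < 12, 8 ≤ g → letterCodes.getD g 0 = 0 := by decide +kernel
    have h8 : g < 8 := by
      by_contra h8
      rw [hall g hg (by omega)] at hc
      omega
    rw [pL, if_neg (by omega), if_neg (by omega), if_neg (by omega), if_neg (by omega), if_pos h8, hc,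
      Nat.add_sub_cancel]
  invMap g hg := pL_inv hg
  ruleMap := by
    intro ru hru
    rcases List.mem_append.1 hru with hru | hru
    · obtain ⟨i, hi, e⟩ := List.mem_iff_getElem.1 hru
      have h := all_range chk_rules hi
      simp only [List.getD_eq_getElem _ _ hi, e, Bool.and_eq_true, decide_eq_true_eq, List.all_eq_true] at h
      obtain ⟨⟨⟨hlt, hw⟩, hs⟩, heq⟩ := h
      have hinvW : ∀ w : List ℕ, (∀ g ∈ w, g < 12) →
          ((w.reverse.map fun g => mainData.linv.getD g 13).map pL).prod = ((w.map pL).prod)⁻¹ := by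
        intro w hw'
        rw [List.prod_inv_reverse]
        simp only [List.map_reverse, List.map_map]
        congr 2
        exact List.map_congr_left fun g hg => pL_inv (hw' g hg).le
      have hmem : (nRels ++ cRels).getD (ruleSrc.getD i (0, 0, 0)).1 [] ∈ nRels ++ cRels := by
        rw [List.getD_eq_getElem _ _ hs]; exact List.getElem_mem _
      have hrlt : ∀ g ∈ (nRels ++ cRels).getD (ruleSrc.getD i (0, 0, 0)).1 [], g < 12 :=
        fun g hg => by simpa using all_mem (all_mem chk_rel_lt hmem) hg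
      have hone : ((ru.1 :: ru.2.reverse.map fun g => mainData.linv.getD g 13).map pL).prod = 1 := by
        rw [heq]
        refine rotate_prod_eq_one _ _ ?_ _
        split
        · exact pL_rel hmem
        · rw [hinvW _ hrlt, pL_rel hmem, inv_one]
      rw [List.map_cons, List.prod_cons, hinvW _ hw, mul_inv_eq_one] at hone
      exact hone
    · have h := all_mem chk_free hru
      simp only [Bool.and_eq_true, Bool.or_eq_true, decide_eq_true_eq] at h
      obtain ⟨hle, (h | ⟨h1, h2⟩) | ⟨h1, h2, h3, h4⟩⟩ := h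
      · rw [h]; simp
      · rw [h1, h2]; rfl
      · obtain ⟨a, b, hab⟩ : ∃ a b, ru.2 = [a, b] := List.length_eq_two.1 h2
        rw [hab] at h3 h4 ⊢
        simp only [List.getD_cons_succ, List.getD_cons_zero] at h3 h4
        rw [h1, ← h4, List.map_cons, List.map_cons, List.map_nil, List.prod_cons, List.prod_cons, List.prod_nil,
          mul_one, pL_inv h3.le, inv_mul_cancel]
        rfl

namespace Emb

variable {G : Type u} [Group G] [Finite G] {E : Emb G} {n m : G}

/-- The homomorphism from `A₈`. -/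
theorem Amal.exists_hom (hn : E.Amal n m) : ∃ φ : alternatingGroup (Fin 8) →* G, Function.Injective φ ∧
    ∀ g < 12, ∀ h : pL g ∈ alternatingGroup (Fin 8), φ ⟨pL g, h⟩ = E.letter n m g := by
  let I := interp hn
  let IJ : Engine.Interp mainData (G × Equiv.Perm (Fin 8)) :=
    { ι := fun x => (E.ι x, pP x)
      L := fun g => (E.letter n m g, pL g)
      mulLt := I.mulLt
      mulMap := fun x hx y hy => Prod.ext (I.mulMap x hx y hy) (pP_mul x hx y hy)
      zeroMap := Prod.ext E.map_zero pP_zero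
      oneLetter := rfl
      codeMap := fun g hg c hc => Prod.ext (I.codeMap g hg c hc) (pInterp.codeMap g hg c hc)
      invMap := fun g hg => Prod.ext (I.invMap g hg) (pL_inv hg)
      ruleMap := fun ru hru => by
        rw [prod_map_pair]
        exact Prod.ext (I.ruleMap ru hru) (pInterp.ruleMap ru hru) }
  set D := Subgroup.closure {z | ∃ g < 12, IJ.L g = z}
  have hcover : ∀ z ∈ D, ∃ c < 192, ∃ p < 105, z = IJ.ι c * IJ.R (liveList.getD p 0) := by
    have hstep : ∀ g < 12, ∀ z, (∃ c < 192, ∃ p < 105, z = IJ.ι c * IJ.R (liveList.getD p 0)) →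
        ∃ c < 192, ∃ p < 105, z * IJ.L g = IJ.ι c * IJ.R (liveList.getD p 0) := by
      rintro g hg _ ⟨c, hc, p, hp, rfl⟩
      obtain ⟨c', hc', q, hq, e⟩ := IJ.step facts_ok final_ok (p := p) (g := g) (live_length ▸ hp) hg
      exact ⟨_, mulC_lt hc hc', q, live_length ▸ hq, by
        rw [mul_assoc, e, ← mul_assoc, ← IJ.mulMap c hc c' hc']; rfl⟩
    intro z hz
    induction hz using Subgroup.closure_induction_right with
    | one =>
      refine ⟨0, by norm_num, 0, by norm_num, ?_⟩
      rw [IJ.zeroMap, show liveList.getD 0 0 = 0 from by decide +kernel, IJ.R_zero facts_ok, one_mul]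
    | mul_right x _ y hy ih => obtain ⟨g, hg, rfl⟩ := hy; exact hstep g hg x ih
    | mul_inv_cancel x _ y hy ih =>
      obtain ⟨g, hg, rfl⟩ := hy
      have hl : ∀ g < 12, mainData.linv.getD g 13 < 12 := by decide +kernel
      rw [← IJ.invMap g hg.le]
      exact hstep _ (hl g hg) x ih
  -- the second coordinates
  have hR : ∀ p, (IJ.R (liveList.getD p 0)).2 = pR p := fun p => by
    show ((mainData.words.getD (liveList.getD p 0) []).map fun g => (E.letter n m g, pL g)).prod.2 = _
    rw [prod_map_pair]; rfl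
  have hs : ∀ c < 192, pP c * pP sC = pP sC * pP c := fun c hc => by
    rw [← pP_mul c hc sC (by decide), ← pP_mul sC (by decide) c hc]
    exact congrArg pP (Nat.eq_of_beq_eq_true (all_range chk_cen hc)).symm
  have hinjP : ∀ c < 192, ∀ d < 192, pP c = pP d → c = d := by
    have hchk : ((List.range 192).map fun c => (List.range 8).map fun i => pC c i).Nodup := by decide +kernel
    intro c hc d hd e
    refine List.inj_on_of_nodup_map hchk (List.mem_range.2 hc) (List.mem_range.2 hd) ?_
    refine List.map_congr_left fun i hi => ?_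
    have := congrArg (fun f : Equiv.Perm (Fin 8) => (f ⟨i, List.mem_range.1 hi⟩ : ℕ)) e
    simpa [pP, dif_pos hc, dif_pos hd] using this
  have hinj : ∀ z ∈ D, ∀ z' ∈ D, z.2 = z'.2 → z = z' := by
    intro z hz z' hz' e
    obtain ⟨c, hc, p, hp, rfl⟩ := hcover z hz
    obtain ⟨d, hd, q, hq, rfl⟩ := hcover z' hz'
    rw [Prod.snd_mul, Prod.snd_mul, hR, hR] at e
    replace e : pP c * pR p = pP d * pR q := e
    have hp1 : (pR p)⁻¹ * pP sC * pR p = (pR q)⁻¹ * pP sC * pR q := by
      have key : ∀ (a : Equiv.Perm (Fin 8)) (b : Equiv.Perm (Fin 8)), a * pP sC = pP sC * a →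
          (a * b)⁻¹ * pP sC * (a * b) = b⁻¹ * pP sC * b := fun a b h => by
        calc (a * b)⁻¹ * pP sC * (a * b) = b⁻¹ * a⁻¹ * (pP sC * a) * b := by group
          _ = _ := by rw [← h]; group
      rw [← key _ (pR p) (hs c hc), e, key _ _ (hs d hd)]
    have hpq : p = q := List.inj_on_of_nodup_map chk_pR (List.mem_range.2 hp) (List.mem_range.2 hq) (by rw [hp1])
    subst hpq
    rw [hinjP c hc d hd (mul_right_cancel e)]
  -- the projections
  let q2 : D →* alternatingGroup (Fin 8) := ((MonoidHom.snd G _).comp D.subtype).codRestrict _ (by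
    suffices hD : D ≤ (alternatingGroup (Fin 8)).comap (MonoidHom.snd G _) from fun z => hD z.2
    rw [Subgroup.closure_le]
    rintro _ ⟨g, hg, rfl⟩
    exact Equiv.Perm.mem_alternatingGroup.2 (chk_pL_even g hg))
  have hgen : ∀ c < 192, IJ.ι c ∈ D := by
    have hw : ((List.range 192).all fun c => (genWords.getD c [8]).all (fun g => Nat.blt g 8) &&
        Nat.beq ((genWords.getD c [8]).foldl (fun x g => mulC x (letterCodes.getD g 0 - 1)) 0) c) = true := by
      decide +kernel
    intro c hc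
    have hc' : ∀ g < 8, letterCodes.getD g 0 - 1 < 192 ∧ 0 < letterCodes.getD g 0 := by decide +kernel
    have H : ∀ (w : List ℕ), (∀ g ∈ w, g < 8) → ∀ x < 192, IJ.ι x ∈ D →
        IJ.ι (w.foldl (fun x g => mulC x (letterCodes.getD g 0 - 1)) x) ∈ D := by
      intro w
      induction w with
      | nil => intro _ x _ h; exact h
      | cons g w ih =>
        intro hw x hx h
        obtain ⟨h1, h2⟩ := hc' g (hw g List.mem_cons_self)
        refine ih (fun a ha => hw a (List.mem_cons_of_mem _ ha)) _ (mulC_lt hx h1) ?_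
        rw [show IJ.ι (mulC x (letterCodes.getD g 0 - 1)) = IJ.ι x * IJ.ι (letterCodes.getD g 0 - 1) from
          IJ.mulMap x hx _ h1, ← IJ.codeMap g (by have := hw g List.mem_cons_self; show g < 12; omega) _
            (show letterCodes.getD g 0 = letterCodes.getD g 0 - 1 + 1 by omega)]
        exact mul_mem h (Subgroup.subset_closure ⟨g, by have := hw g List.mem_cons_self; omega, rfl⟩)
    have h0 := all_range hw hc
    simp only [Bool.and_eq_true] at h0
    rw [← Nat.eq_of_beq_eq_true h0.2]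
    exact H _ (fun g hg => Nat.le_of_ble_eq_true (all_mem h0.1 hg)) 0 (by norm_num)
      (by rw [IJ.zeroMap]; exact one_mem _)
  have hRD : ∀ p < 105, IJ.R (liveList.getD p 0) ∈ D := fun p hp => by
    have hlt : ((List.range 105).all fun p => (mainData.words.getD (liveList.getD p 0) []).all
        fun g => Nat.blt g 12) = true := by decide +kernel
    refine list_prod_mem fun z hz => ?_
    obtain ⟨g, hg, rfl⟩ := List.mem_map.1 hz
    exact Subgroup.subset_closure ⟨g, Nat.le_of_ble_eq_true (all_mem (all_range hlt hp) hg), rfl⟩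
  have h2inj : Function.Injective q2 := fun z z' e =>
    Subtype.ext (hinj z z.2 z' z'.2 (congrArg Subtype.val e))
  have h2bij : Function.Bijective q2 := by
    refine (Nat.bijective_iff_injective_and_card q2).2 ⟨h2inj, le_antisymm (Nat.card_le_card_of_injective q2 h2inj) ?_⟩
    let f : Fin 192 × Fin 105 → D := fun z => ⟨_, mul_mem (hgen z.1 z.1.2) (hRD z.2 z.2.2)⟩
    have hf : Function.Injective f := by
      intro a b e
      have e2 : pP a.1 * pR a.2 = pP b.1 * pR b.2 := by
        have := congrArg (fun z : D => z.1.2) e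
        simp only [f, Prod.snd_mul, hR] at this
        exact this
      have hp1 : (pR a.2)⁻¹ * pP sC * pR a.2 = (pR b.2)⁻¹ * pP sC * pR b.2 := by
        have key : ∀ (a b : Equiv.Perm (Fin 8)), a * pP sC = pP sC * a →
            (a * b)⁻¹ * pP sC * (a * b) = b⁻¹ * pP sC * b := fun a b h => by
          calc (a * b)⁻¹ * pP sC * (a * b) = b⁻¹ * a⁻¹ * (pP sC * a) * b := by group
            _ = _ := by rw [← h]; group
        rw [← key _ (pR a.2) (hs a.1 a.1.2), e2, key _ _ (hs b.1 b.1.2)]
      have hpq : a.2 = b.2 := Fin.ext (List.inj_on_of_nodup_map chk_pR (List.mem_range.2 a.2.2)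
        (List.mem_range.2 b.2.2) (by rw [hp1]))
      rw [hpq] at e2
      exact Prod.ext (Fin.ext (hinjP _ a.1.2 _ b.1.2 (mul_right_cancel e2))) hpq
    have := Nat.card_le_card_of_injective f hf
    rw [nat_card_alternatingGroup, Nat.card_fin, show Nat.factorial 8 / 2 = 20160 from rfl]
    simpa using this
  let φ : alternatingGroup (Fin 8) →* G :=
    ((MonoidHom.fst G _).comp D.subtype).comp (MulEquiv.ofBijective q2 h2bij).symm.toMonoidHom
  have hφ : ∀ g < 12, ∀ h : pL g ∈ alternatingGroup (Fin 8), φ ⟨pL g, h⟩ = E.letter n m g := by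
    intro g hg h
    have : (MulEquiv.ofBijective q2 h2bij).symm ⟨pL g, h⟩ = ⟨IJ.L g, Subgroup.subset_closure ⟨g, hg, rfl⟩⟩ := by
      rw [MulEquiv.symm_apply_eq]; rfl
    show ((MulEquiv.ofBijective q2 h2bij).symm ⟨pL g, h⟩ : D).1.1 = _
    rw [this]
  refine ⟨φ, ?_, hφ⟩
  haveI : IsSimpleGroup (alternatingGroup (Fin 8)) := alternatingGroup.isSimpleGroup (by simp)
  rcases (inferInstance : φ.ker.Normal).eq_bot_or_eq_top with h | h
  · exact (MonoidHom.ker_eq_bot_iff φ).1 h
  · exfalso
    have h4 := hφ 4 (by norm_num) (Equiv.Perm.mem_alternatingGroup.2 (chk_pL_even 4 (by norm_num)))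
    rw [MonoidHom.mem_ker.1 (h ▸ Subgroup.mem_top _)] at h4
    have : E.letter n m 4 = E.w 1 := by
      rw [letter, if_neg (by omega), if_neg (by omega), if_neg (by omega), if_neg (by omega), if_pos (by omega),
        chk_letters.1]
      simp [w]
    exact E.ne_one_w (by norm_num) one_ne_zero (this ▸ h4.symm)

end Emb

end Cfsg.Agent.Lib.A8Recog
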