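import Cfsg.Agent.Lib.A8Recog.Amal
import Cfsg.Agent.Lib.A8Recog.CertChecks

/-!
# The relations of the certificate

helper1.  The relations between the model and the two elements of order three; four of them are
fourth powers of elements normalising an elementary abelian subgroup of order eight, which are
trivial because such elements are 2-elements and a Sylow 2-subgroup has exponent four.
-/

set_option autoImplicit false
set_option maxRecDepth 100000
set_option Elab.async false

namespace Cfsg.Agent.Lib.A8Recog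

universe u

/-- The elements of one of the elementary abelian subgroups of order eight. -/
def vList (U : List Nat) (k : Nat) : List Nat := (U.map wC) ++ U.map fun a => mulC (wC a) k

/-- The first one. -/
def vA : List Nat := vList [0, 1, 12, 13] kA

/-- The second one. -/
def vB : List Nat := vList [0, 1, 14, 15] kB

/-- An action on the eight indices. -/
def vAct (P : List Nat) (q : Nat) : Nat := P.getD q 0

theorem chk_v : ([vA, vB].all fun V => V.all (fun x => Nat.blt x 192) && Nat.beq (V.getD 1 0) sC &&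
    (List.range 192).all fun x => !(V.all fun v => comC x v) || Nat.beq (mulC x x) 0) = true := by decide +kernel

theorem chk_vAct : ((List.range 8).all fun q =>
    Nat.beq (cjC 10 (vA.getD q 0)) (vA.getD (vAct [0, 1, 4, 5, 6, 7, 2, 3] q) 0) &&
    Nat.beq (cjC 10 (vB.getD q 0)) (vB.getD (vAct [0, 1, 5, 4, 6, 7, 3, 2] q) 0) &&
    Nat.beq (cjC kA (vB.getD q 0)) (vB.getD (vAct [0, 1, 3, 2, 4, 5, 7, 6] q) 0) &&
    Nat.beq (cjC (wC 2) (vB.getD q 0)) (vB.getD (vAct [0, 1, 2, 3, 5, 4, 7, 6] q) 0)) = true := by decide +kernel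

theorem chk_letters : letterCodes = [11, 17, kA + 1, kB + 1, wC 1 + 1, wC 2 + 1, wC 4 + 1, wC 8 + 1, 0, 0, 0, 0] ∧
    16 = invC 10 := by decide +kernel

theorem chk_rules : ((List.range relRules.length).all fun i =>
    let ru := relRules.getD i (0, [])
    let s := ruleSrc.getD i (0, 0, 0)
    let r := (nRels ++ cRels).getD s.1 []
    decide (ru.1 < 12) && (ru.2.all fun g => decide (g < 12)) &&
      decide (s.1 < (nRels ++ cRels).length) &&
      decide (ru.1 :: (ru.2.reverse.map fun g => mainData.linv.getD g 13) =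
        (if s.2.1 = 0 then r else r.reverse.map fun g => mainData.linv.getD g 13).rotate s.2.2)) = true := by
  decide +kernel

theorem chk_free : (freeRules.all fun ru => decide (ru.1 ≤ 12) &&
    (decide (ru.2 = [ru.1]) || decide (ru.1 = 12 ∧ ru.2 = []) ||
      decide (ru.1 = 12 ∧ ru.2.length = 2 ∧ ru.2.getD 1 13 < 12 ∧
        mainData.linv.getD (ru.2.getD 1 13) 13 = ru.2.getD 0 13))) = true := by decide +kernel

theorem chk_rel_lt : ((nRels ++ cRels).all fun r => r.all fun g => decide (g < 12)) = true := by decide +kernel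

theorem chk_cRels : (cRels.all fun r => (r.all fun g => decide (g < 8)) &&
    Nat.beq (r.foldl (fun x g => mulC x (letterCodes.getD g 0 - 1)) 0) 0) = true := by decide +kernel

theorem rotate_prod_eq_one {G : Type u} [Group G] (L : ℕ → G) (l : List ℕ) (h : (l.map L).prod = 1) (k : ℕ) :
    ((l.rotate k).map L).prod = 1 := by
  induction k with
  | zero => simpa using h
  | succ k ih =>
    rw [← List.rotate_rotate]
    generalize l.rotate k = m at ih ⊢
    cases m with
    | nil => simp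
    | cons a m =>
      rw [List.rotate_cons_succ, List.rotate_zero, List.map_append, List.prod_append]
      simp only [List.map_cons, List.map_nil, List.prod_cons, List.prod_nil, mul_one] at ih ⊢
      rw [mul_eq_one_iff_inv_eq] at ih
      rw [← ih, inv_mul_cancel]

namespace Emb

variable {G : Type u} [Group G] [Finite G] (E : Emb G)

/-- The letters. -/
def letter (n m : G) (g : ℕ) : G :=
  if g = 8 then n else if g = 9 then n⁻¹ else if g = 10 then m else if g = 11 then m⁻¹
    else if g < 8 then E.ι (letterCodes.getD g 0 - 1) else 1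

/-- Conjugation by an element permutes the eight elements as the table says. -/
def VActs (V : List ℕ) (x : G) (P : List ℕ) : Prop :=
  ∀ q < 8, P.getD q 0 < 8 ∧ x * E.ι (V.getD q 0) * x⁻¹ = E.ι (V.getD (P.getD q 0) 0)

theorem VActs.mul {V : List ℕ} {x y : G} {P Q : List ℕ} (hx : E.VActs V x P) (hy : E.VActs V y Q) :
    E.VActs V (x * y) ((List.range 8).map fun q => P.getD (Q.getD q 0) 0) := fun q hq => by
  obtain ⟨h1, h2⟩ := hy q hq
  obtain ⟨h3, h4⟩ := hx _ h1
  rw [List.getD_eq_getElem _ _ (by simpa using hq)]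
  simp only [List.getElem_map, List.getElem_range]
  exact ⟨h3, by rw [← h4, ← h2]; group⟩

include E in
/-- A 2-element has order dividing four. -/
theorem pow_four_eq_one {y : G} (h : y ^ 8 = 1) : y ^ 4 = 1 := by
  haveI : Fact (Nat.Prime 2) := ⟨Nat.prime_two⟩
  obtain ⟨k, -, hk⟩ := (Nat.dvd_prime_pow Nat.prime_two).1
    (show orderOf y ∣ 2 ^ 3 from orderOf_dvd_of_pow_eq_one h)
  obtain ⟨T, hT⟩ := (IsPGroup.of_card (p := 2) (n := k) (by rw [Nat.card_zpowers, hk] :
    Nat.card (Subgroup.zpowers y) = 2 ^ k)).exists_le_sylow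
  obtain ⟨S, hS⟩ := E.exists_sylow
  obtain ⟨c, hc⟩ := MulAction.exists_smul_eq G T S
  obtain ⟨x, hx, e⟩ : c * y * c⁻¹ ∈ E.sylSub :=
    hS ▸ ZStar.Elements.smul_mem hc (hT (Subgroup.mem_zpowers y))
  have h4 : (c * y * c⁻¹) ^ 4 = 1 := by
    have := Nat.eq_of_beq_eq_true (all_mem chk_exponent hx)
    rw [← e, show (4 : ℕ) = 2 * 2 from rfl, pow_mul, sq, sq, ← E.map_mul x (syl_lt hx) x (syl_lt hx),
      ← E.map_mul _ (mulC_lt (syl_lt hx) (syl_lt hx)) _ (mulC_lt (syl_lt hx) (syl_lt hx)), this, E.map_zero]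
  rw [conj_pow] at h4
  exact conj_eq_one_iff.1 h4

/-- An element acting with fourth power trivial on one of the subgroups of order eight. -/
theorem pow_four_of_vActs {V : List ℕ} (hV : V ∈ [vA, vB]) (hlen : V.length = 8) {y : G} {P : List ℕ}
    (h : E.VActs V y P) (hP : ∀ q < 8, P.getD (P.getD (P.getD (P.getD q 0) 0) 0) 0 = q) : y ^ 4 = 1 := by
  have hc := all_mem chk_v hV
  simp only [Bool.and_eq_true] at hc
  obtain ⟨⟨hlt, h1⟩, hcen⟩ := hc
  have hfix : ∀ q < 8, y ^ 4 * E.ι (V.getD q 0) * (y ^ 4)⁻¹ = E.ι (V.getD q 0) := fun q hq => by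
    obtain ⟨a1, e1⟩ := h q hq
    obtain ⟨a2, e2⟩ := h _ a1
    obtain ⟨a3, e3⟩ := h _ a2
    obtain ⟨-, e4⟩ := h _ a3
    rw [hP q hq, ← e3, ← e2, ← e1] at e4
    conv_rhs => rw [← e4]
    simp only [pow_succ, pow_zero, one_mul, mul_inv_rev, mul_assoc]
  obtain ⟨x, hx, e⟩ := E.range (y ^ 4) (by
    have := hfix 1 (by norm_num)
    rw [Nat.eq_of_beq_eq_true h1] at this
    exact mul_inv_eq_iff_eq_mul.1 this)
  have hcx := all_range hcen hx
  have hall : (V.all fun v => comC x v) = true := List.all_eq_true.2 fun v hv => by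
    obtain ⟨q, hq, rfl⟩ := List.mem_iff_getElem.1 hv
    refine (E.commute_iff hx (Nat.le_of_ble_eq_true (all_mem hlt hv))).2 ?_
    have := mul_inv_eq_iff_eq_mul.1 (hfix q (hlen ▸ hq))
    rwa [List.getD_eq_getElem _ _ hq, ← e] at this
  rw [hall, Bool.not_true, Bool.false_or] at hcx
  refine E.pow_four_eq_one ?_
  rw [show (8 : ℕ) = 4 * 2 from rfl, pow_mul, sq, ← e, ← E.map_mul x hx x hx, Nat.eq_of_beq_eq_true hcx,
    E.map_zero]

theorem letter_code {n m : G} {g c : ℕ} (h : letterCodes.getD g 0 = c + 1) :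
    E.letter n m g = E.ι c := by
  have hg : g < 8 := by
    have hall : ∀ g, 8 ≤ g → letterCodes.getD g 0 = 0 := fun g hg => by
      rcases Nat.lt_or_ge g 12 with hl | hl
      · exact (show ∀ g < 12, 8 ≤ g → letterCodes.getD g 0 = 0 by decide +kernel) g hl hg
      · exact List.getD_eq_default _ _ (by rw [chk_letters.1]; simpa using hl)
    by_contra hg
    rw [hall g (by omega)] at h
    omega
  rw [letter, if_neg (by omega), if_neg (by omega), if_neg (by omega), if_neg (by omega), if_pos hg, h,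
    Nat.add_sub_cancel]

variable {E} {n m : G}

theorem Amal.vActsN (hn : E.Amal n m) : E.VActs vA n [0, 2, 3, 1, 4, 6, 7, 5] := by
  intro q hq
  obtain ⟨kA2, -, -⟩ := E.k_sq
  have hk : n * E.ι kA * n⁻¹ = E.ι kA := by
    have e : E.ι kA * n = n * E.ι kA :=
      calc E.ι kA * n = E.ι kA * n * (E.ι kA * E.ι kA) := by rw [kA2, mul_one]
        _ = (E.ι kA * n * E.ι kA) * E.ι kA := by group
        _ = n * E.ι kA := by rw [hn.kAn]
    rw [← e, mul_inv_cancel_right]
  have hc : ∀ q < 8, ∀ r, r = [0, 2, 3, 1, 4, 6, 7, 5].getD q 0 → r < 8 ∧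
      (q < 4 → vA.getD q 0 = wC ([0, 1, 12, 13].getD q 0) ∧ [0, 1, 12, 13].getD q 0 < 16 ∧
        vA.getD r 0 = wC (lin sigA ([0, 1, 12, 13].getD q 0))) ∧
      (4 ≤ q → vA.getD q 0 = mulC (wC ([0, 1, 12, 13].getD (q - 4) 0)) kA ∧ [0, 1, 12, 13].getD (q - 4) 0 < 16 ∧
        vA.getD r 0 = mulC (wC (lin sigA ([0, 1, 12, 13].getD (q - 4) 0))) kA) := by
    have : ∀ q < 8, [0, 2, 3, 1, 4, 6, 7, 5].getD q 0 < 8 ∧
      (q < 4 → vA.getD q 0 = wC ([0, 1, 12, 13].getD q 0) ∧ [0, 1, 12, 13].getD q 0 < 16 ∧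
        vA.getD ([0, 2, 3, 1, 4, 6, 7, 5].getD q 0) 0 = wC (lin sigA ([0, 1, 12, 13].getD q 0))) ∧
      (4 ≤ q → vA.getD q 0 = mulC (wC ([0, 1, 12, 13].getD (q - 4) 0)) kA ∧ [0, 1, 12, 13].getD (q - 4) 0 < 16 ∧
        vA.getD ([0, 2, 3, 1, 4, 6, 7, 5].getD q 0) 0 =
          mulC (wC (lin sigA ([0, 1, 12, 13].getD (q - 4) 0))) kA) := by decide +kernel
    intro q hq r hr; subst hr; exact this q hq
  obtain ⟨h8, hlo, hhi⟩ := hc q hq _ rfl
  refine ⟨h8, ?_⟩
  rcases Nat.lt_or_ge q 4 with hq4 | hq4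
  · obtain ⟨e1, h16, e2⟩ := hlo hq4
    rw [e1, e2]; exact hn.actN _ h16
  · obtain ⟨e1, h16, e2⟩ := hhi hq4
    rw [e1, e2, E.map_mul _ (wC_lt h16) _ (by decide), E.map_mul _ (wC_lt (lin_lt _ _)) _ (by decide),
      ← conj_mul, hk]
    exact congrArg (· * E.ι kA) (hn.actN _ h16)

theorem Amal.vActsM (hn : E.Amal n m) : E.VActs vB m [0, 3, 1, 2, 4, 7, 5, 6] := by
  intro q hq
  obtain ⟨-, kB2, -⟩ := E.k_sq
  have hk : m * E.ι kB * m⁻¹ = E.ι kB := by
    have e : E.ι kB * m = m * E.ι kB :=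
      calc E.ι kB * m = E.ι kB * m * (E.ι kB * E.ι kB) := by rw [kB2, mul_one]
        _ = (E.ι kB * m * E.ι kB) * E.ι kB := by group
        _ = m * E.ι kB := by rw [hn.kBm]
    rw [← e, mul_inv_cancel_right]
  have hc : ∀ q < 8, [0, 3, 1, 2, 4, 7, 5, 6].getD q 0 < 8 ∧
      (q < 4 → vB.getD q 0 = wC ([0, 1, 14, 15].getD q 0) ∧ [0, 1, 14, 15].getD q 0 < 16 ∧
        vB.getD ([0, 3, 1, 2, 4, 7, 5, 6].getD q 0) 0 = wC (lin sigB ([0, 1, 14, 15].getD q 0))) ∧
      (4 ≤ q → vB.getD q 0 = mulC (wC ([0, 1, 14, 15].getD (q - 4) 0)) kB ∧ [0, 1, 14, 15].getD (q - 4) 0 < 16 ∧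
        vB.getD ([0, 3, 1, 2, 4, 7, 5, 6].getD q 0) 0 =
          mulC (wC (lin sigB ([0, 1, 14, 15].getD (q - 4) 0))) kB) := by decide +kernel
  obtain ⟨h8, hlo, hhi⟩ := hc q hq
  refine ⟨h8, ?_⟩
  rcases Nat.lt_or_ge q 4 with hq4 | hq4
  · obtain ⟨e1, h16, e2⟩ := hlo hq4
    rw [e1, e2]; exact hn.actM _ h16
  · obtain ⟨e1, h16, e2⟩ := hhi hq4
    rw [e1, e2, E.map_mul _ (wC_lt h16) _ (by decide), E.map_mul _ (wC_lt (lin_lt _ _)) _ (by decide),
      ← conj_mul, hk]
    exact congrArg (· * E.ι kB) (hn.actM _ h16)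

theorem Amal.vActsM' (hn : E.Amal n m) : E.VActs vB m⁻¹ [0, 2, 3, 1, 4, 6, 7, 5] := by
  intro q hq
  have hc : ∀ q < 8, [0, 2, 3, 1, 4, 6, 7, 5].getD q 0 < 8 ∧
      [0, 3, 1, 2, 4, 7, 5, 6].getD ([0, 2, 3, 1, 4, 6, 7, 5].getD q 0) 0 = q := by decide
  obtain ⟨h1, h2⟩ := hc q hq
  obtain ⟨-, e⟩ := hn.vActsM _ h1
  rw [h2] at e
  exact ⟨h1, by rw [← e]; group⟩

include E in
theorem code_vActs {x : ℕ} (hx : x < 192) {V : List ℕ} (hV : V ∈ [vA, vB]) (hlen : V.length = 8) {P : List ℕ}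
    (h : ∀ q < 8, P.getD q 0 < 8 ∧ cjC x (V.getD q 0) = V.getD (P.getD q 0) 0) : E.VActs V (E.ι x) P :=
  fun q hq => by
    have hc := all_mem chk_v hV
    simp only [Bool.and_eq_true] at hc
    have hlt : V.getD q 0 < 192 := by
      rw [List.getD_eq_getElem _ _ (hlen ▸ hq)]
      exact Nat.le_of_ble_eq_true (all_mem hc.1.1 (List.getElem_mem _))
    exact ⟨(h q hq).1, by rw [← E.map_cj hx hlt, (h q hq).2]⟩

theorem Amal.quads (hn : E.Amal n m) :
    (E.ι 10 * n) ^ 4 = 1 ∧ (E.ι 10 * E.ι kA * m⁻¹) ^ 4 = 1 ∧ (E.ι 10 * E.ι (wC 2) * m) ^ 4 = 1 := by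
  have hc : ∀ q < 8, ([0, 1, 4, 5, 6, 7, 2, 3].getD q 0 < 8 ∧
      cjC 10 (vA.getD q 0) = vA.getD ([0, 1, 4, 5, 6, 7, 2, 3].getD q 0) 0) ∧
      ([0, 1, 5, 4, 6, 7, 3, 2].getD q 0 < 8 ∧
      cjC 10 (vB.getD q 0) = vB.getD ([0, 1, 5, 4, 6, 7, 3, 2].getD q 0) 0) ∧
      ([0, 1, 3, 2, 4, 5, 7, 6].getD q 0 < 8 ∧
      cjC kA (vB.getD q 0) = vB.getD ([0, 1, 3, 2, 4, 5, 7, 6].getD q 0) 0) ∧
      ([0, 1, 2, 3, 5, 4, 7, 6].getD q 0 < 8 ∧
      cjC (wC 2) (vB.getD q 0) = vB.getD ([0, 1, 2, 3, 5, 4, 7, 6].getD q 0) 0) := by decide +kernel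
  have a0 := code_vActs (E := E) (x := 10) (by decide) (V := vA) (by simp) (by decide) fun q hq => (hc q hq).1
  have b0 := code_vActs (E := E) (x := 10) (by decide) (V := vB) (by simp) (by decide) fun q hq => (hc q hq).2.1
  have b2 := code_vActs (E := E) (x := kA) (by decide) (V := vB) (by simp) (by decide) fun q hq => (hc q hq).2.2.1
  have b5 := code_vActs (E := E) (x := wC 2) (wC_lt (by norm_num)) (V := vB) (by simp) (by decide) fun q hq =>
    (hc q hq).2.2.2
  exact ⟨E.pow_four_of_vActs (V := vA) (by simp) (by decide) (VActs.mul E a0 hn.vActsN) (by decide),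
    E.pow_four_of_vActs (V := vB) (by simp) (by decide) (VActs.mul E (VActs.mul E b0 b2) hn.vActsM') (by decide),
    E.pow_four_of_vActs (V := vB) (by simp) (by decide) (VActs.mul E (VActs.mul E b0 b5) hn.vActsM) (by decide)⟩

theorem Amal.acts_rel {p : G} {σ : ℕ} (hp : E.Acts p σ) {i : ℕ} (hi : i < 16) :
    p * (E.w i * (p⁻¹ * E.w (lin σ i))) = 1 := by
  rw [show p * (E.w i * (p⁻¹ * E.w (lin σ i))) = (p * E.w i * p⁻¹) * E.w (lin σ i) by group, hp i hi,
    E.w_sq (lin_lt _ _)]

theorem Amal.rel_eq_one (hn : E.Amal n m) {r : List ℕ} (hr : r ∈ nRels ++ cRels) :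
    (r.map (E.letter n m)).prod = 1 := by
  rcases List.mem_append.1 hr with h | h
  · obtain ⟨q1, q2, q3⟩ := hn.quads
    obtain ⟨kA2, kB2, -⟩ := E.k_sq
    have h4 : ∀ y : G, y ^ 4 = 1 → y * (y * (y * y)) = 1 := fun y e => by
      rw [← e, pow_succ', pow_succ', pow_succ', pow_one]
    have c : ∀ g < 8, E.letter n m g = E.ι (letterCodes.getD g 0 - 1) := fun g hg => by
      rw [letter, if_neg (by omega), if_neg (by omega), if_neg (by omega), if_neg (by omega), if_pos hg]
    have hl : E.letter n m 0 = E.ι 10 ∧ E.letter n m 2 = E.ι kA ∧ E.letter n m 3 = E.ι kB ∧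
        E.letter n m 4 = E.w 1 ∧ E.letter n m 5 = E.w 2 ∧ E.letter n m 6 = E.w 4 ∧ E.letter n m 7 = E.w 8 ∧
        E.letter n m 8 = n ∧ E.letter n m 9 = n⁻¹ ∧ E.letter n m 10 = m ∧ E.letter n m 11 = m⁻¹ := by
      refine ⟨?_, ?_, ?_, ?_, ?_, ?_, ?_, rfl, rfl, rfl, rfl⟩ <;>
        · rw [c _ (by norm_num), chk_letters.1]; simp [w]
    obtain ⟨l0, l2, l3, l4, l5, l6, l7, l8, l9, l10, l11⟩ := hl
    have x2 : ∀ {a b : ℕ}, a < 16 → b < 16 → E.w a * E.w b = E.w (a ^^^ b) := fun ha hb => E.w_mul ha hb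
    have ks : ∀ (k p : G), k * k = 1 → ∀ p', k * p * k = p' → k * (p * (k * p'⁻¹)) = 1 := fun k p _ p' e => by
      rw [← e]; group
    simp only [nRels, List.mem_cons, List.not_mem_nil, or_false] at h
    rcases h with r | r | r | r | r | r | r | r | r | r | r | r | r | r | r | r | r | r <;> subst r <;>
      simp only [List.map_cons, List.map_nil, List.prod_cons, List.prod_nil, mul_one, l0, l2, l3, l4, l5, l6,
        l7, l8, l9, l10, l11]
    · rw [← hn.cubeN, pow_succ', pow_two]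
    · rw [← hn.cubeM, pow_succ', pow_two]
    · rw [← mul_assoc, ← mul_assoc, hn.comm]; group
    · rw [x2 (by norm_num) (by norm_num)]; exact Amal.acts_rel hn.actN (i := 1) (by norm_num)
    · exact Amal.acts_rel hn.actN (i := 2) (by norm_num)
    · rw [x2 (by norm_num) (by norm_num)]; exact Amal.acts_rel hn.actN (i := 4) (by norm_num)
    · rw [x2 (by norm_num) (by norm_num), x2 (by norm_num) (by decide)]
      exact Amal.acts_rel hn.actN (i := 8) (by norm_num)
    · exact ks _ _ kA2 _ hn.kAn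
    · simpa using ks _ _ kB2 _ hn.kBn
    · rw [x2 (by norm_num) (by norm_num), x2 (by norm_num) (by decide), x2 (by norm_num) (by decide)]
      exact Amal.acts_rel hn.actM (i := 1) (by norm_num)
    · exact Amal.acts_rel hn.actM (i := 2) (by norm_num)
    · rw [x2 (by norm_num) (by norm_num)]; exact Amal.acts_rel hn.actM (i := 4) (by norm_num)
    · rw [x2 (by norm_num) (by norm_num)]; exact Amal.acts_rel hn.actM (i := 8) (by norm_num)
    · simpa using ks _ _ kA2 _ hn.kAm
    · exact ks _ _ kB2 _ hn.kBm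
    · simpa [mul_assoc] using h4 _ q1
    · simpa [mul_assoc] using h4 _ q2
    · simpa [mul_assoc, Emb.w] using h4 _ q3
  · have h' := all_mem chk_cRels h
    simp only [Bool.and_eq_true] at h'
    have H : ∀ r : List ℕ, (∀ g ∈ r, g < 8) → ∀ x < 192,
        r.foldl (fun x g => mulC x (letterCodes.getD g 0 - 1)) x < 192 ∧
          E.ι (r.foldl (fun x g => mulC x (letterCodes.getD g 0 - 1)) x) =
            E.ι x * (r.map (E.letter n m)).prod := by
      intro r
      induction r with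
      | nil => intro _ x hx; exact ⟨hx, by simp⟩
      | cons g r ih =>
        intro hr x hx
        have hg := hr g List.mem_cons_self
        have hc : ∀ g < 8, letterCodes.getD g 0 - 1 < 192 ∧ 0 < letterCodes.getD g 0 := by decide +kernel
        obtain ⟨hc1, hc2⟩ := hc g hg
        obtain ⟨h1, h2⟩ := ih (fun a ha => hr a (List.mem_cons_of_mem _ ha)) _ (mulC_lt hx hc1)
        refine ⟨h1, h2.trans ?_⟩
        rw [E.map_mul x hx _ hc1, List.map_cons, List.prod_cons, mul_assoc,
          E.letter_code (n := n) (m := m) (show letterCodes.getD g 0 = (letterCodes.getD g 0 - 1) + 1 by omega)]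
    obtain ⟨-, e⟩ := H r (fun g hg => by simpa using all_mem h'.1 hg) 0 (by norm_num)
    rw [Nat.eq_of_beq_eq_true h'.2, E.map_zero, one_mul] at e
    exact e.symm

theorem Amal.letter_inv (hn : E.Amal n m) {g : ℕ} (hg : g ≤ 12) :
    E.letter n m (mainData.linv.getD g 13) = (E.letter n m g)⁻¹ := by
  have hlt : ∀ g < 8, mainData.linv.getD g 13 < 8 ∧
      mulC (letterCodes.getD (mainData.linv.getD g 13) 0 - 1) (letterCodes.getD g 0 - 1) = 0 ∧
      letterCodes.getD g 0 - 1 < 192 ∧ letterCodes.getD (mainData.linv.getD g 13) 0 - 1 < 192 := by decide +kernel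
  rcases Nat.lt_or_ge g 8 with h8 | h8
  · obtain ⟨h1, h2, h3, h4⟩ := hlt g h8
    refine eq_inv_of_mul_eq_one_left ?_
    rw [letter, if_neg (by omega), if_neg (by omega), if_neg (by omega), if_neg (by omega), if_pos h1,
      letter, if_neg (by omega), if_neg (by omega), if_neg (by omega), if_neg (by omega), if_pos h8,
      ← E.map_mul _ h4 _ h3, h2, E.map_zero]
  · interval_cases g <;> simp [letter, mainData]

/-- The interpretation of the certificate. -/
def interp (hn : E.Amal n m) : Engine.Interp mainData G where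
  ι := E.ι
  L := E.letter n m
  mulLt _ hx _ hy := mulC_lt hx hy
  mulMap := E.map_mul
  zeroMap := E.map_zero
  oneLetter := rfl
  codeMap _ _ _ hc := E.letter_code hc
  invMap _ hg := hn.letter_inv hg
  ruleMap := by
    intro ru hru
    rcases List.mem_append.1 hru with hru | hru
    · obtain ⟨i, hi, e⟩ := List.mem_iff_getElem.1 hru
      have h := all_range chk_rules hi
      simp only [List.getD_eq_getElem _ _ hi, e, Bool.and_eq_true, decide_eq_true_eq, List.all_eq_true] at h
      obtain ⟨⟨⟨hlt, hw⟩, hs⟩, heq⟩ := h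
      have hinvW : ∀ w : List ℕ, (∀ g ∈ w, g < 12) →
          ((w.reverse.map fun g => mainData.linv.getD g 13).map (E.letter n m)).prod =
            ((w.map (E.letter n m)).prod)⁻¹ := by
        intro w hw'
        rw [List.prod_inv_reverse]
        simp only [List.map_reverse, List.map_map]
        congr 2
        exact List.map_congr_left fun g hg => hn.letter_inv (hw' g hg).le
      set src := ruleSrc.getD i (0, 0, 0)
      have hmem : (nRels ++ cRels).getD src.1 [] ∈ nRels ++ cRels := by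
        rw [List.getD_eq_getElem _ _ hs]; exact List.getElem_mem _
      set r := (nRels ++ cRels).getD src.1 []
      have hrlt : ∀ g ∈ r, g < 12 := fun g hg => by simpa using all_mem (all_mem chk_rel_lt hmem) hg
      have hone : ((ru.1 :: ru.2.reverse.map fun g => mainData.linv.getD g 13).map (E.letter n m)).prod = 1 := by
        rw [heq]
        refine rotate_prod_eq_one _ _ ?_ _
        split
        · exact hn.rel_eq_one hmem
        · rw [hinvW r hrlt, hn.rel_eq_one hmem, inv_one]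
      rw [List.map_cons, List.prod_cons, hinvW _ hw, mul_inv_eq_one] at hone
      exact hone
    · have h := all_mem chk_free hru
      simp only [Bool.and_eq_true, Bool.or_eq_true, decide_eq_true_eq] at h
      obtain ⟨hle, (h | ⟨h1, h2⟩) | ⟨h1, h2, h3, h4⟩⟩ := h
      · rw [h]; simp
      · rw [h1, h2]; rfl
      · obtain ⟨a, b, hab⟩ : ∃ a b, ru.2 = [a, b] := List.length_eq_two.1 h2
        rw [hab] at h3 h4 ⊢
        simp only [List.getD_cons_succ, List.getD_cons_zero] at h3 h4
        rw [h1, ← h4, List.map_cons, List.map_cons, List.map_nil, List.prod_cons, List.prod_cons, List.prod_nil,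
          mul_one, hn.letter_inv h3.le, inv_mul_cancel]
        rfl

end Emb

end Cfsg.Agent.Lib.A8Recog
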